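import Groth.Agent.H19Grp.AffineCriteria
import Groth.Agent.H19Grp.AntiAffineGroup
import Groth.Agent.H19Grp.QuotientDesc
import Groth.Agent.H19Grp.AffineQuotient
import Groth.Agent.H13Desc.Flat
import Mathlib

/-!
# Quotients killing the anti-affine part are affine
-/

set_option autoImplicit false
set_option maxHeartbeats 1000000
set_option synthInstance.maxHeartbeats 100000
set_option linter.style.haveILetI false
set_option backward.isDefEq.respectTransparency false

universe u

open CategoryTheory CategoryTheory.Limits MonoidalCategory CartesianMonoidalCategory MonObj GrpObj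
  AlgebraicGeometry

namespace Groth.Agent.H19Quot

open Groth.Agent.H19Grp

/-- A flat surjective homomorphism killing the kernel of the affinization has affine target. -/
theorem isAffine_of_kill_incl {k : Type u} [Field k] {G Q : Over (Spec (CommRingCat.of k))} [GrpObj G] [GrpObj Q]
    [LocallyOfFiniteType G.hom] [QuasiCompact G.hom] [LocallyOfFiniteType Q.hom] [QuasiCompact Q.hom]
    (q : G ⟶ Q) [IsMonHom q] [Flat q.left] [Surjective q.left]
    (h : AffinizationKernel.incl G ≫ q = 1) : IsAffine Q.left := by
  haveI : IsNoetherianRing (CommRingCat.of k) := inferInstanceAs (IsNoetherianRing k)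
  haveI : IsLocallyNoetherian G.left := LocallyOfFiniteType.isLocallyNoetherian G.hom
  haveI : QuasiSeparated G.hom := inferInstance
  obtain ⟨gA, hρ⟩ := Affinization.exists_grpObj G
  letI := gA
  haveI := hρ
  obtain ⟨hf, hs, hAl⟩ := Affinization.flat_surjective G
  haveI := hf; haveI := hs; haveI := hAl
  let r := Affinization.rho G
  haveI : IsLocallyNoetherian (Affinization.aff G).left := LocallyOfFiniteType.isLocallyNoetherian (Affinization.aff G).hom
  haveI : LocallyOfFiniteType (r.left ≫ (Affinization.aff G).hom) := by rw [Over.w]; infer_instance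
  haveI : LocallyOfFiniteType r.left := locallyOfFiniteType_of_comp r.left (Affinization.aff G).hom
  haveI : LocallyOfFinitePresentation r.left := inferInstance
  obtain ⟨ψ, hψ, -⟩ := QuotientDesc.existsUnique_desc r q fun T a b hab => by
    obtain ⟨n, hn⟩ := AffinizationKernel.lift_rho G (a * b⁻¹) (by
      rw [MonObj.mul_comp, GrpObj.inv_comp, hab, mul_inv_cancel, IsMonHom.one_hom, Hom.one_def])
    have h1 : (a * b⁻¹) ≫ q = 1 := by rw [← hn, Category.assoc, h, MonObj.comp_one]
    rwa [MonObj.mul_comp, GrpObj.inv_comp, mul_inv_eq_one] at h1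
  haveI : Epi r.left := Flat.epi_of_flat_of_surjective r.left
  haveI : Epi r := Over.epi_of_epi_left _
  haveI : Epi (r ⊗ₘ r) := H19Grp.epi_tensorHom_of_fpqc r r
  haveI : IsMonHom ψ := ⟨by rw [← IsMonHom.one_hom (f := r), Category.assoc, hψ, IsMonHom.one_hom], by
    rw [← cancel_epi (r ⊗ₘ r), ← IsMonHom.mul_hom_assoc, hψ, tensorHom_comp_tensorHom_assoc, hψ, IsMonHom.mul_hom]⟩
  haveI : Flat ψ.left := by
    haveI : Flat (𝟙 G.left ≫ r.left) := by rw [Category.id_comp]; infer_instance
    haveI : Surjective (𝟙 G.left ≫ r.left) := by rw [Category.id_comp]; infer_instance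
    haveI : Flat (r.left ≫ ψ.left) := by rw [← Over.comp_left, hψ]; infer_instance
    exact H13Desc.flat_of_refinement r.left ψ.left (𝟙 G.left)
  haveI : Surjective ψ.left := by
    haveI : Surjective (r.left ≫ ψ.left) := by rw [← Over.comp_left, hψ]; infer_instance
    exact Surjective.of_comp r.left ψ.left
  haveI : IsAffine (Affinization.aff G).left := by
    show IsAffine (Spec Γ(G.left, ⊤))
    infer_instance
  exact AffineQuotient.isAffine_of_flat_surjective (Affinization.aff G) Q ψ

/-- The kernel of the affinization of a connected group lies in the centre. -/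
theorem incl_factors_centre {k : Type u} [Field k] {G Z : Over (Spec (CommRingCat.of k))} [GrpObj G] [GrpObj Z]
    [LocallyOfFiniteType G.hom] [QuasiCompact G.hom] [ConnectedSpace G.left] {j : Z ⟶ G} (hZ : Red.IsCentre j) :
    ∃ z : AffinizationKernel.N G ⟶ Z, z ≫ j = AffinizationKernel.incl G := by
  haveI : IsNoetherianRing (CommRingCat.of k) := inferInstanceAs (IsNoetherianRing k)
  haveI : IsLocallyNoetherian G.left := LocallyOfFiniteType.isLocallyNoetherian G.hom
  obtain ⟨gM, hl⟩ := AffinizationKernel.exists_grpObj G
  letI := gM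
  haveI := hl
  obtain ⟨hiso, -, -⟩ := AffinizationKernel.smooth_and_connected G
  haveI := hiso
  haveI := AffinizationKernel.isClosedImmersion_incl G
  haveI : LocallyOfFiniteType (AffinizationKernel.N G).hom := by rw [← Over.w (AffinizationKernel.incl G)]; infer_instance
  haveI : QuasiCompact (AffinizationKernel.N G).hom := by rw [← Over.w (AffinizationKernel.incl G)]; infer_instance
  refine (hZ.2.2 _ _).2 fun X' x h => ?_
  rw [Category.comp_id]
  exact AntiAffineGroup.central (AffinizationKernel.incl G) x h

end Groth.Agent.H19Quot
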