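import Mathlib
import Groth.Agent.S0411

/-!
# A dense open in which finite sets lie in affine opens
-/

set_option autoImplicit false
set_option maxHeartbeats 1000000
set_option linter.style.haveILetI false
set_option backward.isDefEq.respectTransparency false

universe u

open CategoryTheory CategoryTheory.Limits AlgebraicGeometry

namespace Groth.Agent.H19Quot

/-- Every scheme has a dense open in which finite sets lie in affine opens. -/
theorem exists_dense_finite_affine (X : Scheme.{u}) :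
    ∃ O : X.Opens, Dense (O : Set X) ∧
      ∀ Z : Set X, Z.Finite → Z ⊆ O → ∃ V : X.Opens, IsAffineOpen V ∧ Z ⊆ V := by
  classical
  let P : Set (Set X.Opens) := {F | (∀ V ∈ F, IsAffineOpen V) ∧ F.Pairwise Disjoint}
  obtain ⟨F, hF⟩ := zorn_subset P (fun c hc hchain => ⟨⋃₀ c,
    ⟨fun V ⟨G, hG, hV⟩ => (hc hG).1 V hV, fun V ⟨G, hG, hV⟩ V' ⟨G', hG', hV'⟩ hne => by
      rcases hchain.total hG hG' with h | h
      · exact (hc hG').2 (h hV) hV' hne
      · exact (hc hG).2 hV (h hV') hne⟩, fun G hG => Set.subset_sUnion_of_mem hG⟩)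
  refine ⟨⨆ V : F, (V : X.Opens), ?_, fun Z hZ hZF => ?_⟩
  · rw [dense_iff_inter_open]
    rintro U hU ⟨x, hx⟩
    by_contra hne
    obtain ⟨V, hV, hxV, hVU⟩ := exists_isAffineOpen_mem_and_subset (x := x) (U := ⟨U, hU⟩) hx
    have hdisj : ∀ W ∈ F, Disjoint V W := fun W hW => by
      rw [disjoint_iff]
      ext y
      simp only [TopologicalSpace.Opens.coe_inf, Set.mem_inter_iff, TopologicalSpace.Opens.coe_bot,
        Set.mem_empty_iff_false, iff_false, not_and]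
      intro hyV hyW
      exact hne ⟨y, hVU hyV, TopologicalSpace.Opens.mem_iSup.2 ⟨⟨W, hW⟩, hyW⟩⟩
    have hmem : insert V F ∈ P := by
      refine ⟨fun W hW => ?_, hF.prop.2.insert fun W hW _ => ⟨hdisj W hW, (hdisj W hW).symm⟩⟩
      rcases hW with rfl | hW
      · exact hV
      · exact hF.prop.1 W hW
    have hVF : V ∈ F := hF.le_of_ge hmem (Set.subset_insert V F) (Set.mem_insert V F)
    exact hne ⟨x, hx, TopologicalSpace.Opens.mem_iSup.2 ⟨⟨V, hVF⟩, hxV⟩⟩
  · have h : ∀ z : Z, ∃ V ∈ F, (z : X) ∈ V := fun z => by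
      obtain ⟨⟨V, hV⟩, hz⟩ := TopologicalSpace.Opens.mem_iSup.1 (hZF z.2)
      exact ⟨V, hV, hz⟩
    choose V hV hzV using h
    haveI : Finite Z := hZ
    let σ : Set X.Opens := Set.range V
    haveI : Finite σ := Set.finite_range V
    refine ⟨⨆ W : σ, (W : X.Opens), IsAffineOpen.iSup_of_disjoint ?_ ?_, fun z hz => ?_⟩
    · rintro ⟨_, z, rfl⟩
      exact hF.prop.1 _ (hV z)
    · rintro ⟨_, z, rfl⟩ ⟨_, z', rfl⟩ hne
      exact hF.prop.2 (hV z) (hV z') (fun e => hne (Subtype.ext e))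
    · exact TopologicalSpace.Opens.mem_iSup.2 ⟨⟨_, ⟨z, hz⟩, rfl⟩, hzV ⟨z, hz⟩⟩

/-- Finite sets of an open of an affine open lie in affine opens inside it. -/
theorem exists_affine_of_openImmersion {X Y : Scheme.{u}} (f : X ⟶ Y) [IsOpenImmersion f]
    (hY : ∀ Z : Set Y, Z.Finite → Z ⊆ Set.range f → ∃ V : Y.Opens, IsAffineOpen V ∧ Z ⊆ V)
    (Z : Set X) (hZ : Z.Finite) : ∃ V : X.Opens, IsAffineOpen V ∧ Z ⊆ V := by
  obtain ⟨V, hV, hZV⟩ := hY (f '' Z) (hZ.image f) (Set.image_subset_range f Z)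
  haveI : IsAffine (V : Scheme.{u}) := hV
  have hT : (Z.preimage (f ⁻¹ᵁ V).ι).Finite := hZ.preimage (f ⁻¹ᵁ V).ι.isOpenEmbedding.injective.injOn
  obtain ⟨W, hW, hTW⟩ := S0411.result (f ∣_ V) hT.toFinset
  refine ⟨(f ⁻¹ᵁ V).ι ''ᵁ W, hW.image_of_isOpenImmersion _, fun z hz => ?_⟩
  have hz' : z ∈ f ⁻¹ᵁ V := hZV ⟨z, hz, rfl⟩
  exact ⟨⟨z, hz'⟩, hTW _ ((Set.Finite.mem_toFinset _).2 hz), rfl⟩

end Groth.Agent.H19Quot
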