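import Groth.Agent.H19Quot.Generic
import Groth.Agent.H12AlgSp.HilbQuot
import Groth.Agent.H12AlgSp.FinLocFreeQuot

/-!
# Finite descent of quotients

A quotient by a flat equivalence relation which exists after a finite locally free extension of the base, and in
which finite sets lie in affine opens, exists over the base.
-/

set_option autoImplicit false
set_option maxHeartbeats 1000000
set_option synthInstance.maxHeartbeats 400000
set_option linter.style.haveILetI false
set_option backward.isDefEq.respectTransparency false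

universe u

open CategoryTheory CategoryTheory.Limits MonoidalCategory CartesianMonoidalCategory AlgebraicGeometry
open AlgSp Groth.Agent.H12AlgSp Groth.Agent.H13AlgSp

namespace Groth.Agent.H19Quot

variable {S : Scheme.{u}}

/-- A point lifts along an fppf morphism after an fppf cover. -/
theorem exists_fppf_lift {W Y T : Over S} (p : W ⟶ Y) [Flat p.left] [Surjective p.left]
    [LocallyOfFinitePresentation p.left] (y : T ⟶ Y) :
    ∃ (P : Over S) (a : P ⟶ W) (c : P ⟶ T), a ≫ p = c ≫ y ∧
      Flat c.left ∧ LocallyOfFinitePresentation c.left ∧ Surjective c.left :=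
  ⟨Over.mk (pullback.snd p.left y.left ≫ T.hom), Over.homMk (pullback.fst p.left y.left) (by
      show pullback.fst p.left y.left ≫ W.hom = pullback.snd p.left y.left ≫ T.hom
      rw [← Over.w p, ← Over.w y, pullback.condition_assoc]), Over.homMk (pullback.snd p.left y.left) rfl,
    Over.OverMorphism.ext pullback.condition, inferInstanceAs (Flat (pullback.snd p.left y.left)),
    inferInstanceAs (LocallyOfFinitePresentation (pullback.snd p.left y.left)),
    inferInstanceAs (Surjective (pullback.snd p.left y.left))⟩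

variable {R U : Over S} {s t : R ⟶ U}

/-- Descent of a full quotient along a finite locally free extension of the base. -/
theorem descend_full (h : IsEqvRel s t) [Flat s.left] [LocallyOfFinitePresentation s.left]
    (E : Over S) [IsFinite E.hom] [Flat E.hom] [LocallyOfFinitePresentation E.hom] [Surjective E.hom]
    {V : Over S} {p' : U ⊗ E ⟶ V} (hQ : IsQuotOn (s ▷ E) (t ▷ E) (𝟙 (U ⊗ E)) p')
    (hV : ∀ Z : Set V.left, Z.Finite → ∃ O : V.left.Opens, IsAffineOpen O ∧ Z ⊆ O) :
    ∃ (Y : Over S) (p : U ⟶ Y), IsQuotOn s t (𝟙 U) p := by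
  obtain ⟨sq, hπe⟩ := isPullback_quotMap h
  have hπ := repWith_fppf_quotMap h
  have hA := isAlgSpace_quot_fppf h
  haveI := hQ.flat; haveI := hQ.surjective; haveI := hQ.lfp
  have hfst : fppfMor (fst U E).left :=
    ⟨⟨inferInstanceAs (Surjective (pullback.fst U.hom E.hom)), inferInstanceAs (Flat (pullback.fst U.hom E.hom))⟩,
      inferInstanceAs (LocallyOfFinitePresentation (pullback.fst U.hom E.hom))⟩
  haveI : IsFinite (fst U E).left := inferInstanceAs (IsFinite (pullback.fst U.hom E.hom))
  haveI : Epi ((yon S).map p') :=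
    epi_of_repWith_fppf ((repWith_yon_map_iff _ p').2 ⟨⟨inferInstance, inferInstance⟩, inferInstance⟩)
  haveI : IsRegularEpi ((yon S).map p') := IsRegularEpiCategory.regularEpiOfEpi _
  -- the map to the quotient sheaf
  let KO : Over S := Over.mk (pullback.fst p'.left p'.left ≫ (U ⊗ E).hom)
  let a₀ : KO ⟶ U ⊗ E := Over.homMk (pullback.fst p'.left p'.left) rfl
  let b₀ : KO ⟶ U ⊗ E := Over.homMk (pullback.snd p'.left p'.left) (by
    show pullback.snd p'.left p'.left ≫ (U ⊗ E).hom = pullback.fst p'.left p'.left ≫ (U ⊗ E).hom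
    rw [← Over.w p', pullback.condition_assoc])
  have hK : IsPullback a₀ b₀ p' p' := IsPullback.of_map (Over.forget S)
    (Over.OverMorphism.ext pullback.condition) (IsPullback.of_hasPullback p'.left p'.left)
  obtain ⟨r₀, hr₁, hr₂⟩ := (hQ.rel a₀ b₀).1 hK.w
  rw [Category.comp_id] at hr₁ hr₂
  have w : (yon S).map a₀ ≫ (yon S).map (fst U E) ≫ quotMap s t =
      (yon S).map b₀ ≫ (yon S).map (fst U E) ≫ quotMap s t := by
    rw [← Functor.map_comp_assoc, ← Functor.map_comp_assoc, ← hr₁, ← hr₂, Category.assoc, Category.assoc,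
      whiskerRight_fst, whiskerRight_fst, ← Category.assoc, ← Category.assoc]
    simp only [Functor.map_comp, Category.assoc, sq.w]
  let χ : (yon S).obj V ⟶ QuotSh.quot Scheme.fppfPrecoverage s t :=
    Cofork.IsColimit.desc (IsKernelPair.toCoequalizer' (hK.map (yon S))) ((yon S).map (fst U E) ≫ quotMap s t) w
  have hχ : (yon S).map p' ≫ χ = (yon S).map (fst U E) ≫ quotMap s t :=
    Cofork.IsColimit.π_desc' (IsKernelPair.toCoequalizer' (hK.map (yon S))) _ w
  -- it pulls back to `U ⊗ E`
  have hsqχ : IsPullback ((yon S).map p') ((yon S).map (fst U E)) χ (quotMap s t) := by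
    haveI : Mono (pullback.lift ((yon S).map p') ((yon S).map (fst U E)) hχ) := mono_of_yon fun T x y e => by
      obtain ⟨a, rfl⟩ := (yon S).map_surjective x
      obtain ⟨b, rfl⟩ := (yon S).map_surjective y
      have e₁ := e =≫ pullback.fst _ _
      have e₂ := e =≫ pullback.snd _ _
      simp only [Category.assoc, pullback.lift_fst, pullback.lift_snd, ← Functor.map_comp] at e₁ e₂
      obtain ⟨r, hra, hrb⟩ := (hQ.rel a b).1 ((yon S).map_injective e₁)
      rw [Category.comp_id] at hra hrb
      obtain ⟨e₀, he₀t, he₀s⟩ := (h.equivalence T).refl (a ≫ fst U E)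
      have hre : r ≫ fst R E = e₀ := h.injective T _ _
        (by rw [he₀t, Category.assoc, ← whiskerRight_fst, ← Category.assoc, hrb, (yon S).map_injective e₂])
        (by rw [he₀s, Category.assoc, ← whiskerRight_fst, ← Category.assoc, hra])
      refine congrArg _ (CartesianMonoidalCategory.hom_ext _ _ ((yon S).map_injective e₂) ?_)
      rw [← hra, ← hrb, Category.assoc, Category.assoc, whiskerRight_snd, whiskerRight_snd]
    haveI : IsIso (pullback.lift ((yon S).map p') ((yon S).map (fst U E)) hχ) :=
      isIso_of_mono_of_local_lifts _ fun T y => by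
        obtain ⟨v, hv⟩ := (yon S).map_surjective (y ≫ pullback.fst _ _)
        obtain ⟨u₀, hu⟩ := (yon S).map_surjective (y ≫ pullback.snd _ _)
        obtain ⟨P, a, c, ha, hc₁, hc₂, hc₃⟩ := exists_fppf_lift p' v
        have e₁ : (yon S).map (c ≫ u₀) ≫ quotMap s t = (yon S).map (a ≫ fst U E) ≫ quotMap s t := by
          rw [Functor.map_comp, Functor.map_comp, Category.assoc, Category.assoc, ← hχ, hu,
            ← Functor.map_comp_assoc, ha, Functor.map_comp, Category.assoc, hv, Category.assoc, Category.assoc,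
            pullback.condition]
        obtain ⟨l, hl₁, hl₂⟩ := sq.exists_lift _ _ e₁
        obtain ⟨r, rfl⟩ := (yon S).map_surjective l
        rw [← Functor.map_comp] at hl₁ hl₂
        have hl₁' := (yon S).map_injective hl₁
        have hl₂' := (yon S).map_injective hl₂
        let rr : P ⟶ R ⊗ E := CartesianMonoidalCategory.lift r (a ≫ snd U E)
        have hrs : rr ≫ s ▷ E = a := by
          apply CartesianMonoidalCategory.hom_ext
          · rw [Category.assoc, whiskerRight_fst, ← Category.assoc, lift_fst, hl₂']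
          · rw [Category.assoc, whiskerRight_snd, lift_snd]
        refine ⟨PUnit.{u + 1}, fun _ => P, fun _ => c, ofArrows_mem_J _ (fun _ => hc₁) (fun _ => hc₂)
          (fun x => ⟨⟨⟩, hc₃.surj x⟩), fun _ => ⟨(yon S).map (rr ≫ t ▷ E), ?_⟩⟩
        apply pullback.hom_ext
        · rw [Category.assoc, pullback.lift_fst, Category.assoc, ← hv, ← Functor.map_comp, ← Functor.map_comp]
          refine congrArg _ ?_
          rw [← ha, ← hrs]
          exact ((hQ.rel _ _).2 ⟨rr, (Category.comp_id _).symm, (Category.comp_id _).symm⟩).symm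
        · rw [Category.assoc, pullback.lift_snd, Category.assoc, ← hu, ← Functor.map_comp, ← Functor.map_comp]
          refine congrArg _ ?_
          rw [Category.assoc, whiskerRight_fst, ← Category.assoc, lift_fst, hl₁']
    exact IsPullback.of_iso_pullback ⟨hχ⟩ (asIso (pullback.lift ((yon S).map p') ((yon S).map (fst U E)) hχ))
      (pullback.lift_fst _ _ hχ) (pullback.lift_snd _ _ hχ)
  have hχr : Representable χ := Functor.relativelyRepresentable.of_diag hA.diag _
  have hχfp : RepWith fppfMor χ := by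
    haveI : MorphismProperty.DescendsAlong (fppfMor : MorphismProperty Scheme.{u}) fppfMor.{u} := inferInstance
    exact repWith_of_fppf_base (Qc := fppfMor.{u}) hχr hπ hsqχ ((repWith_yon_map_iff _ _).2 hfst)
  have hχfin : RepWith @IsFinite χ := by
    haveI : MorphismProperty.DescendsAlong (@IsFinite : MorphismProperty Scheme.{u}) fppfMor.{u} := inferInstance
    exact repWith_of_fppf_base (Qc := fppfMor.{u}) hχr hπ hsqχ ((repWith_yon_map_iff _ _).2 inferInstance)
  -- the induced relation on `V`
  obtain ⟨RV, sV, tV', sqV⟩ := hχr χ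
  obtain ⟨tV, rfl⟩ := (yon S).map_surjective tV'
  have hsfin : IsFinite sV.left := hχfin.property _ _ sV sqV
  obtain ⟨⟨-, hsflat⟩, hsfp⟩ : fppfMor sV.left := hχfp.property _ _ sV sqV
  obtain ⟨Γ, hΓU, hΓR, hpU, hs, ht, hj⟩ := Hilb.exists_groupoid sqV
  obtain ⟨U₁, R₁, pU, pR, s₁, t₁, e₁, i₁, c₁, sO, tO, cs, ct, as, es, et, ce, ec, is', it', ci, ic⟩ := Γ
  dsimp only at hΓU hΓR hpU hs ht
  subst hΓU hΓR
  simp only [eqToHom_refl, Category.id_comp, Category.comp_id] at hpU hs ht
  subst hpU hs ht
  let Γ : Grpd.GroupoidScheme S := ⟨V.left, RV.left, V.hom, pR, sV.left, tV.left, e₁, i₁, c₁, sO, tO, cs, ct, as, es,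
    et, ce, ec, is', it', ci, ic⟩
  haveI : IsFinite Γ.s := hsfin
  haveI : Flat Γ.s := hsflat
  haveI : LocallyOfFinitePresentation Γ.s := hsfp
  haveI : Mono Γ.j := hj
  obtain ⟨M, m, hmfin, hmflat, hmfp, hmsq, hmq⟩ := exists_finLocFree_quotient Γ fun x =>
    hV _ ((Γ.s.finite_preimage_singleton x).image _)
  haveI := surjective_of_isQuotient hmq
  let m' : V ⟶ M := Over.homMk m.left (Over.w m)
  haveI : Flat m'.left := hmflat
  haveI : LocallyOfFinitePresentation m'.left := hmfp
  haveI : Surjective m'.left := ‹Surjective m.left›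
  have hm : IsPullback tV sV m' m' := IsPullback.of_map (Over.forget S) (Over.OverMorphism.ext hmsq.w) hmsq
  haveI : Epi ((yon S).map m') :=
    epi_of_repWith_fppf ((repWith_yon_map_iff _ m').2 ⟨⟨inferInstance, inferInstance⟩, inferInstance⟩)
  haveI : IsRegularEpi ((yon S).map m') := IsRegularEpiCategory.regularEpiOfEpi _
  haveI : Epi χ := epi_of_repWith_fppf hχfp
  haveI : IsRegularEpi χ := IsRegularEpiCategory.regularEpiOfEpi _
  let hc₁ := IsKernelPair.toCoequalizer' (hm.map (yon S))
  let hc₂ := IsKernelPair.toCoequalizer' sqV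
  let φ : (yon S).obj M ⟶ QuotSh.quot Scheme.fppfPrecoverage s t := Cofork.IsColimit.desc hc₁ χ sqV.w
  let ψ : QuotSh.quot Scheme.fppfPrecoverage s t ⟶ (yon S).obj M :=
    Cofork.IsColimit.desc hc₂ ((yon S).map m') (hm.map (yon S)).w
  have hφ : (yon S).map m' ≫ φ = χ := Cofork.IsColimit.π_desc' hc₁ χ sqV.w
  have hψ : χ ≫ ψ = (yon S).map m' := Cofork.IsColimit.π_desc' hc₂ _ (hm.map (yon S)).w
  haveI : IsIso φ := ⟨ψ, by rw [← cancel_epi ((yon S).map m'), reassoc_of% hφ, hψ, Category.comp_id],
    by rw [← cancel_epi χ, reassoc_of% hψ, hφ, Category.comp_id]⟩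
  obtain ⟨p, hp⟩ := (yon S).map_surjective (quotMap s t ≫ inv φ)
  obtain ⟨⟨hp₁, hp₂⟩, hp₃⟩ : fppfMor p.left := by
    haveI : MorphismProperty.IsStableUnderBaseChange (fppfMor : MorphismProperty Scheme.{u}) := inferInstance
    refine (repWith_yon_map_iff _ p).1 ?_
    rw [hp]
    exact MorphismProperty.RespectsIso.postcomp _ _ _ hπ
  refine ⟨M, p, ⟨inferInstanceAs (IsOpenImmersion (Over.Hom.left (𝟙 U))), hp₂, hp₁, hp₃,
    fun r a _ => ⟨r ≫ t, Category.comp_id _⟩, fun {T} a b => ?_⟩⟩
  rw [Category.comp_id, Category.comp_id]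
  constructor
  · intro hab
    have e : (yon S).map b ≫ quotMap s t = (yon S).map a ≫ quotMap s t := by
      rw [← cancel_mono (inv φ), Category.assoc, Category.assoc, ← hp, ← Functor.map_comp, ← Functor.map_comp, hab]
    obtain ⟨l, hl₁, hl₂⟩ := sq.exists_lift _ _ e
    obtain ⟨r, rfl⟩ := (yon S).map_surjective l
    exact ⟨r, (yon S).map_injective (by rw [Functor.map_comp, hl₂]),
      (yon S).map_injective (by rw [Functor.map_comp, hl₁])⟩
  · rintro ⟨r, rfl, rfl⟩
    apply (yon S).map_injective
    simp only [Functor.map_comp, Category.assoc, hp]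
    rw [reassoc_of% sq.w]

end Groth.Agent.H19Quot
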