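import Groth.Agent.H19Quot.Pieces

/-!
# The relation induced on a stable open
-/

set_option autoImplicit false
set_option maxHeartbeats 1000000
set_option synthInstance.maxHeartbeats 400000
set_option linter.style.haveILetI false
set_option backward.isDefEq.respectTransparency false

universe u

open CategoryTheory CategoryTheory.Limits MonoidalCategory CartesianMonoidalCategory AlgebraicGeometry
open AlgSp Groth.Agent.H12AlgSp

namespace Groth.Agent.H19Quot

variable {S : Scheme.{u}} {R U M : Over S}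

/-- `(sM, tM, i)` is the restriction of the relation `(s, t)` to `jM : M ⟶ U`. -/
structure IsRestricted (s t : R ⟶ U) (jM : M ⟶ U) {RM : Over S} (sM tM : RM ⟶ M) (i : RM ⟶ R) : Prop where
  s_eq : i ≫ s = sM ≫ jM
  t_eq : i ≫ t = tM ≫ jM
  lift : ∀ {T : Over S} (r : T ⟶ R) (a : T ⟶ M), a ≫ jM = r ≫ s → ∃ r' : T ⟶ RM, r' ≫ i = r ∧ r' ≫ sM = a

variable {s t : R ⟶ U} {jM : M ⟶ U}

theorem exists_restricted (h : IsEqvRel s t) [Flat s.left] [LocallyOfFinitePresentation s.left]
    [IsOpenImmersion jM.left]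
    (hM : ∀ {T : Over S} (r : T ⟶ R) (a : T ⟶ M), a ≫ jM = r ≫ s → ∃ b : T ⟶ M, b ≫ jM = r ≫ t) :
    ∃ (RM : Over S) (sM tM : RM ⟶ M) (i : RM ⟶ R), IsRestricted s t jM sM tM i ∧ IsEqvRel sM tM ∧
      Flat sM.left ∧ LocallyOfFinitePresentation sM.left := by
  let RM : Over S := Over.mk (pullback.snd s.left jM.left ≫ M.hom)
  let sM : RM ⟶ M := Over.homMk (pullback.snd s.left jM.left) rfl
  let i : RM ⟶ R := Over.homMk (pullback.fst s.left jM.left) (by
    show pullback.fst s.left jM.left ≫ R.hom = pullback.snd s.left jM.left ≫ M.hom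
    rw [← Over.w s, ← Over.w jM, pullback.condition_assoc])
  have hs : i ≫ s = sM ≫ jM := Over.OverMorphism.ext pullback.condition
  obtain ⟨tM, htM⟩ := hM i sM hs.symm
  haveI : Mono jM.left := inferInstance
  haveI : Mono jM := (Over.forget S).mono_of_mono_map ‹Mono jM.left›
  have hlift : ∀ {T : Over S} (r : T ⟶ R) (a : T ⟶ M), a ≫ jM = r ≫ s →
      ∃ r' : T ⟶ RM, r' ≫ i = r ∧ r' ≫ sM = a := fun {T} r a ha =>
    ⟨Over.homMk (pullback.lift r.left a.left (congrArg (·.left) ha.symm)) (by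
        show pullback.lift _ _ _ ≫ pullback.snd _ _ ≫ _ = _
        rw [pullback.lift_snd_assoc]; exact Over.w a),
      Over.OverMorphism.ext (pullback.lift_fst _ _ _), Over.OverMorphism.ext (pullback.lift_snd _ _ _)⟩
  refine ⟨RM, sM, tM, i, ⟨hs, htM.symm, fun r a ha => hlift r a ha⟩, ⟨fun T r r' h₁ h₂ => ?_, fun T => ⟨fun a => ?_, fun {a b} hab => ?_, fun {a b c} hab hbc => ?_⟩⟩,
    inferInstanceAs (Flat (pullback.snd s.left jM.left)),
    inferInstanceAs (LocallyOfFinitePresentation (pullback.snd s.left jM.left))⟩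
  · have hi : r ≫ i = r' ≫ i := h.injective T _ _
      (by rw [Category.assoc, ← htM, reassoc_of% h₁, Category.assoc, ← htM])
      (by rw [Category.assoc, hs, reassoc_of% h₂, Category.assoc, hs])
    exact Over.OverMorphism.ext (pullback.hom_ext (congrArg (·.left) hi) (congrArg (·.left) h₂))
  · obtain ⟨e, het, hes⟩ := (h.equivalence T).refl (a ≫ jM)
    obtain ⟨r, hr, hra⟩ := hlift e a hes.symm
    exact ⟨r, by rw [← cancel_mono jM, Category.assoc, htM, ← Category.assoc, hr, het], hra⟩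
  · obtain ⟨r, hra, hrb⟩ := hab
    obtain ⟨e, het, hes⟩ := (h.equivalence T).symm ⟨r ≫ i, rfl, rfl⟩
    obtain ⟨r', hr', hr'a⟩ := hlift e a (by rw [hes, Category.assoc, ← htM, reassoc_of% hra])
    exact ⟨r', by rw [← cancel_mono jM, Category.assoc, htM, ← Category.assoc, hr', het, Category.assoc, hs,
      reassoc_of% hrb], hr'a⟩
  · obtain ⟨r, hra, hrb⟩ := hab
    obtain ⟨r₂, hrb₂, hrc⟩ := hbc
    obtain ⟨e, het, hes⟩ := (h.equivalence T).trans (x := a ≫ jM) (y := b ≫ jM) (z := c ≫ jM)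
      ⟨r ≫ i, by rw [Category.assoc, ← htM, reassoc_of% hra], by rw [Category.assoc, hs, reassoc_of% hrb]⟩
      ⟨r₂ ≫ i, by rw [Category.assoc, ← htM, reassoc_of% hrb₂], by rw [Category.assoc, hs, reassoc_of% hrc]⟩
    obtain ⟨r', hr', hr'c⟩ := hlift e c hes.symm
    exact ⟨r', by rw [← cancel_mono jM, Category.assoc, htM, ← Category.assoc, hr', het], hr'c⟩

variable {RM : Over S} {sM tM : RM ⟶ M} {i : RM ⟶ R}

/-- A full quotient of the restricted relation is a quotient piece. -/
theorem IsRestricted.isQuotOn (hR : IsRestricted s t jM sM tM i) [IsOpenImmersion jM.left] {Y : Over S} {p : M ⟶ Y}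
    (Q : IsQuotOn sM tM (𝟙 M) p) : IsQuotOn s t jM p := by
  haveI : Mono jM.left := inferInstance
  haveI : Mono jM := (Over.forget S).mono_of_mono_map ‹Mono jM.left›
  refine ⟨inferInstance, Q.flat, Q.surjective, Q.lfp, fun r a ha => ?_, fun a b => ?_⟩
  · obtain ⟨r', hr', -⟩ := hR.lift r a ha
    exact ⟨r' ≫ tM, by rw [Category.assoc, ← hR.t_eq, reassoc_of% hr']⟩
  · rw [Q.rel, Category.comp_id, Category.comp_id]
    constructor
    · rintro ⟨r, hs, ht⟩
      exact ⟨r ≫ i, by rw [Category.assoc, hR.s_eq, reassoc_of% hs], by rw [Category.assoc, hR.t_eq, reassoc_of% ht]⟩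
    · rintro ⟨r, hs, ht⟩
      obtain ⟨r', hr', hr's⟩ := hR.lift r a hs.symm
      exact ⟨r', hr's, by rw [← cancel_mono jM, Category.assoc, ← hR.t_eq, reassoc_of% hr', ht]⟩

/-- A quotient piece on a base change of a stable open is a full quotient for the restricted relation. -/
theorem IsRestricted.full_of_baseChange (hR : IsRestricted s t jM sM tM i) [IsOpenImmersion jM.left] {E V : Over S}
    {p : M ⊗ E ⟶ V} (Q : IsQuotOn (s ▷ E) (t ▷ E) (jM ▷ E) p) :
    IsQuotOn (sM ▷ E) (tM ▷ E) (𝟙 (M ⊗ E)) p := by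
  haveI : Mono jM.left := inferInstance
  haveI : Mono jM := (Over.forget S).mono_of_mono_map ‹Mono jM.left›
  refine ⟨inferInstanceAs (IsOpenImmersion (Over.Hom.left (𝟙 (M ⊗ E)))), Q.flat, Q.surjective, Q.lfp,
    fun r a _ => ⟨r ≫ tM ▷ E, Category.comp_id _⟩, fun {T} a b => ?_⟩
  rw [Q.rel, Category.comp_id, Category.comp_id]
  constructor
  · rintro ⟨r, hs, ht⟩
    have s₁ := hs =≫ fst U E
    have t₁ := ht =≫ fst U E
    have s₂ := hs =≫ snd U E
    have t₂ := ht =≫ snd U E
    simp only [Category.assoc, whiskerRight_fst, whiskerRight_snd] at s₁ t₁ s₂ t₂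
    obtain ⟨r', hr', hr's⟩ := hR.lift (r ≫ fst R E) (a ≫ fst M E) (by simp only [Category.assoc]; exact s₁.symm)
    refine ⟨CartesianMonoidalCategory.lift r' (r ≫ snd R E), CartesianMonoidalCategory.hom_ext _ _ ?_ ?_,
      CartesianMonoidalCategory.hom_ext _ _ ?_ ?_⟩
    · rw [Category.assoc, whiskerRight_fst, ← Category.assoc, lift_fst, hr's]
    · rw [Category.assoc, whiskerRight_snd, lift_snd, s₂]
    · rw [Category.assoc, whiskerRight_fst, ← Category.assoc, lift_fst, ← cancel_mono jM, Category.assoc, ← hR.t_eq,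
        reassoc_of% hr', Category.assoc, t₁]
    · rw [Category.assoc, whiskerRight_snd, lift_snd, t₂]
  · rintro ⟨r, hs, ht⟩
    refine ⟨r ≫ i ▷ E, ?_, ?_⟩
    · rw [Category.assoc, ← comp_whiskerRight, hR.s_eq, comp_whiskerRight, reassoc_of% hs]
    · rw [Category.assoc, ← comp_whiskerRight, hR.t_eq, comp_whiskerRight, reassoc_of% ht]

/-- A stable open covering everything gives a full quotient. -/
theorem IsQuotOn.full {W Y : Over S} {j : W ⟶ U} {p : W ⟶ Y} (Q : IsQuotOn s t j p) [Surjective j.left] :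
    ∃ p' : U ⟶ Y, IsQuotOn s t (𝟙 U) p' := by
  haveI := Q.isOpenImmersion; haveI := Q.flat; haveI := Q.surjective; haveI := Q.lfp
  haveI : IsIso j.left := isIso_of_isOpenImmersion_of_opensRange_eq_top j.left
    (TopologicalSpace.Opens.ext (Set.range_eq_univ.mpr j.left.surjective))
  haveI : IsIso ((Over.forget S).map j) := ‹_›
  haveI : IsIso j := isIso_of_reflects_iso j (Over.forget S)
  haveI : IsIso (inv j).left := inferInstanceAs (IsIso ((Over.forget S).map (inv j)))
  refine ⟨inv j ≫ p, inferInstanceAs (IsOpenImmersion (Over.Hom.left (𝟙 U))), by rw [Over.comp_left]; infer_instance,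
    by rw [Over.comp_left]; infer_instance, by rw [Over.comp_left]; infer_instance,
    fun r a _ => ⟨r ≫ t, Category.comp_id _⟩, fun a b => ?_⟩
  rw [← Category.assoc, ← Category.assoc b, Q.rel]
  simp only [Category.assoc, IsIso.inv_hom_id]

end Groth.Agent.H19Quot
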