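import Groth.Agent.H19Quot.Group
import Groth.Agent.H19Quot.Restricted
import Groth.Agent.H19Quot.DenseAffines
import Groth.Agent.H19Quot.Descend
import Groth.Agent.H19Grp.PointsEqClosed
import Groth.Agent.H19Grp.PointsEq
import Groth.Agent.H19Grp.Dimension

/-!
# Homogeneous spaces over a field

The quotient of a group scheme locally of finite type over a field by a closed subgroup is a scheme.
-/

set_option autoImplicit false
set_option maxHeartbeats 1000000
set_option synthInstance.maxHeartbeats 400000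
set_option linter.style.haveILetI false
set_option backward.isDefEq.respectTransparency false

universe u

open CategoryTheory CategoryTheory.Limits MonoidalCategory CartesianMonoidalCategory MonObj AlgebraicGeometry
open AlgSp Groth.Agent.H12AlgSp

namespace Groth.Agent.H19Quot

/-- Base change along the second factor is a pullback square of schemes. -/
theorem isPullback_whiskerRight {S : Scheme.{u}} {A B : Over S} (f : A ⟶ B) (E : Over S) :
    IsPullback (f ▷ E).left (fst A E).left (fst B E).left f.left := by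
  refine IsPullback.of_right (h₁₂ := (snd B E).left) (v₁₃ := E.hom) (h₂₂ := B.hom) ?_ ?_
    (IsPullback.of_hasPullback B.hom E.hom).flip
  · rw [← Over.comp_left, whiskerRight_snd, Over.w f]
    exact (IsPullback.of_hasPullback A.hom E.hom).flip
  · exact congrArg (fun g : A ⊗ E ⟶ B => g.left) (whiskerRight_fst f E)

/-- The range of a base change is the preimage of the range. -/
theorem range_whiskerRight {S : Scheme.{u}} {A B : Over S} (f : A ⟶ B) (E : Over S) :
    Set.range (f ▷ E).left = (fst B E).left ⁻¹' Set.range f.left := by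
  have sq := isPullback_whiskerRight f E
  ext y
  constructor
  · rintro ⟨a, rfl⟩
    exact ⟨(fst A E).left a, (congrArg (fun g => g a) sq.w).symm⟩
  · rintro ⟨a, ha⟩
    obtain ⟨z, hz, -⟩ := Scheme.exists_preimage_of_isPullback sq y a ha.symm
    exact ⟨z, hz⟩

variable {k : Type u} [Field k]

set_option maxHeartbeats 4000000 in
/-- Each closed point lies in a stable open with a quotient, given a dense one with nice quotient. -/
theorem exists_piece_of_isClosed {F G W₀ Y₀ : Over (Spec (CommRingCat.of k))} [GrpObj G] [GrpObj F]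
    [LocallyOfFiniteType G.hom] (u : F ⟶ G) [IsMonHom u] [IsClosedImmersion u.left]
    {j₀ : W₀ ⟶ G} {p₀ : W₀ ⟶ Y₀} (Q₀ : IsQuotOn (snd F G) (leftTranslate u) j₀ p₀) (hd : DenseRange j₀.left)
    (hY : ∀ Z : Set Y₀.left, Z.Finite → ∃ O : Y₀.left.Opens, IsAffineOpen O ∧ Z ⊆ O)
    (x : G.left) (hx : IsClosed ({x} : Set G.left)) :
    ∃ (M Y : Over (Spec (CommRingCat.of k))) (jM : M ⟶ G) (p : M ⟶ Y), x ∈ Set.range jM.left ∧
      IsQuotOn (snd F G) (leftTranslate u) jM p := by
  haveI : IsNoetherianRing (CommRingCat.of k) := inferInstanceAs (IsNoetherianRing k)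
  haveI : Mono u := Over.mono_of_mono_left _
  haveI : LocallyOfFiniteType F.hom := by rw [← Over.w u]; infer_instance
  haveI : LocallyOfFinitePresentation F.hom := inferInstance
  haveI : Flat F.hom := inferInstance
  haveI := Q₀.isOpenImmersion
  have hEqv := isEqvRel u
  -- geometric points
  let P : Over (Spec (CommRingCat.of k)) :=
    Over.mk (Spec.map (CommRingCat.ofHom (algebraMap k (AlgebraicClosure k))))
  let pt : P.left := IsLocalRing.closedPoint (AlgebraicClosure k)
  let GΩ : Over (Spec (CommRingCat.of (AlgebraicClosure k))) := Over.mk (snd G P).left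
  haveI : LocallyOfFiniteType GΩ.hom := inferInstanceAs (LocallyOfFiniteType (pullback.snd G.hom P.hom))
  haveI : JacobsonSpace (G ⊗ P).left := LocallyOfFiniteType.jacobsonSpace GΩ.hom
  have hsec : ∀ z : (G ⊗ P).left, IsClosed ({z} : Set (G ⊗ P).left) →
      ∃ a : P ⟶ G, (CartesianMonoidalCategory.lift a (𝟙 P)).left pt = z := by
    intro z hz
    obtain ⟨w, hw⟩ := H19Grp.PointsDense.exists_point_closed (k := AlgebraicClosure k) (K := AlgebraicClosure k)
      (W := GΩ) hz
    have hws : w.left ≫ (snd G P).left = 𝟙 _ := (Over.w w).trans (by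
      show Spec.map (CommRingCat.ofHom (algebraMap (AlgebraicClosure k) (AlgebraicClosure k))) = _
      exact (congrArg Spec.map (CommRingCat.hom_ext Algebra.algebraMap_self)).trans (Spec.map_id _))
    let a' : P ⟶ G ⊗ P := Over.homMk w.left (by
      rw [← Over.w (snd G P), reassoc_of% hws])
    refine ⟨a' ≫ fst G P, ?_⟩
    have e : CartesianMonoidalCategory.lift (a' ≫ fst G P) (𝟙 P) = a' := by
      apply CartesianMonoidalCategory.hom_ext
      · rw [lift_fst]
      · rw [lift_snd]; exact (Over.OverMorphism.ext hws).symm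
    rw [e]
    exact hw pt
  -- the points over `x`
  haveI hf : IsFinite (G.left.fromSpecResidueField x ≫ G.hom) :=
    H19Grp.isFinite_fromSpecResidueField_comp (Iso.refl _) G.hom x hx
  let X₀ : Over (Spec (CommRingCat.of k)) := Over.mk (G.left.fromSpecResidueField x ≫ G.hom)
  let i₀ : X₀ ⟶ G := Over.homMk (G.left.fromSpecResidueField x) rfl
  haveI : IsFinite (snd X₀ P).left := MorphismProperty.pullback_snd (P := @IsFinite) X₀.hom P.hom hf
  have hr : (fst G P).left ⁻¹' {x} = Set.range (i₀ ▷ P).left := by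
    rw [range_whiskerRight]
    congr 1
    exact (Scheme.range_fromSpecResidueField x).symm
  have hfinX : (Set.univ : Set (X₀ ⊗ P).left).Finite := by
    have h1 := (snd X₀ P).left.finite_preimage_singleton pt
    convert h1
    ext z
    simp only [Set.mem_univ, Set.mem_preimage, Set.mem_singleton_iff, true_iff]
    exact Subsingleton.elim (α := PrimeSpectrum (AlgebraicClosure k)) _ _
  have hfin : ((fst G P).left ⁻¹' {x}).Finite := by
    rw [hr, ← Set.image_univ]
    exact hfinX.image _
  have hcl : ∀ z ∈ (fst G P).left ⁻¹' {x}, IsClosed ({z} : Set (G ⊗ P).left) := fun z hz => by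
    have hc : IsClosed ((fst G P).left ⁻¹' {x}) := hx.preimage (fst G P).left.continuous
    have hcC : IsClosed ((fst G P).left ⁻¹' {x} ∩ closedPoints (G ⊗ P).left) := by
      rw [← Set.biUnion_of_singleton ((fst G P).left ⁻¹' {x} ∩ closedPoints (G ⊗ P).left)]
      exact (hfin.inter_of_left _).isClosed_biUnion fun w hw => mem_closedPoints_iff.1 hw.2
    have e := closure_inter_closedPoints hc
    rw [hcC.closure_eq] at e
    exact mem_closedPoints_iff.1 ((Set.ext_iff.1 e z).2 hz).2
  choose a ha using fun z : (fst G P).left ⁻¹' {x} => hsec z.1 (hcl z.1 z.2)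
  -- a translation moving them all into the given open
  let La : ∀ _ : (fst G P).left ⁻¹' {x}, G ⊗ P ⟶ G ⊗ P := fun z =>
    CartesianMonoidalCategory.lift ((snd G P ≫ a z) * fst G P) (snd G P)
  have hLa : ∀ z, IsIso (La z) := fun z =>
    ⟨CartesianMonoidalCategory.lift ((snd G P ≫ a z)⁻¹ * fst G P) (snd G P),
      by apply CartesianMonoidalCategory.hom_ext <;> simp [La, MonObj.comp_mul, GrpObj.comp_inv],
      by apply CartesianMonoidalCategory.hom_ext <;> simp [La, MonObj.comp_mul, GrpObj.comp_inv]⟩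
  let O₀ : (G ⊗ P).left.Opens := (fst G P).left ⁻¹ᵁ j₀.left.opensRange
  haveI : UniversallyOpen P.hom := inferInstance
  have hO₀ : Dense (O₀ : Set (G ⊗ P).left) := by
    haveI : UniversallyOpen (fst G P).left := inferInstanceAs (UniversallyOpen (pullback.fst G.hom P.hom))
    show Dense ((fst G P).left ⁻¹' Set.range j₀.left)
    exact Dense.preimage hd (fst G P).left.isOpenMap
  haveI : Finite ((fst G P).left ⁻¹' {x}) := hfin
  let O : (G ⊗ P).left.Opens := ⟨⋂ z, (La z).left ⁻¹' O₀,
    isOpen_iInter_of_finite fun z => O₀.2.preimage (La z).left.continuous⟩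
  have hO : Dense (O : Set (G ⊗ P).left) := by
    have hs : ∀ (s : Finset ((fst G P).left ⁻¹' {x})), Dense (⋂ z ∈ s, (La z).left ⁻¹' (O₀ : Set (G ⊗ P).left)) := by
      classical
      intro s
      induction s using Finset.induction with
      | empty => simp
      | insert z s hz ih =>
        rw [Finset.set_biInter_insert, Set.inter_comm]
        refine ih.inter_of_isOpen_right (hO₀.preimage ?_) (O₀.2.preimage (La z).left.continuous)
        haveI := hLa z
        haveI : IsIso (La z).left := inferInstanceAs (IsIso ((Over.forget _).map (La z)))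
        exact (Scheme.Hom.homeomorph (La z).left).isOpenMap
    haveI : Fintype ((fst G P).left ⁻¹' {x}) := Fintype.ofFinite _
    simpa [O] using hs Finset.univ
  haveI : Nonempty (G ⊗ P).left := ⟨(CartesianMonoidalCategory.lift (1 : P ⟶ G) (𝟙 P)).left pt⟩
  obtain ⟨z₀, hz₀O, hz₀⟩ := nonempty_inter_closedPoints hO.nonempty O.2.isLocallyClosed
  obtain ⟨ĝ, hĝ⟩ := hsec z₀ hz₀
  -- the translation is defined over a finite extension
  obtain ⟨⟨zG, φ⟩, hφ⟩ := (Scheme.SpecToEquivOfField (AlgebraicClosure k) G.left).symm.surjective ĝ.left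
  have hzG : IsClosed ({zG} : Set G.left) := by
    have e : zG = ĝ.left pt := by
      rw [← hφ]
      exact (Scheme.fromSpecResidueField_apply zG ((Spec.map φ) pt)).symm
    have e' : ĝ.left pt = (fst G P).left z₀ := by
      rw [← hĝ, ← Scheme.Hom.comp_apply, ← Over.comp_left, lift_fst]
    rw [e, e', ← Set.image_singleton]
    haveI : IsIntegralHom P.hom :=
      IsIntegralHom.SpecMap_iff.2 (algebraMap_isIntegral_iff.2 (inferInstance : Algebra.IsIntegral k (AlgebraicClosure k)))
    haveI : IsIntegralHom (fst G P).left := inferInstanceAs (IsIntegralHom (pullback.fst G.hom P.hom))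
    exact (fst G P).left.isClosedMap _ hz₀
  let E : Over (Spec (CommRingCat.of k)) := Over.mk (G.left.fromSpecResidueField zG ≫ G.hom)
  haveI : IsFinite E.hom := H19Grp.isFinite_fromSpecResidueField_comp (Iso.refl _) G.hom zG hzG
  haveI : Surjective E.hom :=
    ⟨fun y => ⟨IsLocalRing.closedPoint (G.left.residueField zG), Subsingleton.elim (α := PrimeSpectrum k) _ _⟩⟩
  let g : E ⟶ G := Over.homMk (G.left.fromSpecResidueField zG) rfl
  let e : P ⟶ E := Over.homMk (Spec.map φ) (by
    show Spec.map φ ≫ G.left.fromSpecResidueField zG ≫ G.hom = P.hom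
    rw [← Category.assoc]
    exact (congrArg (· ≫ G.hom) hφ).trans (Over.w ĝ))
  have heg : e ≫ g = ĝ := Over.OverMorphism.ext hφ
  -- the translated piece
  have key : ∀ y : (G ⊗ E).left, (fst G E).left y = x →
      y ∈ Set.range (j₀ ▷ E ≫ (translateIso g).inv).left := by
    intro y hy
    haveI : Surjective (G ◁ e).left := by
      haveI : Surjective e.left :=
        ⟨fun y => ⟨pt, Subsingleton.elim (α := PrimeSpectrum (G.left.residueField zG)) _ _⟩⟩
      exact MorphismProperty.pullbackMap (P := @Surjective) (inferInstanceAs (Surjective (𝟙 G.left)))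
        (inferInstanceAs (Surjective e.left)) (Category.id_comp _).symm (Over.w e).symm
    obtain ⟨z, rfl⟩ := (G ◁ e).left.surjective y
    have hz : z ∈ (fst G P).left ⁻¹' {x} := by
      rw [Set.mem_preimage, ← whiskerLeft_fst G e, Over.comp_left, Scheme.Hom.comp_apply]
      exact hy
    have hmem : (G ◁ e ≫ translate g).left z ∈ Set.range (j₀ ▷ E).left := by
      rw [range_whiskerRight, Set.mem_preimage, ← Scheme.Hom.comp_apply, ← Over.comp_left]
      have h₀ : (La ⟨z, hz⟩).left z₀ ∈ O₀ := Set.mem_iInter.1 hz₀O ⟨z, hz⟩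
      have e₁ : CartesianMonoidalCategory.lift (a ⟨z, hz⟩) (𝟙 P) ≫ (G ◁ e ≫ translate g) ≫ fst G E =
          CartesianMonoidalCategory.lift ĝ (𝟙 P) ≫ La ⟨z, hz⟩ ≫ fst G P := by
        simp [translate, La, MonObj.comp_mul, heg]
      have e₂ := congrArg (fun t : P ⟶ G => t.left pt) e₁
      simp only [Over.comp_left, Scheme.Hom.comp_apply] at e₂
      rw [ha ⟨z, hz⟩, hĝ] at e₂
      rw [Over.comp_left, Over.comp_left, Scheme.Hom.comp_apply, Scheme.Hom.comp_apply, e₂]
      exact h₀
    obtain ⟨w, hw⟩ := hmem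
    refine ⟨w, ?_⟩
    rw [Over.comp_left, Scheme.Hom.comp_apply, hw, ← Scheme.Hom.comp_apply, ← Over.comp_left, Category.assoc]
    show (G ◁ e ≫ (translateIso g).hom ≫ (translateIso g).inv).left z = _
    rw [Iso.hom_inv_id, Category.comp_id]
  have Q₁ : IsQuotOn (snd F G ▷ E) (leftTranslate u ▷ E) (j₀ ▷ E ≫ (translateIso g).inv) (p₀ ▷ E) :=
    (Q₀.whiskerRight E).transport (translateIso g).symm (fun r => translate_preserves u g⁻¹ r)
      (fun r => translate_preserves u g r)
  let j₁ := j₀ ▷ E ≫ (translateIso g).inv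
  haveI : IsOpenImmersion j₁.left := Q₁.isOpenImmersion
  haveI : IsFinite (fst G E).left := inferInstanceAs (IsFinite (pullback.fst G.hom E.hom))
  let Mo : G.left.Opens := ⟨((fst G E).left '' (Set.range j₁.left)ᶜ)ᶜ,
    ((fst G E).left.isClosedMap _ j₁.left.isOpenEmbedding.isOpen_range.isClosed_compl).isOpen_compl⟩
  let M : Over (Spec (CommRingCat.of k)) := Over.mk (Mo.ι ≫ G.hom)
  let jM : M ⟶ G := Over.homMk Mo.ι rfl
  haveI : IsOpenImmersion jM.left := inferInstanceAs (IsOpenImmersion Mo.ι)
  have hrange : Set.range jM.left = (Mo : Set G.left) := Scheme.Opens.range_ι _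
  have hxM : x ∈ Set.range jM.left := by
    rw [hrange]
    rintro ⟨y, hy, hyx⟩
    exact hy (key y hyx)
  have hover : ∀ y : (G ⊗ E).left, (fst G E).left y ∈ Mo → y ∈ Set.range j₁.left := fun y hy =>
    by_contra fun hn => hy ⟨y, hn, rfl⟩
  have hM : ∀ {T : Over (Spec (CommRingCat.of k))} (r : T ⟶ F ⊗ G) (a : T ⟶ M), a ≫ jM = r ≫ snd F G →
      ∃ b : T ⟶ M, b ≫ jM = r ≫ leftTranslate u := by
    intro T r a ha
    refine exists_lift_openImmersion jM _ ?_
    rw [hrange]
    rintro _ ⟨w, rfl⟩ ⟨n, hn, hnw⟩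
    obtain ⟨w', hw', -⟩ := Scheme.exists_preimage_of_isPullback (isPullback_whiskerRight (r ≫ leftTranslate u) E) n w hnw
    obtain ⟨a₁, ha₁⟩ := exists_lift_openImmersion j₁ (a ▷ E ≫ jM ▷ E) (by
      rintro _ ⟨v, rfl⟩
      apply hover
      rw [← Scheme.Hom.comp_apply, ← Over.comp_left, Category.assoc, whiskerRight_fst, whiskerRight_fst_assoc,
        Over.comp_left, Scheme.Hom.comp_apply, Over.comp_left, Scheme.Hom.comp_apply]
      exact ((a.left ((fst T E).left v))).2)
    obtain ⟨b, hb⟩ := Q₁.stable (r ▷ E) a₁ (by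
      change a₁ ≫ j₁ = _
      rw [ha₁, ← comp_whiskerRight, ha, comp_whiskerRight])
    refine hn ⟨b.left w', ?_⟩
    rw [← hw', ← Scheme.Hom.comp_apply, ← Over.comp_left]
    change (b ≫ j₀ ▷ E ≫ (translateIso g).inv).left w' = _
    rw [hb]
    simp only [leftTranslate, comp_whiskerRight, Category.assoc]
  obtain ⟨l₁, hl₁⟩ := exists_lift_openImmersion j₁ (jM ▷ E) (by
    rintro _ ⟨v, rfl⟩
    apply hover
    rw [← Scheme.Hom.comp_apply, ← Over.comp_left, whiskerRight_fst, Over.comp_left, Scheme.Hom.comp_apply]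
    exact ((fst M E).left v).2)
  haveI : IsOpenImmersion (jM ▷ E).left :=
    MorphismProperty.pullbackMap (P := @IsOpenImmersion) (inferInstanceAs (IsOpenImmersion jM.left))
      (inferInstanceAs (IsOpenImmersion (𝟙 E.left))) (Over.w jM).symm (Category.id_comp _).symm
  haveI : IsOpenImmersion l₁.left := by
    haveI : IsOpenImmersion (l₁.left ≫ j₁.left) := by rw [← Over.comp_left, hl₁]; infer_instance
    exact IsOpenImmersion.of_comp l₁.left j₁.left
  obtain ⟨Y', q, p', hq, -, Q'⟩ := exists_sub Q₁ l₁ (fun {T} r b hb => by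
    change b ≫ l₁ ≫ j₁ = _ at hb
    rw [hl₁] at hb
    obtain ⟨b₀, hb₀⟩ := hM (r ≫ fst _ E) (b ≫ fst M E) (by
      have := hb =≫ fst G E
      simpa only [Category.assoc, whiskerRight_fst] using this)
    refine ⟨CartesianMonoidalCategory.lift b₀ (r ≫ snd _ E), ?_⟩
    change _ ≫ l₁ ≫ j₁ = _
    rw [hl₁]
    apply CartesianMonoidalCategory.hom_ext
    · rw [Category.assoc, whiskerRight_fst, ← Category.assoc, lift_fst, hb₀, Category.assoc, Category.assoc,
        whiskerRight_fst]
    · rw [Category.assoc, whiskerRight_snd, lift_snd, Category.assoc, whiskerRight_snd])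
  have hl₁' : l₁ ≫ j₀ ▷ E ≫ (translateIso g).inv = jM ▷ E := hl₁
  rw [hl₁'] at Q'
  haveI := hq
  obtain ⟨RM, sM, tM, iM, hR, hMeqv, hMf, hMlfp⟩ := exists_restricted hEqv hM
  haveI := hMf; haveI := hMlfp
  have hYE : ∀ Z : Set (Y₀ ⊗ E).left, Z.Finite → ∃ O : (Y₀ ⊗ E).left.Opens, IsAffineOpen O ∧ Z ⊆ O := fun Z hZ => by
    obtain ⟨O, hO, hZO⟩ := hY _ (hZ.image (fst Y₀ E).left)
    haveI : IsAffineHom (fst Y₀ E).left := inferInstanceAs (IsAffineHom (pullback.fst Y₀.hom E.hom))
    exact ⟨(fst Y₀ E).left ⁻¹ᵁ O, hO.preimage (fst Y₀ E).left, fun z hz => hZO ⟨z, hz, rfl⟩⟩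
  obtain ⟨Y, p, Qd⟩ := descend_full hMeqv E (hR.full_of_baseChange Q')
    (exists_affine_of_openImmersion q.left fun Z hZ _ => hYE Z hZ)
  exact ⟨M, Y, jM, p, hxM, hR.isQuotOn Qd⟩

/-- The quotient of a group locally of finite type over a field by a closed subgroup is a scheme. -/
theorem exists_quotient {F G : Over (Spec (CommRingCat.of k))} [GrpObj G] [GrpObj F] [LocallyOfFiniteType G.hom]
    (u : F ⟶ G) [IsMonHom u] [IsClosedImmersion u.left] :
    ∃ (Y : Over (Spec (CommRingCat.of k))) (p : G ⟶ Y), IsQuotOn (snd F G) (leftTranslate u) (𝟙 G) p := by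
  haveI : IsNoetherianRing (CommRingCat.of k) := inferInstanceAs (IsNoetherianRing k)
  haveI : Mono u := Over.mono_of_mono_left _
  haveI : LocallyOfFiniteType F.hom := by rw [← Over.w u]; infer_instance
  haveI : LocallyOfFinitePresentation F.hom := inferInstance
  haveI : Flat F.hom := inferInstance
  haveI := isClosedImmersion_prodLift u
  obtain ⟨W, Y, j, p, hd, Q, hmax⟩ := exists_maxQuotOn (isEqvRel u)
  haveI := Q.isOpenImmersion; haveI := Q.flat; haveI := Q.lfp; haveI := Q.surjective
  obtain ⟨O, hOd, hO⟩ := exists_dense_finite_affine Y.left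
  obtain ⟨W₀, Y₀, l, q, p₀, hl, hq, hqr, hlr, -, Q₀⟩ := exists_restrict Q O
  have hd₀ : DenseRange (l ≫ j).left := by
    have hl' : DenseRange l.left := by
      show Dense (Set.range l.left)
      rw [hlr]
      exact hOd.preimage p.left.isOpenMap
    rw [Over.comp_left, Scheme.Hom.comp_base, TopCat.coe_comp]
    exact hd.comp hl' j.left.continuous
  haveI := hq
  have hY₀ := exists_affine_of_openImmersion q.left fun Z hZ hsub => hO Z hZ (hqr ▸ hsub)
  haveI : JacobsonSpace G.left := LocallyOfFiniteType.jacobsonSpace G.hom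
  haveI : Surjective j.left := by
    refine ⟨Set.range_eq_univ.mp (by_contra fun hne => ?_)⟩
    obtain ⟨x, hxj, hx⟩ := nonempty_inter_closedPoints (Set.nonempty_compl.2 hne)
      j.left.isOpenEmbedding.isOpen_range.isClosed_compl.isLocallyClosed
    obtain ⟨M, YM, jM, pM, ⟨m, hm⟩, QM⟩ := exists_piece_of_isClosed u Q₀ hd₀ hY₀ x hx
    obtain ⟨i, hi⟩ := hmax jM pM QM
    exact hxj ⟨i.left m, by rw [← Scheme.Hom.comp_apply, ← Over.comp_left, hi, hm]⟩
  obtain ⟨p', Q'⟩ := Q.full
  exact ⟨Y, p', Q'⟩

end Groth.Agent.H19Quot
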