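import Groth.Agent.H19Quot.Field
import Groth.Agent.H19Grp.OrbitSmooth
import Groth.Agent.H19Grp.HomFlat
import Mathlib

/-!
# Orbit maps onto reduced orbits are flat
-/

set_option autoImplicit false
set_option maxHeartbeats 1000000
set_option synthInstance.maxHeartbeats 100000
set_option linter.style.haveILetI false
set_option backward.isDefEq.respectTransparency false

universe u

open CategoryTheory CategoryTheory.Limits MonoidalCategory CartesianMonoidalCategory MonObj GrpObj
  AlgebraicGeometry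

namespace Groth.Agent.H19Quot

open Groth.Agent.H19Grp

/-- A closed immersion through which a scheme-theoretically dominant morphism factors is an
isomorphism. -/
theorem isIso_of_closedImmersion_factor {P W Y : Scheme.{u}} (c : P ⟶ Y) [IsClosedImmersion c]
    (l : W ⟶ P) [IsSchemeTheoreticallyDominant (l ≫ c)] : IsIso c := by
  have h : c.ker = ⊥ := by
    rw [eq_bot_iff, ← (l ≫ c).ker_eq_bot]
    exact Scheme.Hom.le_ker_comp l c
  exact IsClosedImmersion.isIso_of_ker_eq c (𝟙 Y) c (Category.comp_id c)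
    (h.trans (Scheme.Hom.ker_eq_bot_of_isIso (𝟙 Y)).symm)

/-- The map from a group onto a reduced orbit is flat, over any field. -/
theorem flat_orbit_reduced {k : Type u} [Field k] {G X : Over (Spec (CommRingCat.of k))} [GrpObj G]
    [LocallyOfFiniteType G.hom] (a : AlgGrp.Action G X)
    (o : 𝟙_ (Over (Spec (CommRingCat.of k))) ⟶ X) (Z : Over (Spec (CommRingCat.of k)))
    [IsReduced Z.left] [LocallyOfFiniteType Z.hom] (z : Z ⟶ X) [IsImmersion z.left]
    (g₀ : G ⟶ Z) [Surjective g₀.left] [QuasiCompact g₀.left] (hg : g₀ ≫ z = a.orbitMap o) :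
    Flat g₀.left := by
  let s := Spec.map (CommRingCat.ofHom (algebraMap k (AlgebraicClosure k)))
  let T : Over (Spec (CommRingCat.of k)) := Over.mk s
  haveI : LocallyOfFiniteType g₀.left := by
    haveI : LocallyOfFiniteType (g₀.left ≫ Z.hom) := by rw [Over.w g₀]; infer_instance
    exact locallyOfFiniteType_of_comp g₀.left Z.hom
  haveI : Flat (fst Z T).left := inferInstanceAs (Flat (pullback.fst Z.hom s))
  haveI : Surjective s := ⟨fun x => ⟨Classical.arbitrary _, Subsingleton.elim _ _⟩⟩
  haveI : Surjective (fst G T).left := inferInstanceAs (Surjective (pullback.fst G.hom s))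
  haveI : Flat (fst G T).left := inferInstanceAs (Flat (pullback.fst G.hom s))
  have hsq := isPullback_whiskerRight g₀ T
  haveI : Surjective (g₀ ▷ T).left := MorphismProperty.of_isPullback hsq.flip inferInstance
  haveI : QuasiCompact (g₀ ▷ T).left := MorphismProperty.of_isPullback hsq.flip inferInstance
  haveI : IsSchemeTheoreticallyDominant g₀.left := IsSchemeTheoreticallyDominant.of_isDominant _
  haveI : IsSchemeTheoreticallyDominant (g₀ ▷ T).left :=
    IsSchemeTheoreticallyDominant.of_isPullback hsq.flip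
  haveI : IsImmersion (z ▷ T).left :=
    MorphismProperty.pullbackMap (P := @IsImmersion) (inferInstanceAs (IsImmersion z.left))
      (inferInstanceAs (IsImmersion (𝟙 T.left))) (Over.w z).symm (Category.id_comp _).symm
  haveI : Mono (z ▷ T) := (Over.forget _).mono_of_mono_map (inferInstanceAs (Mono (z ▷ T).left))
  have key : ∀ g : T ⟶ G, (g₀ ▷ T) ≫ (z ▷ T) ≫ trans a g = (leftMul g ≫ (g₀ ▷ T)) ≫ (z ▷ T) := by
    intro g
    rw [Category.assoc, ← comp_whiskerRight_assoc, hg, ← comp_whiskerRight, hg, leftMul_orbit]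
  have hlift : ∀ g : T ⟶ G, ∃ σ : Z ⊗ T ⟶ Z ⊗ T, σ ≫ (z ▷ T) = (z ▷ T) ≫ trans a g := by
    intro g
    let F := ((z ▷ T) ≫ trans a g).left
    let j := (z ▷ T).left
    let c := pullback.fst F j
    let l : (G ⊗ T).left ⟶ pullback F j := pullback.lift (g₀ ▷ T).left (leftMul g ≫ (g₀ ▷ T)).left
      (congrArg (·.left) (key g))
    have hl : l ≫ c = (g₀ ▷ T).left := pullback.lift_fst _ _ _
    haveI : Surjective c := by
      refine ⟨fun x => ?_⟩
      obtain ⟨w, rfl⟩ := (g₀ ▷ T).left.surjective x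
      exact ⟨l w, by rw [← Scheme.Hom.comp_apply, hl]⟩
    haveI : IsClosedImmersion c :=
      .of_isPreimmersion c (by rw [c.surjective.range_eq]; exact isClosed_univ)
    haveI : IsSchemeTheoreticallyDominant (l ≫ c) := by rw [hl]; infer_instance
    haveI : IsIso c := isIso_of_closedImmersion_factor c l
    let σ := inv c ≫ pullback.snd F j
    have hσ' : σ ≫ j = F := by
      simp only [σ, Category.assoc, ← pullback.condition]
      rw [IsIso.inv_hom_id_assoc]
    refine ⟨Over.homMk σ ?_, Over.OverMorphism.ext hσ'⟩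
    rw [← Over.w (z ▷ T), ← Category.assoc, hσ']
    exact (Over.w ((z ▷ T) ≫ trans a g)).trans (Over.w (z ▷ T)).symm
  choose σ hσ using hlift
  have hσmul : ∀ g h, σ g ≫ σ h = σ (h * g) := fun g h => by
    rw [← cancel_mono (z ▷ T), Category.assoc, hσ, reassoc_of% (hσ g), hσ, trans_trans]
  have hσone : σ 1 = 𝟙 _ := by
    rw [← cancel_mono (z ▷ T), hσ, trans_one, Category.comp_id, Category.id_comp]
  have hσh : ∀ g, (g₀ ▷ T) ≫ σ g = leftMul g ≫ (g₀ ▷ T) := fun g => by
    rw [← cancel_mono (z ▷ T), Category.assoc, hσ, key]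
  have hlmul : ∀ g h : T ⟶ G, leftMul g ≫ leftMul h = leftMul (h * g) := fun g h => by
    apply CartesianMonoidalCategory.hom_ext
    · simp [leftMul, MonObj.comp_mul, _root_.mul_assoc]
    · simp [leftMul]
  have hlone : leftMul (1 : T ⟶ G) = 𝟙 _ := by
    apply CartesianMonoidalCategory.hom_ext <;> simp [leftMul]
  -- generic flatness
  obtain ⟨U, hU, hUf, -⟩ := H7Flat.exists_dense_flatLFP g₀.left
  let h := (g₀ ▷ T).left
  let U' := (fst Z T).left ⁻¹ᵁ U
  have hU'f : Flat (h ∣_ U') := by
    have h1 := (isPullback_morphismRestrict h U').flip.paste_horiz hsq.flip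
    rw [← morphismRestrict_ι] at h1
    have h2 := IsPullback.of_right' h1 (isPullback_morphismRestrict g₀.left U).flip
    exact MorphismProperty.of_isPullback h2 hUf
  haveI : LocallyOfFiniteType (snd G T).left := inferInstanceAs (LocallyOfFiniteType (pullback.snd G.hom s))
  haveI : LocallyOfFiniteType (snd Z T).left := inferInstanceAs (LocallyOfFiniteType (pullback.snd Z.hom s))
  haveI : JacobsonSpace T.left :=
    inferInstanceAs (JacobsonSpace (Spec (CommRingCat.of (AlgebraicClosure k))))
  haveI : JacobsonSpace (G ⊗ T).left := LocallyOfFiniteType.jacobsonSpace (snd G T).left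
  haveI : JacobsonSpace (Z ⊗ T).left := LocallyOfFiniteType.jacobsonSpace (snd Z T).left
  have hpt : ∀ y : (Z ⊗ T).left, IsClosed ({y} : Set (Z ⊗ T).left) →
      ∃ p : T ⟶ G, ∀ t, (lift p (𝟙 T) ≫ (g₀ ▷ T)).left t = y := by
    intro y hy
    obtain ⟨w, hw, hwc⟩ := nonempty_inter_closedPoints
      (Z := h ⁻¹' {y}) (h.surjective y) (hy.preimage h.continuous).isLocallyClosed
    let q : T ⟶ G ⊗ T := Over.homMk (pointOfClosedPoint (snd G T).left w hwc) (by
      rw [← Over.w (snd G T), ← Category.assoc, pointOfClosedPoint_comp]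
      exact Category.id_comp _)
    have hq : lift (q ≫ fst G T) (𝟙 T) = q := by
      apply CartesianMonoidalCategory.hom_ext
      · simp
      · simp only [lift_snd]
        ext1
        exact (pointOfClosedPoint_comp _ _ _).symm
    refine ⟨q ≫ fst G T, fun t => ?_⟩
    rw [hq, Over.comp_left, Scheme.Hom.comp_apply]
    exact (congrArg h (pointOfClosedPoint_apply _ _ _ t)).trans hw
  have keyflat : ∀ y : (Z ⊗ T).left, IsClosed ({y} : Set _) →
      ∃ V : (Z ⊗ T).left.Opens, y ∈ V ∧ Flat (h ∣_ V) := by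
    intro y hy
    obtain ⟨y₀, hy₀⟩ : (U : Set Z.left).Nonempty := by
      haveI : Nonempty Z.left := ⟨(fst Z T).left y⟩
      exact hU.nonempty
    haveI : Surjective (fst Z T).left := inferInstanceAs (Surjective (pullback.fst Z.hom s))
    obtain ⟨v, hv, hvc⟩ := nonempty_inter_closedPoints (Z := (U' : Set (Z ⊗ T).left))
      (by obtain ⟨v, hv⟩ := (fst Z T).left.surjective y₀; exact ⟨v, show (fst Z T).left v ∈ U by rw [hv]; exact hy₀⟩) U'.2.isLocallyClosed
    obtain ⟨p, hp⟩ := hpt y hy
    obtain ⟨q, hq⟩ := hpt v hvc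
    let g := q * p⁻¹
    let e₁ : G ⊗ T ≅ G ⊗ T :=
      ⟨leftMul g, leftMul g⁻¹, by rw [hlmul, inv_mul_cancel, hlone], by rw [hlmul, mul_inv_cancel, hlone]⟩
    let e₂ : Z ⊗ T ≅ Z ⊗ T :=
      ⟨σ g, σ g⁻¹, by rw [hσmul, inv_mul_cancel, hσone], by rw [hσmul, mul_inv_cancel, hσone]⟩
    haveI : IsIso e₁.hom.left := ((Over.forget _).mapIso e₁).isIso_hom
    haveI : IsIso e₂.hom.left := ((Over.forget _).mapIso e₂).isIso_hom
    have hs : IsPullback e₁.hom.left h h e₂.hom.left :=
      IsPullback.of_horiz_isIso ⟨congrArg (·.left) (hσh g).symm⟩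
    have hev : e₂.hom.left y = v := by
      have h1 : (lift p (𝟙 T) ≫ (g₀ ▷ T)) ≫ σ g = lift q (𝟙 T) ≫ (g₀ ▷ T) := by
        rw [Category.assoc, hσh, ← Category.assoc]
        congr 1
        apply CartesianMonoidalCategory.hom_ext
        · simp [g, leftMul, MonObj.comp_mul, _root_.mul_assoc]
        · simp [leftMul]
      have h2 := congrArg (fun m => m.left (IsLocalRing.closedPoint (AlgebraicClosure k))) h1
      simp only [Over.comp_left, Scheme.Hom.comp_apply] at h2
      rw [← hp (IsLocalRing.closedPoint _), ← hq (IsLocalRing.closedPoint _)]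
      exact h2
    refine ⟨e₂.hom.left ⁻¹ᵁ U', (show e₂.hom.left y ∈ U' from hev.symm ▸ hv), ?_⟩
    have h1 := (isPullback_morphismRestrict h (e₂.hom.left ⁻¹ᵁ U')).flip.paste_horiz hs
    rw [← morphismRestrict_ι] at h1
    have h2 := IsPullback.of_right' h1 (isPullback_morphismRestrict h U').flip
    exact MorphismProperty.of_isPullback h2 hU'f
  have htop : ⨆ V : {V : (Z ⊗ T).left.Opens // Flat (h ∣_ V)}, V.1 = ⊤ := by
    by_contra hne
    have hne' : (((⨆ V : {V : (Z ⊗ T).left.Opens // Flat (h ∣_ V)}, V.1 : (Z ⊗ T).left.Opens) :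
        Set (Z ⊗ T).left))ᶜ.Nonempty := by
      rw [Set.nonempty_compl]
      exact fun e => hne (TopologicalSpace.Opens.coe_eq_univ.mp e)
    obtain ⟨y, hy, hyc⟩ := nonempty_inter_closedPoints hne'
      (TopologicalSpace.Opens.isOpen _).isClosed_compl.isLocallyClosed
    obtain ⟨V, hyV, hV⟩ := keyflat y hyc
    exact hy (TopologicalSpace.Opens.mem_iSup.mpr ⟨⟨V, hV⟩, hyV⟩)
  haveI : Flat h := (IsZariskiLocalAtTarget.iff_of_iSup_eq_top (P := @Flat) _ htop).mpr fun V => V.2
  haveI : Flat ((fst G T).left ≫ g₀.left) := by rw [← hsq.w]; infer_instance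
  haveI : Flat (𝟙 _ ≫ (fst G T).left) := by rw [Category.id_comp]; infer_instance
  haveI : Surjective (𝟙 _ ≫ (fst G T).left) := by rw [Category.id_comp]; infer_instance
  exact H13Desc.flat_of_refinement (fst G T).left g₀.left (𝟙 _)

end Groth.Agent.H19Quot
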