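import Groth.Agent.H19Quot.Generic
import Groth.Agent.H13Flat.Scheme
import Groth.Agent.H13Flat.SmoothDescent
import Groth.Agent.H13Desc.Flat

/-!
# Properties of quotients by flat equivalence relations
-/

set_option autoImplicit false
set_option maxHeartbeats 1000000
set_option synthInstance.maxHeartbeats 400000
set_option linter.style.haveILetI false
set_option backward.isDefEq.respectTransparency false

universe u

open CategoryTheory CategoryTheory.Limits MonoidalCategory CartesianMonoidalCategory AlgebraicGeometry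
open AlgSp Groth.Agent.H12AlgSp

namespace Groth.Agent.H19Quot

variable {S : Scheme.{u}} {R U Y : Over S} {s t : R ⟶ U} {p : U ⟶ Y}

/-- A quotient makes the relation cartesian. -/
theorem IsQuotOn.isPullback (hQ : IsQuotOn s t (𝟙 U) p) (h : IsEqvRel s t) : IsPullback t s p p := by
  have w : t ≫ p = s ≫ p := ((hQ.rel s t).2 ⟨𝟙 R, by simp, by simp⟩).symm
  refine IsPullback.of_isLimit' ⟨w⟩ (PullbackCone.IsLimit.mk _ (fun c =>
    ((hQ.rel c.snd c.fst).1 c.condition.symm).choose) ?_ ?_ ?_)
  · intro c
    simpa using ((hQ.rel c.snd c.fst).1 c.condition.symm).choose_spec.2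
  · intro c
    simpa using ((hQ.rel c.snd c.fst).1 c.condition.symm).choose_spec.1
  · intro c m hm₁ hm₂
    refine h.injective _ _ _ (hm₁.trans ?_) (hm₂.trans ?_)
    · simpa using ((hQ.rel c.snd c.fst).1 c.condition.symm).choose_spec.2.symm
    · simpa using ((hQ.rel c.snd c.fst).1 c.condition.symm).choose_spec.1.symm

theorem IsQuotOn.isPullback_left (hQ : IsQuotOn s t (𝟙 U) p) (h : IsEqvRel s t) :
    IsPullback t.left s.left p.left p.left := (hQ.isPullback h).map (Over.forget S)

/-- A quotient by a relation closed in the square is separated. -/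
theorem IsQuotOn.isSeparated (hQ : IsQuotOn s t (𝟙 U) p) (h : IsEqvRel s t)
    (hc : IsClosedImmersion (Limits.prod.lift t s).left) : IsSeparated Y.hom := by
  haveI := hQ.flat; haveI := hQ.surjective; haveI := hQ.lfp
  let d : Y ⟶ Y ⊗ Y := CartesianMonoidalCategory.lift (𝟙 Y) (𝟙 Y)
  let l : R ⟶ U ⊗ U := CartesianMonoidalCategory.lift t s
  have hpb := hQ.isPullback h
  have sq : IsPullback (t ≫ p) l d (p ⊗ₘ p) := by
    refine IsPullback.of_isLimit' ⟨by simp [d, l, hpb.w]⟩ (PullbackCone.IsLimit.mk _ (fun c =>
      hpb.lift (c.snd ≫ fst U U) (c.snd ≫ snd U U) ?_) ?_ ?_ ?_)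
    · have h1 := congrArg (· ≫ fst Y Y) c.condition
      have h2 := congrArg (· ≫ snd Y Y) c.condition
      simp [d] at h1 h2
      rw [Category.assoc, Category.assoc, ← h1, ← h2]
    · intro c
      have h1 := congrArg (· ≫ fst Y Y) c.condition
      simp [d] at h1
      rw [IsPullback.lift_fst_assoc, Category.assoc, ← h1]
    · intro c
      apply CartesianMonoidalCategory.hom_ext <;> simp [l]
    · intro c m hm₁ hm₂
      apply hpb.hom_ext
      · simp only [IsPullback.lift_fst]; rw [← hm₂]; simp [l]
      · simp only [IsPullback.lift_snd]; rw [← hm₂]; simp [l]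
  have sq' : IsPullback (t ≫ p).left l.left d.left (p ⊗ₘ p).left := sq.map (Over.forget S)
  haveI : IsClosedImmersion l.left := by
    let c : U ⨯ U ⟶ U ⊗ U := CartesianMonoidalCategory.lift Limits.prod.fst Limits.prod.snd
    haveI : IsIso c := ⟨Limits.prod.lift (fst U U) (snd U U), by apply Limits.prod.hom_ext <;> simp [c],
      by apply CartesianMonoidalCategory.hom_ext <;> simp [c]⟩
    have e : l = Limits.prod.lift t s ≫ c := by
      apply CartesianMonoidalCategory.hom_ext <;> simp [l, c]
    haveI : IsIso c.left := inferInstanceAs (IsIso ((Over.forget S).map c))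
    haveI := hc
    rw [e, Over.comp_left]
    infer_instance
  have hpp : fppfMor (p ⊗ₘ p).left := ⟨⟨
      MorphismProperty.pullbackMap (P := @Surjective) (inferInstanceAs (Surjective p.left))
        (inferInstanceAs (Surjective p.left)) (Over.w p).symm (Over.w p).symm,
      MorphismProperty.pullbackMap (P := @Flat) (inferInstanceAs (Flat p.left))
        (inferInstanceAs (Flat p.left)) (Over.w p).symm (Over.w p).symm⟩,
    MorphismProperty.pullbackMap (P := @LocallyOfFinitePresentation) (inferInstanceAs (LocallyOfFinitePresentation p.left))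
        (inferInstanceAs (LocallyOfFinitePresentation p.left)) (Over.w p).symm (Over.w p).symm⟩
  haveI hd : IsClosedImmersion d.left :=
    MorphismProperty.of_isPullback_of_descendsAlong (P := @IsClosedImmersion) (Q := fppfMor.{u}) sq'.flip hpp ‹_›
  rw [isSeparated_iff]
  have e : d.left = pullback.diagonal Y.hom := pullback.hom_ext
    (by simp [d, pullback.diagonal])
    (by simp [d, pullback.diagonal])
  exact e ▸ hd

variable {W : Over S} {j : W ⟶ U} {q : W ⟶ Y}

theorem IsQuotOn.locallyOfFiniteType (hQ : IsQuotOn s t j q) [LocallyOfFiniteType W.hom] :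
    LocallyOfFiniteType Y.hom := by
  haveI := hQ.flat; haveI := hQ.surjective; haveI := hQ.lfp
  exact H13Flat.locallyOfFiniteType_of_fppf_covering Y.hom fun y =>
    ⟨W.left, q.left, ‹_›, ‹_›, q.left.surjective y, by rw [Over.w]; infer_instance⟩

theorem IsQuotOn.smoothHom (hQ : IsQuotOn s t j q) [Smooth W.hom] : Smooth Y.hom := by
  haveI := hQ.flat; haveI := hQ.surjective; haveI := hQ.lfp
  exact H13Flat.smooth_of_fppf_covering Y.hom fun y =>
    ⟨W.left, q.left, ‹_›, ‹_›, q.left.surjective y, by rw [Over.w]; infer_instance⟩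

theorem IsQuotOn.flatHom (hQ : IsQuotOn s t j q) [Flat W.hom] : Flat Y.hom := by
  haveI := hQ.flat; haveI := hQ.surjective
  haveI : Flat (𝟙 W.left ≫ q.left) := by rw [Category.id_comp]; infer_instance
  haveI : Surjective (𝟙 W.left ≫ q.left) := by rw [Category.id_comp]; infer_instance
  haveI : Flat (q.left ≫ Y.hom) := by rw [Over.w]; infer_instance
  exact H13Desc.flat_of_refinement q.left Y.hom (𝟙 W.left)

theorem IsQuotOn.quasiCompactHom (hQ : IsQuotOn s t j q) [QuasiCompact W.hom] : QuasiCompact Y.hom := by
  haveI := hQ.surjective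
  haveI : QuasiCompact (q.left ≫ Y.hom) := by rw [Over.w]; infer_instance
  refine ⟨fun V hV hc => ?_⟩
  rw [← Set.image_preimage_eq (Y.hom ⁻¹' V) q.left.surjective]
  exact ((q.left ≫ Y.hom).isCompact_preimage (U := ⟨V, hV⟩) hc).image q.left.continuous

end Groth.Agent.H19Quot
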