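import Groth.Agent.H19Quot.GroupQuot
import Groth.Agent.H19Quot.Props
import Groth.Agent.H19Grp.ImageFactor
import Groth.Agent.H19Grp.AffineQuotient
import Groth.Agent.H19Grp.QuasiFiniteHom
import Groth.Agent.H19Grp.KernelSquare

/-!
# Commutative algebraic groups over a field form an abelian category
-/

set_option autoImplicit false
set_option maxHeartbeats 1000000
set_option synthInstance.maxHeartbeats 400000
set_option linter.style.haveILetI false
set_option backward.isDefEq.respectTransparency false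

universe u

open CategoryTheory CategoryTheory.Limits MonoidalCategory CartesianMonoidalCategory MonObj AlgebraicGeometry

namespace Groth.Agent.H19Quot.AbelianCat

variable {k : Type u} [Field k]

/-- Being of finite type over `k`. -/
structure IsFT (X : Over (Spec (CommRingCat.of k))) : Prop where
  lft : LocallyOfFiniteType X.hom
  qc : QuasiCompact X.hom

theorem isSeparated (X : Over (Spec (CommRingCat.of k))) [GrpObj X] : IsSeparated X.hom := H19Grp.AffineQuotient.isSeparated_of_grp X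

/-- Quasi-compactness and finite type of homomorphisms between groups of finite type. -/
theorem props_hom {X Y : Over (Spec (CommRingCat.of k))} [GrpObj Y] (f : X ⟶ Y) (hX : IsFT X) (hY : IsFT Y) :
    LocallyOfFiniteType f.left ∧ QuasiCompact f.left ∧ LocallyOfFinitePresentation f.left := by
  haveI := hX.lft; haveI := hX.qc; haveI := hY.lft; haveI := hY.qc
  haveI := isSeparated Y
  haveI : IsNoetherianRing (CommRingCat.of k) := inferInstanceAs (IsNoetherianRing k)
  haveI : LocallyOfFiniteType (f.left ≫ Y.hom) := by rw [Over.w]; infer_instance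
  haveI : LocallyOfFiniteType f.left := locallyOfFiniteType_of_comp f.left Y.hom
  haveI : QuasiCompact (f.left ≫ Y.hom) := by rw [Over.w]; infer_instance
  haveI : QuasiCompact f.left := QuasiCompact.of_comp f.left Y.hom
  haveI : IsLocallyNoetherian Y.left := LocallyOfFiniteType.isLocallyNoetherian Y.hom
  exact ⟨inferInstance, inferInstance, inferInstance⟩

theorem isFT_of_closed {X Y : Over (Spec (CommRingCat.of k))} (i : X ⟶ Y) [IsClosedImmersion i.left] (hY : IsFT Y) : IsFT X := by
  haveI := hY.lft; haveI := hY.qc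
  exact ⟨by rw [← Over.w i]; infer_instance, by rw [← Over.w i]; infer_instance⟩

theorem isFT_of_fppf {X Y : Over (Spec (CommRingCat.of k))} (p : X ⟶ Y) [Flat p.left] [Surjective p.left]
    [LocallyOfFinitePresentation p.left] (hX : IsFT X) : IsFT Y := by
  haveI := hX.lft; haveI := hX.qc
  refine ⟨H13Flat.locallyOfFiniteType_of_fppf_covering Y.hom fun y =>
    ⟨X.left, p.left, ‹_›, ‹_›, p.left.surjective y, by rw [Over.w]; infer_instance⟩, ?_⟩
  haveI : QuasiCompact (p.left ≫ Y.hom) := by rw [Over.w]; infer_instance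
  exact H19Grp.ImageFactor.quasiCompact_of_comp_surjective p.left Y.hom

theorem comm_of_mono {X Y : Over (Spec (CommRingCat.of k))} [GrpObj X] [GrpObj Y] [IsCommMonObj Y] (i : X ⟶ Y) [IsMonHom i] [Mono i] :
    IsCommMonObj X := ⟨by
  rw [← cancel_mono i, Category.assoc, IsMonHom.mul_hom i, ← BraidedCategory.braiding_naturality_assoc,
    IsCommMonObj.mul_comm]⟩

theorem normal_of_comm {X Y : Over (Spec (CommRingCat.of k))} [GrpObj X] [GrpObj Y] [IsCommMonObj Y] (i : X ⟶ Y) :
    AlgGrp.IsNormalHom i := fun T g n => ⟨n, by rw [mul_comm g, mul_inv_cancel_right]⟩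

theorem comm_of_epi {X Y : Over (Spec (CommRingCat.of k))} [GrpObj X] [GrpObj Y] [IsCommMonObj X] (p : X ⟶ Y) [IsMonHom p]
    [Epi (p ⊗ₘ p)] : IsCommMonObj Y := ⟨by
  rw [← cancel_epi (p ⊗ₘ p), BraidedCategory.braiding_naturality_assoc, ← IsMonHom.mul_hom p,
    IsCommMonObj.mul_comm_assoc]⟩

/-- Morphisms to a group descend along a faithfully flat homomorphism when they kill the kernel. -/
theorem desc_hom {G Q L N : Over (Spec (CommRingCat.of k))} [GrpObj G] [GrpObj Q] [GrpObj L] (q : G ⟶ Q) [IsMonHom q]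
    (hq : HasFpqcSection q) {i : N ⟶ G} (hK : AlgGrp.IsKernel i q) (φ : G ⟶ L) [IsMonHom φ] (hφ : i ≫ φ = 1) :
    ∃ ψ : Q ⟶ L, IsMonHom ψ ∧ q ≫ ψ = φ := by
  obtain ⟨ψ, hψ⟩ := hq.desc φ fun T a b hab => by
    obtain ⟨n, hn⟩ := H19Grp.exists_kernel_div q hK a b hab
    have h1 : (a / b) ≫ φ = 1 := by rw [← hn, Category.assoc, hφ, MonObj.comp_one]
    rwa [GrpObj.div_comp, div_eq_one] at h1
  haveI := hq.epi
  haveI := (hq.tensor hq).epi
  refine ⟨ψ, ⟨?_, ?_⟩, hψ⟩
  · rw [← IsMonHom.one_hom (f := q), Category.assoc, hψ, IsMonHom.one_hom]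
  · rw [← cancel_epi (q ⊗ₘ q), ← IsMonHom.mul_hom_assoc, hψ, tensorHom_comp_tensorHom_assoc, hψ, IsMonHom.mul_hom]

/-- The quotient of a commutative group by a closed subgroup. -/
theorem exists_cokernel {X Y : Over (Spec (CommRingCat.of k))} [GrpObj X] [GrpObj Y] [IsCommMonObj Y] (i : X ⟶ Y) [IsMonHom i]
    [IsClosedImmersion i.left] (hY : IsFT Y) :
    ∃ (Q : Over (Spec (CommRingCat.of k))) (_ : GrpObj Q) (q : Y ⟶ Q), IsMonHom q ∧ IsCommMonObj Q ∧ IsFT Q ∧ Flat q.left ∧
      Surjective q.left ∧ LocallyOfFinitePresentation q.left ∧ AlgGrp.IsKernel i q := by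
  haveI := hY.lft; haveI := hY.qc
  haveI : Mono i := Over.mono_of_mono_left _
  obtain ⟨Q, q, hQ⟩ := exists_quotient i
  haveI := hQ.flat; haveI := hQ.surjective; haveI := hQ.lfp
  have hsec := hasFpqcSection_of_lfp q
  obtain ⟨inst, hq, -⟩ := exists_grpObj_of_congr hsec (congr_of_isNormalHom_left (normal_of_comm i) hQ.rel_iff)
  letI := inst
  haveI := hq
  haveI := (hsec.tensor hsec).epi
  refine ⟨Q, inst, q, hq, comm_of_epi q, isFT_of_fppf q hY, hQ.flat, hQ.surjective, hQ.lfp, ?_⟩
  show IsPullback i (toUnit X) q η[Q]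
  rw [← IsMonHom.one_hom (f := q)]
  refine isPullback_unit_of_rel i q fun T a => ?_
  rw [hQ.rel_iff T a 1]
  constructor
  · rintro ⟨n, hn⟩
    exact ⟨n⁻¹, by rw [GrpObj.inv_comp]; exact inv_eq_of_mul_eq_one_right hn.symm⟩
  · rintro ⟨n, rfl⟩
    exact ⟨n⁻¹, by rw [GrpObj.inv_comp, inv_mul_cancel]⟩

/-- The image of a homomorphism. -/
theorem exists_image {X Y : Over (Spec (CommRingCat.of k))} [GrpObj X] [GrpObj Y] (f : X ⟶ Y) [IsMonHom f] (hX : IsFT X) (hY : IsFT Y) :
    ∃ (C : Over (Spec (CommRingCat.of k))) (_ : GrpObj C) (p : X ⟶ C) (i : C ⟶ Y), IsMonHom p ∧ IsMonHom i ∧ p ≫ i = f ∧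
      Flat p.left ∧ Surjective p.left ∧ LocallyOfFinitePresentation p.left ∧ IsClosedImmersion i.left := by
  haveI := hX.lft; haveI := hY.lft
  haveI := (props_hom f hX hY).2.1
  have h : ∀ {Z : Scheme.{u}} (g : Z ⟶ (Spec (CommRingCat.of k))), Flat g := fun g => inferInstance
  obtain ⟨C, gC, p, i, hp, hi, hpi, hf, hs, hfp, hcl, -, -⟩ := H19Grp.ImageFactor.exists_image_factor X Y f (h _)
  exact ⟨C, gC, p, i, hp, hi, hpi, hf, hs, hfp, hcl⟩

variable {P : ObjectProperty (CommGrp (Over (Spec (CommRingCat.of k))))}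

/-- The underlying morphism. -/
abbrev und {A B : P.FullSubcategory} (f : A ⟶ B) : A.obj.X ⟶ B.obj.X := f.hom.hom.hom.hom

/-- A morphism from a homomorphism. -/
noncomputable abbrev mkHom {A B : P.FullSubcategory} (f : A.obj.X ⟶ B.obj.X) [IsMonHom f] : A ⟶ B :=
  ObjectProperty.homMk (InducedCategory.homMk (Grp.homMk (A := A.obj.toGrp) (B := B.obj.toGrp) f))

theorem hom_ext' {A B : P.FullSubcategory} {f g : A ⟶ B} (h : und f = und g) : f = g :=
  ObjectProperty.hom_ext _ (CommGrp.hom_ext _ _ h)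

instance {A B : P.FullSubcategory} (f : A ⟶ B) : IsMonHom (und f) := f.hom.hom.hom.isMonHom_hom

noncomputable instance addCommGroupHom (A B : CommGrp (Over (Spec (CommRingCat.of k)))) : AddCommGroup (A ⟶ B) :=
  ((InducedCategory.homEquiv (X := A) (Y := B)).trans Additive.ofMul).addCommGroup

theorem hom_add {A B : CommGrp (Over (Spec (CommRingCat.of k)))} (f g : A ⟶ B) : (f + g).hom.hom.hom = f.hom.hom.hom * g.hom.hom.hom := rfl

noncomputable instance preadditive : Preadditive (CommGrp (Over (Spec (CommRingCat.of k)))) where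
  add_comp A B C f f' g := by
    apply CommGrp.hom_ext
    change (f + f').hom.hom.hom ≫ g.hom.hom.hom = (f ≫ g + f' ≫ g).hom.hom.hom
    haveI : IsMonHom g.hom.hom.hom := g.hom.hom.isMonHom_hom
    rw [hom_add, hom_add, MonObj.mul_comp]
    rfl
  comp_add A B C f g g' := by
    apply CommGrp.hom_ext
    change f.hom.hom.hom ≫ (g + g').hom.hom.hom = (f ≫ g + f ≫ g').hom.hom.hom
    rw [hom_add, hom_add, MonObj.comp_mul]
    rfl

theorem und_zero {A B : P.FullSubcategory} : und (0 : A ⟶ B) = 1 := rfl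

theorem und_comp {A B C : P.FullSubcategory} (f : A ⟶ B) (g : B ⟶ C) : und (f ≫ g) = und f ≫ und g := rfl

/-- The hypotheses on the class of groups. -/
structure IsGood (P : ObjectProperty (CommGrp (Over (Spec (CommRingCat.of k))))) : Prop where
  ft : ∀ A, P A → IsFT A.X
  one : P (CommGrp.trivial _)
  prod : ∀ A B : CommGrp (Over (Spec (CommRingCat.of k))), P A → P B → P ⟨A.X ⊗ B.X⟩
  sub : ∀ (A B : CommGrp (Over (Spec (CommRingCat.of k)))) (i : A.X ⟶ B.X) [IsMonHom i] [IsClosedImmersion i.left], P B → P A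
  quot : ∀ (A B : CommGrp (Over (Spec (CommRingCat.of k)))) (p : A.X ⟶ B.X) [IsMonHom p] [Flat p.left] [Surjective p.left]
    [LocallyOfFinitePresentation p.left], P A → P B

variable (h : IsGood P)
include h

theorem hasFiniteProducts : HasFiniteProducts P.FullSubcategory := by
  haveI : HasTerminal P.FullSubcategory := by
    let Z : P.FullSubcategory := ⟨CommGrp.trivial _, h.one⟩
    haveI : ∀ A : P.FullSubcategory, Unique (A ⟶ Z) := fun A =>
      { default := 0
        uniq := fun f => hom_ext' (toUnit_unique _ _) }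
    exact hasTerminal_of_unique Z
  haveI : ∀ {A B : P.FullSubcategory}, HasLimit (pair A B) := fun {A B} => by
      let Z : P.FullSubcategory := ⟨⟨A.obj.X ⊗ B.obj.X⟩, h.prod _ _ A.property B.property⟩
      haveI : IsMonHom (fst A.obj.X B.obj.X) := inferInstance
      haveI : IsMonHom (snd A.obj.X B.obj.X) := inferInstance
      exact HasLimit.mk ⟨BinaryFan.mk (P := Z) (mkHom (fst A.obj.X B.obj.X)) (mkHom (snd A.obj.X B.obj.X)),
        BinaryFan.IsLimit.mk _ (fun {T} f g => mkHom (CartesianMonoidalCategory.lift (und f) (und g)))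
          (fun f g => hom_ext' (lift_fst _ _)) (fun f g => hom_ext' (lift_snd _ _))
          (fun f g m hf hg => hom_ext' (CartesianMonoidalCategory.hom_ext _ _
            ((congrArg und hf).trans (lift_fst _ _).symm) ((congrArg und hg).trans (lift_snd _ _).symm)))⟩
  haveI : HasBinaryProducts P.FullSubcategory := hasBinaryProducts_of_hasLimit_pair _
  exact hasFiniteProducts_of_has_binary_and_terminal

theorem exists_ker {A B : P.FullSubcategory} (f : A ⟶ B) :
    ∃ (N : P.FullSubcategory) (i : N ⟶ A), IsClosedImmersion (und i).left ∧ AlgGrp.IsKernel (und i) (und f) := by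
  haveI := isSeparated B.obj.X
  obtain ⟨N, gN, i, hi, hic, hk⟩ := H19Grp.AffineQuotient.exists_kernel (und f)
  letI := gN; haveI := hi; haveI := hic
  haveI : Mono i := Over.mono_of_mono_left _
  haveI : IsCommMonObj N := comm_of_mono i
  exact ⟨⟨⟨N⟩, h.sub ⟨N⟩ A.obj i A.property⟩, mkHom i, hic, hk⟩

omit h in
/-- A kernel in the category of schemes is a kernel in the category of groups. -/
theorem exists_isLimit {A B N : P.FullSubcategory} (i : N ⟶ A) (f : A ⟶ B) (hk : AlgGrp.IsKernel (und i) (und f)) :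
    ∃ w : i ≫ f = 0, Nonempty (IsLimit (KernelFork.ofι i w)) := by
  refine ⟨hom_ext' (by rw [und_comp, H19Grp.kernel_comp_eq_one hk, und_zero]), ⟨?_⟩⟩
  haveI := H19Grp.kernel_mono hk
  haveI : ∀ {T : P.FullSubcategory} (g : T ⟶ A), g ≫ f = 0 → True := fun _ _ => trivial
  have key : ∀ {T : P.FullSubcategory} (g : T ⟶ A), g ≫ f = 0 → ∃ l : T ⟶ N, l ≫ i = g := fun {T} g hg => by
    obtain ⟨l, hl⟩ := H19Grp.kernel_lift hk (und g) (by rw [← und_comp, hg, und_zero])
    haveI : IsMonHom l := ⟨by rw [← cancel_mono (und i), Category.assoc, hl, IsMonHom.one_hom, IsMonHom.one_hom],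
      by rw [← cancel_mono (und i), Category.assoc, hl, IsMonHom.mul_hom, Category.assoc, IsMonHom.mul_hom (und i),
        tensorHom_comp_tensorHom_assoc, hl]⟩
    exact ⟨mkHom l, hom_ext' hl⟩
  exact KernelFork.IsLimit.ofι _ _ (fun g hg => (key g hg).choose) (fun g hg => (key g hg).choose_spec)
    (fun g hg m hm => hom_ext' ((cancel_mono (und i)).1 (congrArg und (hm.trans (key g hg).choose_spec.symm))))

omit h in
/-- Faithfully flat homomorphisms are cokernels of their kernels. -/
theorem exists_isColimit {A B N : P.FullSubcategory} (i : N ⟶ A) (f : A ⟶ B) (hk : AlgGrp.IsKernel (und i) (und f))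
    (hf : HasFpqcSection (und f)) :
    ∃ w : i ≫ f = 0, Nonempty (IsColimit (CokernelCofork.ofπ f w)) := by
  refine ⟨hom_ext' (by rw [und_comp, H19Grp.kernel_comp_eq_one hk, und_zero]), ⟨?_⟩⟩
  haveI := hf.epi
  have key : ∀ {T : P.FullSubcategory} (g : A ⟶ T), i ≫ g = 0 → ∃ l : B ⟶ T, f ≫ l = g := fun {T} g hg => by
    obtain ⟨ψ, hψ, hψ'⟩ := desc_hom (und f) hf hk (und g) (by rw [← und_comp, hg, und_zero])
    exact ⟨mkHom ψ, hom_ext' hψ'⟩
  exact CokernelCofork.IsColimit.ofπ _ _ (fun g hg => (key g hg).choose) (fun g hg => (key g hg).choose_spec)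
    (fun g hg m hm => hom_ext' ((cancel_epi (und f)).1 (congrArg und (hm.trans (key g hg).choose_spec.symm))))

theorem exists_coker {A B : P.FullSubcategory} (f : A ⟶ B) :
    ∃ (C Q : P.FullSubcategory) (p : A ⟶ C) (i : C ⟶ B) (q : B ⟶ Q), p ≫ i = f ∧ HasFpqcSection (und p) ∧
      IsClosedImmersion (und i).left ∧ HasFpqcSection (und q) ∧ AlgGrp.IsKernel (und i) (und q) := by
  obtain ⟨C, gC, p, i, hp, hi, hpi, hf, hs, hfp, hcl⟩ := exists_image (und f) (h.ft _ A.property) (h.ft _ B.property)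
  letI := gC; haveI := hp; haveI := hi; haveI := hf; haveI := hs; haveI := hfp; haveI := hcl
  haveI : Mono i := Over.mono_of_mono_left _
  haveI : IsCommMonObj C := comm_of_mono i
  obtain ⟨Q, gQ, q, hq, hQc, -, hqf, hqs, hqp, hk⟩ := exists_cokernel i (h.ft _ B.property)
  letI := gQ; haveI := hq; haveI := hQc; haveI := hqf; haveI := hqs; haveI := hqp
  exact ⟨⟨⟨C⟩, h.quot A.obj ⟨C⟩ p A.property⟩, ⟨⟨Q⟩, h.quot B.obj ⟨Q⟩ q B.property⟩, mkHom p, mkHom i, mkHom q,
    hom_ext' hpi, hasFpqcSection_of_lfp p, hcl, hasFpqcSection_of_lfp q, hk⟩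

/-- The category is abelian. -/
theorem nonempty_abelian : Nonempty (Abelian P.FullSubcategory) := by
  haveI : HasKernels P.FullSubcategory := ⟨fun {A B} f => by
    obtain ⟨N, i, -, hk⟩ := exists_ker h f
    obtain ⟨w, ⟨hl⟩⟩ := exists_isLimit i f hk
    exact HasLimit.mk ⟨_, hl⟩⟩
  haveI : HasCokernels P.FullSubcategory := ⟨fun {A B} f => by
    obtain ⟨C, Q, p, i, q, hpi, hp, -, hq, hk⟩ := exists_coker h f
    obtain ⟨w, ⟨hl⟩⟩ := exists_isColimit i q hk hq
    haveI := hp.epi
    have hp' : Epi p := ⟨fun g g' e => hom_ext' ((cancel_epi (und p)).1 (congrArg und e))⟩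
    have w' : f ≫ q = 0 := by rw [← hpi, Category.assoc, w, comp_zero]
    have hc : ∀ {T : P.FullSubcategory} (g : B ⟶ T), f ≫ g = 0 → i ≫ g = 0 := fun g hg => by
      rw [← cancel_epi p, ← Category.assoc, hpi, hg, comp_zero]
    exact HasColimit.mk ⟨CokernelCofork.ofπ q w', CokernelCofork.IsColimit.ofπ _ _
      (fun g hg => hl.desc (CokernelCofork.ofπ g (hc g hg))) (fun g hg => hl.fac _ WalkingParallelPair.one)
      (fun g hg m hm => Cofork.IsColimit.hom_ext hl (hm.trans (hl.fac (CokernelCofork.ofπ g (hc g hg)) WalkingParallelPair.one).symm))⟩⟩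
  haveI : IsNormalMonoCategory P.FullSubcategory := ⟨fun {A B} f _ => by
    obtain ⟨N, i, -, hk⟩ := exists_ker h f
    have hi0 : i = 0 := by
      rw [← cancel_mono f, zero_comp]
      exact hom_ext' (by rw [und_comp, H19Grp.kernel_comp_eq_one hk, und_zero])
    haveI : Mono (und f) := ⟨fun {T} a b e => by
      have : (a / b) ≫ und f = 1 := by rw [GrpObj.div_comp, e, div_self']
      obtain ⟨l, hl⟩ := H19Grp.kernel_lift hk _ this
      rw [hi0, und_zero, MonObj.comp_one] at hl
      exact div_eq_one.1 hl.symm⟩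
    haveI : Mono (und f).left := (Over.forget _).map_mono (und f)
    haveI := (h.ft _ A.property).lft; haveI := (h.ft _ B.property).lft
    haveI := (props_hom (und f) (h.ft _ A.property) (h.ft _ B.property)).2.1
    haveI : IsClosedImmersion (und f).left := H19Grp.QuasiFiniteHom.isClosedImmersion_of_mono (und f)
    obtain ⟨Q, gQ, q, hq, hQc, -, hqf, hqs, hqp, hkq⟩ := exists_cokernel (und f) (h.ft _ B.property)
    letI := gQ; haveI := hq; haveI := hQc; haveI := hqf; haveI := hqs; haveI := hqp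
    let Q' : P.FullSubcategory := ⟨⟨Q⟩, h.quot B.obj ⟨Q⟩ q B.property⟩
    obtain ⟨w, ⟨hl⟩⟩ := exists_isLimit f (mkHom q : B ⟶ Q') hkq
    exact ⟨⟨Q', mkHom q, w, hl⟩⟩⟩
  haveI : IsNormalEpiCategory P.FullSubcategory := ⟨fun {A B} f _ => by
    obtain ⟨C, Q, p, i, q, hpi, hp, hic, -, hk⟩ := exists_coker h f
    obtain ⟨w, -⟩ := exists_isLimit i q hk
    have hq0 : q = 0 := by rw [← cancel_epi f, comp_zero, ← hpi, Category.assoc, w, comp_zero]
    obtain ⟨l, hl⟩ := H19Grp.kernel_lift hk (𝟙 B.obj.X) (by rw [Category.id_comp, hq0, und_zero])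
    haveI := hic
    haveI : Mono (und i) := Over.mono_of_mono_left _
    haveI : IsIso (und i) := ⟨l, by rw [← cancel_mono (und i), Category.assoc, hl, Category.comp_id, Category.id_comp], hl⟩
    have hf : HasFpqcSection (und f) := by
      obtain ⟨Z, a, r, hr, ha⟩ := hp
      refine ⟨Z, a ≫ und i, r, by rw [← hpi, und_comp, reassoc_of% hr], ?_⟩
      haveI : IsIso (und i).left := inferInstanceAs (IsIso ((Over.forget _).map (und i)))
      rw [Over.comp_left]
      exact ha.comp (fpqcCov_of_lfp _)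
    obtain ⟨N, j, -, hj⟩ := exists_ker h f
    obtain ⟨w', ⟨hc⟩⟩ := exists_isColimit j f hj hf
    exact ⟨⟨N, j, w', hc⟩⟩⟩
  haveI := hasFiniteProducts h
  exact ⟨{}⟩

end Groth.Agent.H19Quot.AbelianCat
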