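import Groth.Agent.H19Quot.GroupQuot
import Groth.Agent.H19Quot.Props
import Groth.Agent.H19Grp.QuotientDesc
import Groth.Prelude.Def_AGF

/-!
# Homogeneous spaces over a field, with their actions
-/

set_option autoImplicit false
set_option maxHeartbeats 1000000
set_option synthInstance.maxHeartbeats 400000
set_option linter.style.haveILetI false
set_option backward.isDefEq.respectTransparency false

universe u

open CategoryTheory CategoryTheory.Limits MonoidalCategory CartesianMonoidalCategory MonObj AlgebraicGeometry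

namespace Groth.Agent.H19Quot

variable {S : Scheme.{u}} {F G X : Over S} [GrpObj F] [GrpObj G]

/-- A map with the relation of right translations gives a homogeneous space with action. -/
theorem exists_action_of_rel {u : F ⟶ G} [IsMonHom u] [Mono u] {p : G ⟶ X} (hp : HasFpqcSection p)
    (hrel : ∀ (T : Over S) (a b : T ⟶ G), a ≫ p = b ≫ p ↔ ∃ n : T ⟶ F, b = a * (n ≫ u)) :
    ∃ (a : AlgGrp.Action G X) (o : 𝟙_ (Over S) ⟶ X), a.orbitMap o = p ∧
      IsPullback (fst G F) ((G ◁ u) ≫ μ[G]) p p := by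
  have hμ : μ[G] = fst G G * snd G G := by rw [Hom.mul_def, lift_fst_snd, Category.id_comp]
  have hG : HasFpqcSection (𝟙 G) := HasFpqcSection.id G
  obtain ⟨act, hact⟩ := (hG.tensor hp).desc (μ[G] ≫ p) (fun T a b hab => by
    have h₁ := congrArg (· ≫ fst G X) hab
    have h₂ := congrArg (· ≫ snd G X) hab
    simp only [Category.assoc, tensorHom_fst, tensorHom_snd, Category.comp_id] at h₁ h₂
    rw [← Category.assoc a (snd G G), ← Category.assoc b (snd G G)] at h₂
    obtain ⟨n, hn⟩ := (hrel T _ _).1 h₂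
    rw [hμ, ← Category.assoc, ← Category.assoc, MonObj.comp_mul, MonObj.comp_mul]
    exact (hrel T _ _).2 ⟨n, by rw [hn, h₁, _root_.mul_assoc]⟩)
  haveI := ((HasFpqcSection.id (𝟙_ (Over S))).tensor hp).epi
  haveI := ((HasFpqcSection.id (G ⊗ G)).tensor hp).epi
  have hkey : ∀ {T : Over S} (g x : T ⟶ G), CartesianMonoidalCategory.lift g (x ≫ p) ≫ act = (g * x) ≫ p :=
    fun {T} g x => by
      have := congrArg (CartesianMonoidalCategory.lift g x ≫ ·) hact
      simp only [← Category.assoc, lift_map, Category.comp_id] at this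
      rw [this, ← Hom.mul_def]
  let a : AlgGrp.Action G X :=
    { act := act
      one_act := by
        rw [← cancel_epi (𝟙 (𝟙_ (Over S)) ⊗ₘ p)]
        have e₁ : (𝟙 (𝟙_ (Over S)) ⊗ₘ p) ≫ η[G] ▷ X =
            CartesianMonoidalCategory.lift (fst (𝟙_ (Over S)) G ≫ η[G]) (snd (𝟙_ (Over S)) G ≫ p) := by
          apply CartesianMonoidalCategory.hom_ext <;> simp [leftUnitor_hom, toUnit_unique (toUnit _) (fst (𝟙_ (Over S)) G)]
        rw [← Category.assoc, e₁, hkey, toUnit_unique (fst (𝟙_ (Over S)) G) (toUnit _), ← Hom.one_def,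
          _root_.one_mul, leftUnitor_hom]
        simp [leftUnitor_hom]
      mul_act := by
        rw [← cancel_epi (𝟙 (G ⊗ G) ⊗ₘ p)]
        have e₁ : (𝟙 (G ⊗ G) ⊗ₘ p) ≫ μ[G] ▷ X =
            CartesianMonoidalCategory.lift (fst (G ⊗ G) G ≫ μ[G]) (snd (G ⊗ G) G ≫ p) := by
          rw [← tensorHom_id, tensorHom_comp_tensorHom, Category.id_comp, Category.comp_id]
          apply CartesianMonoidalCategory.hom_ext <;> simp
        have e₂ : (𝟙 (G ⊗ G) ⊗ₘ p) ≫ (α_ G G X).hom ≫ G ◁ act =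
            CartesianMonoidalCategory.lift (fst (G ⊗ G) G ≫ fst G G)
              (((fst (G ⊗ G) G ≫ snd G G) * snd (G ⊗ G) G) ≫ p) := by
          rw [← hkey]
          apply CartesianMonoidalCategory.hom_ext
          · simp
          · simp only [Category.assoc, whiskerLeft_snd, lift_snd]
            rw [← Category.assoc (α_ G G X).hom, ← Category.assoc]
            congr 1
            apply CartesianMonoidalCategory.hom_ext <;> simp
        rw [← Category.assoc, e₁, hkey, ← Category.assoc, ← Category.assoc, Category.assoc (𝟙 (G ⊗ G) ⊗ₘ p), e₂, hkey,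
          hμ, MonObj.comp_mul, _root_.mul_assoc] }
  have ho : a.orbitMap (η[G] ≫ p) = p := by
    show CartesianMonoidalCategory.lift (𝟙 G) (toUnit G ≫ η[G] ≫ p) ≫ act = p
    rw [← Category.assoc, hkey, ← Hom.one_def, _root_.mul_one, Category.id_comp]
  refine ⟨a, η[G] ≫ p, ho, ?_⟩
  have hsq : (G ◁ u) ≫ μ[G] = fst G F * (snd G F ≫ u) := by
    rw [Hom.mul_def]; congr 1
  have w : fst G F ≫ p = ((G ◁ u) ≫ μ[G]) ≫ p := by
    rw [hsq]; exact (hrel _ _ _).2 ⟨snd G F, rfl⟩
  refine IsPullback.of_isLimit' ⟨w⟩ (PullbackCone.IsLimit.mk _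
    (fun c => CartesianMonoidalCategory.lift c.fst ((hrel _ c.fst c.snd).1 c.condition).choose)
    (fun c => lift_fst _ _) (fun c => ?_) (fun c m hm₁ hm₂ => ?_))
  · rw [hsq, MonObj.comp_mul, lift_fst, ← Category.assoc, lift_snd]
    exact ((hrel _ c.fst c.snd).1 c.condition).choose_spec.symm
  · apply CartesianMonoidalCategory.hom_ext
    · rw [lift_fst]; exact hm₁
    · rw [lift_snd, ← cancel_mono u]
      have h := ((hrel _ c.fst c.snd).1 c.condition).choose_spec
      have hm₁' : m ≫ fst G F = c.fst := hm₁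
      have hm₂' : m ≫ (G ◁ u) ≫ μ[G] = c.snd := hm₂
      rw [hsq, MonObj.comp_mul, hm₁', ← Category.assoc] at hm₂'
      exact mul_left_cancel (hm₂'.trans h)

/-- Inversion turns a quotient by left translations into a quotient by right translations. -/
theorem rel_right_of_left {u : F ⟶ G} [IsMonHom u] {p : G ⟶ X}
    (hrel : ∀ (T : Over S) (a b : T ⟶ G), a ≫ p = b ≫ p ↔ ∃ n : T ⟶ F, b = (n ≫ u) * a)
    (T : Over S) (a b : T ⟶ G) :
    a ≫ ι[G] ≫ p = b ≫ ι[G] ≫ p ↔ ∃ n : T ⟶ F, b = a * (n ≫ u) := by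
  rw [← Category.assoc, ← Category.assoc, ← Hom.inv_def, ← Hom.inv_def, hrel]
  constructor
  · rintro ⟨n, hn⟩
    exact ⟨n⁻¹, by rw [GrpObj.inv_comp, ← _root_.inv_inv b, hn, _root_.mul_inv_rev, _root_.inv_inv]⟩
  · rintro ⟨n, rfl⟩
    exact ⟨n⁻¹, by rw [GrpObj.inv_comp, _root_.mul_inv_rev]⟩

/-- The homogeneous space of a group locally of finite type over a field by a closed subgroup. -/
theorem exists_isQuotient {k : Type u} [Field k] {F G : Over (Spec (CommRingCat.of k))} [GrpObj F] [GrpObj G]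
    [LocallyOfFiniteType G.hom] (u : F ⟶ G) [IsMonHom u] [IsClosedImmersion u.left] :
    ∃ (X : Over (Spec (CommRingCat.of k))) (a : AlgGrp.Action G X) (o : 𝟙_ (Over (Spec (CommRingCat.of k))) ⟶ X),
      AGF.IsQuotient u X a o ∧ LocallyOfFinitePresentation (a.orbitMap o).left ∧ IsSeparated X.hom := by
  haveI : Mono u := Over.mono_of_mono_left _
  obtain ⟨X, p, Q⟩ := exists_quotient u
  haveI := Q.flat; haveI := Q.surjective; haveI := Q.lfp
  haveI : IsIso (ι[G] : G ⟶ G) := ⟨ι[G], GrpObj.inv_comp_inv G, GrpObj.inv_comp_inv G⟩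
  haveI : IsIso (ι[G] : G ⟶ G).left := inferInstanceAs (IsIso ((Over.forget _).map (ι[G] : G ⟶ G)))
  haveI : Flat (ι[G] ≫ p).left := by rw [Over.comp_left]; infer_instance
  haveI : Surjective (ι[G] ≫ p).left := by rw [Over.comp_left]; infer_instance
  haveI : LocallyOfFinitePresentation (ι[G] ≫ p).left := by rw [Over.comp_left]; infer_instance
  obtain ⟨a, o, ho, hsq⟩ := exists_action_of_rel (hasFpqcSection_of_lfp (ι[G] ≫ p)) (rel_right_of_left Q.rel_iff)
  exact ⟨X, a, o, ⟨Q.locallyOfFiniteType, ho.symm ▸ ‹Flat (ι[G] ≫ p).left›, ho.symm ▸ ‹Surjective (ι[G] ≫ p).left›,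
    ho.symm ▸ hsq⟩, ho.symm ▸ ‹LocallyOfFinitePresentation (ι[G] ≫ p).left›,
    Q.isSeparated (isEqvRel u) (isClosedImmersion_prodLift u)⟩

end Groth.Agent.H19Quot
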