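import Groth.Agent.H19Quot.GroupQuot
import Groth.Agent.H18Descent.Basic

/-!
# Descent of properties along maps with fpqc local sections
-/

set_option autoImplicit false
set_option maxHeartbeats 1000000
set_option linter.style.haveILetI false
set_option backward.isDefEq.respectTransparency false

universe u

open CategoryTheory CategoryTheory.Limits MonoidalCategory CartesianMonoidalCategory MonObj AlgebraicGeometry

namespace Groth.Agent.H19Quot

/-- A base change having a property gives the property, along a map with sections on an fpqc covering. -/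
theorem FpqcCov.descend_of_factor {P : MorphismProperty Scheme.{u}} [P.IsStableUnderBaseChange]
    [IsZariskiLocalAtTarget P] [P.DescendsAlong (@Surjective ⊓ @Flat ⊓ @QuasiCompact)]
    {Z X Y A B : Scheme.{u}} {q : Z ⟶ Y} {r : Z ⟶ B} {p : B ⟶ Y} {f : X ⟶ Y} {a : A ⟶ X}
    {b : A ⟶ B} (hq : FpqcCov q) (hr : r ≫ p = q) (sq : IsPullback a b f p) (hb : P b) : P f := by
  refine hq.descend (P := P) (IsPullback.of_hasPullback f q) ?_
  let k := sq.lift (pullback.fst f q) (pullback.snd f q ≫ r) (by
    rw [Category.assoc, hr, pullback.condition])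
  have sq₂ : IsPullback k (pullback.snd f q) b r := by
    refine IsPullback.of_right ?_ (sq.lift_snd _ _ _) sq
    rw [show k ≫ a = pullback.fst f q from sq.lift_fst _ _ _, hr]
    exact IsPullback.of_hasPullback f q
  exact MorphismProperty.of_isPullback sq₂ hb

variable {S : Scheme.{u}} {G G' Q : Over S} [GrpObj G] [GrpObj G'] {u : G' ⟶ G} [IsMonHom u] [Mono u]
  {p : G ⟶ Q}

/-- The subgroup is the fibre over the unit, for the relation of right translations. -/
theorem isPullback_unit_of_isPullback (hsq : IsPullback ((G ◁ u) ≫ μ[G]) (fst G G') p p) :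
    IsPullback u (toUnit G') p (η[G] ≫ p) := isPullback_unit_of_rel u p fun T a => by
  rw [rel_iff_of_isPullback hsq T a 1]
  constructor
  · rintro ⟨n, hn⟩
    exact ⟨n⁻¹, by rw [GrpObj.inv_comp]; exact inv_eq_of_mul_eq_one_left hn.symm⟩
  · rintro ⟨n, rfl⟩
    exact ⟨n⁻¹, by rw [GrpObj.inv_comp, mul_inv_cancel]⟩

omit [Mono u] [GrpObj G'] [IsMonHom u] in
/-- The property of the subgroup passes to the projection. -/
theorem descend_proj {P : MorphismProperty Scheme.{u}} [P.IsStableUnderBaseChange]
    [IsZariskiLocalAtTarget P] [P.DescendsAlong (@Surjective ⊓ @Flat ⊓ @QuasiCompact)]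
    (hp : HasFpqcSection p) (hsq : IsPullback ((G ◁ u) ≫ μ[G]) (fst G G') p p) (h : P G'.hom) : P p.left := by
  obtain ⟨Z, q, r, hr, hq⟩ := hp
  refine hq.descend_of_factor (congrArg (fun f => Over.Hom.left f) hr) (hsq.map (Over.forget S)) ?_
  exact MorphismProperty.pullback_fst (P := P) G.hom G'.hom h

omit [IsMonHom u] in
theorem prop_sub_of_proj {P : MorphismProperty Scheme.{u}} [P.IsStableUnderBaseChange] [P.RespectsIso]
    [IsMonHom u] (hsq : IsPullback ((G ◁ u) ≫ μ[G]) (fst G G') p p) (h : P p.left) : P G'.hom := by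
  have h' : P (toUnit G').left :=
    MorphismProperty.of_isPullback ((isPullback_unit_of_isPullback hsq).map (Over.forget S)) h
  have e : (toUnit G').left ≫ (𝟙_ (Over S)).hom = G'.hom := Over.w (toUnit G')
  rwa [show (toUnit G').left = G'.hom by rw [← e]; exact (Category.comp_id _).symm] at h'

end Groth.Agent.H19Quot
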