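import Groth.Agent.H19Quot.GroupQuot
import Groth.Agent.H19Quot.Props
import Groth.Agent.H19Quot.Factor
import Groth.Agent.H19Quot.AbelianCat
import Groth.Agent.H19Grp.NeutralOpen
import Groth.Agent.H19Grp.Kernel
import Groth.Agent.H19Grp.KernelSquare
import Groth.Agent.H19Grp.ConnFibre
import Groth.Agent.H19Grp.ImageGroup
import Groth.Agent.H25Grp.Isogeny
import Mathlib

/-!
# Normal subgroups: quotient groups, preimages and images
-/

set_option autoImplicit false
set_option maxHeartbeats 1000000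
set_option synthInstance.maxHeartbeats 400000
set_option linter.style.haveILetI false
set_option backward.isDefEq.respectTransparency false

universe u

open CategoryTheory CategoryTheory.Limits MonoidalCategory CartesianMonoidalCategory MonObj GrpObj AlgebraicGeometry

namespace Groth.Agent.H19Quot

open Groth.Agent.H19Quot.AbelianCat (IsFT)

variable {k : Type u} [Field k]

/-- The quotient group by a normal closed subgroup. -/
theorem exists_quotientGroup {H G : Over (Spec (CommRingCat.of k))} [GrpObj H] [GrpObj G]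
    [LocallyOfFiniteType G.hom] [QuasiCompact G.hom] (i : H ⟶ G) [IsMonHom i] [IsClosedImmersion i.left]
    (hN : AlgGrp.IsNormalHom i) :
    ∃ (Q : Over (Spec (CommRingCat.of k))) (_ : GrpObj Q) (q : G ⟶ Q), IsMonHom q ∧
      LocallyOfFiniteType Q.hom ∧ QuasiCompact Q.hom ∧ Flat q.left ∧
      Surjective q.left ∧ LocallyOfFinitePresentation q.left ∧ AlgGrp.IsKernel i q := by
  haveI : Mono i := Over.mono_of_mono_left _
  obtain ⟨Q, q, hQ⟩ := exists_quotient i
  haveI := hQ.flat; haveI := hQ.surjective; haveI := hQ.lfp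
  obtain ⟨inst, hq, -⟩ := exists_grpObj_of_congr (hasFpqcSection_of_lfp q) (congr_of_isNormalHom_left hN hQ.rel_iff)
  letI := inst
  haveI := hq
  refine ⟨Q, inst, q, hq, hQ.locallyOfFiniteType, hQ.quasiCompactHom, hQ.flat, hQ.surjective, hQ.lfp, ?_⟩
  show IsPullback i (toUnit H) q η[Q]
  rw [← IsMonHom.one_hom (f := q)]
  refine isPullback_unit_of_rel i q fun T a => ?_
  rw [hQ.rel_iff T a 1]
  constructor
  · rintro ⟨n, hn⟩
    exact ⟨n⁻¹, by rw [GrpObj.inv_comp]; exact inv_eq_of_mul_eq_one_right hn.symm⟩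
  · rintro ⟨n, rfl⟩
    exact ⟨n⁻¹, by rw [GrpObj.inv_comp, inv_mul_cancel]⟩

variable {S : Scheme.{u}}

/-- The preimage of a closed subgroup under a homomorphism, with the induced map of kernels. -/
theorem exists_preimageGroup {G Q H'' : Over S} [GrpObj G] [GrpObj Q] [GrpObj H''] (q : G ⟶ Q) [IsMonHom q]
    (j'' : H'' ⟶ Q) [IsMonHom j''] [IsClosedImmersion j''.left] :
    ∃ (E : Over S) (_ : GrpObj E) (jE : E ⟶ G) (q' : E ⟶ H''), IsMonHom jE ∧ IsMonHom q' ∧
      IsClosedImmersion jE.left ∧ IsPullback q' jE j'' q := by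
  haveI : Mono j'' := Over.mono_of_mono_left _
  let E : Over S := pullback j'' q
  let q' : E ⟶ H'' := pullback.fst j'' q
  let jE : E ⟶ G := pullback.snd j'' q
  have sq : IsPullback q' jE j'' q := IsPullback.of_hasPullback j'' q
  haveI : IsClosedImmersion jE.left := MorphismProperty.of_isPullback (sq.map (Over.forget S)) ‹IsClosedImmersion j''.left›
  haveI : Mono jE := Over.mono_of_mono_left _
  obtain ⟨e₀, -, he₀⟩ := sq.exists_lift η[H''] η[G] (by rw [IsMonHom.one_hom, IsMonHom.one_hom])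
  obtain ⟨m₀, hm₁, hm₀⟩ := sq.exists_lift ((q' ⊗ₘ q') ≫ μ[H'']) ((jE ⊗ₘ jE) ≫ μ[G]) (by
    rw [Category.assoc, Category.assoc, IsMonHom.mul_hom j'', IsMonHom.mul_hom q, tensorHom_comp_tensorHom_assoc,
      tensorHom_comp_tensorHom_assoc, sq.w])
  obtain ⟨i₀, -, hi₀⟩ := sq.exists_lift (q' ≫ ι[H'']) (jE ≫ ι[G]) (by
    rw [Category.assoc, Category.assoc, GrpObj.inv_hom j'', GrpObj.inv_hom q, reassoc_of% sq.w])
  obtain ⟨gE, hjE⟩ := H19Grp.exists_grpObj_of_mono G jE e₀ he₀ m₀ hm₀ i₀ hi₀
  haveI := hjE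
  refine ⟨E, gE, jE, q', hjE, ⟨?_, ?_⟩, inferInstance, sq⟩
  · rw [← cancel_mono j'', Category.assoc, sq.w, ← Category.assoc, IsMonHom.one_hom jE, IsMonHom.one_hom q,
      IsMonHom.one_hom j'']
  · rw [← cancel_mono j'', Category.assoc, sq.w, ← Category.assoc, IsMonHom.mul_hom jE, Category.assoc,
      IsMonHom.mul_hom q, Category.assoc, IsMonHom.mul_hom j'', tensorHom_comp_tensorHom_assoc,
      tensorHom_comp_tensorHom_assoc, sq.w]

/-- Preimages of normal subgroups are normal. -/
theorem isNormalHom_preimage {G Q H'' E : Over S} [GrpObj G] [GrpObj Q] [GrpObj H''] [GrpObj E] {q : G ⟶ Q}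
    [IsMonHom q] {j'' : H'' ⟶ Q} {q' : E ⟶ H''} {jE : E ⟶ G} (sq : IsPullback q' jE j'' q)
    (hN : AlgGrp.IsNormalHom j'') : AlgGrp.IsNormalHom jE := by
  intro T g n
  obtain ⟨m, hm⟩ := hN T (g ≫ q) (n ≫ q')
  obtain ⟨n', -, h2⟩ := sq.exists_lift m (g * (n ≫ jE) * g⁻¹) (by
    rw [← hm, MonObj.mul_comp, MonObj.mul_comp, GrpObj.inv_comp, Category.assoc, Category.assoc, sq.w])
  exact ⟨n', h2.symm⟩

/-- The kernel sits inside a preimage. -/
theorem exists_kernel_preimage {H G Q H'' E : Over S} [GrpObj H] [GrpObj G] [GrpObj Q] [GrpObj H''] [GrpObj E]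
    {q : G ⟶ Q} {j'' : H'' ⟶ Q} [IsMonHom j''] [Mono j''] {q' : E ⟶ H''} {jE : E ⟶ G} [IsMonHom jE] [Mono jE]
    (sq : IsPullback q' jE j'' q) {i : H ⟶ G} [IsMonHom i] (hK : AlgGrp.IsKernel i q) :
    ∃ iE : H ⟶ E, IsMonHom iE ∧ iE ≫ jE = i ∧ AlgGrp.IsKernel iE q' := by
  obtain ⟨iE, h1, h2⟩ := sq.exists_lift (1 : H ⟶ H'') i (by
    rw [MonObj.one_comp, H19Grp.kernel_comp_eq_one hK])
  haveI := H19Grp.kernel_mono hK
  refine ⟨iE, ⟨?_, ?_⟩, h2, H19Grp.isKernel_of h1 (fun T a b h => ?_) (fun T x hx => ?_)⟩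
  · rw [← cancel_mono jE, Category.assoc, h2, IsMonHom.one_hom, IsMonHom.one_hom]
  · rw [← cancel_mono jE, Category.assoc, h2, IsMonHom.mul_hom i, Category.assoc, IsMonHom.mul_hom jE,
      tensorHom_comp_tensorHom_assoc, h2]
  · rw [← cancel_mono i, ← h2, ← Category.assoc, h, Category.assoc]
  · obtain ⟨n, hn⟩ := H19Grp.kernel_lift hK (x ≫ jE) (by
      rw [Category.assoc, ← sq.w, ← Category.assoc, hx, MonObj.one_comp])
    exact ⟨n, by rw [← cancel_mono jE, Category.assoc, h2, hn]⟩

/-- An extension with smooth connected kernel and quotient is smooth and connected. -/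
theorem smooth_connected_extension {H E Q : Over (Spec (CommRingCat.of k))} [GrpObj H] [GrpObj E] [GrpObj Q]
    [Smooth H.hom] [ConnectedSpace H.left] [Smooth Q.hom] [ConnectedSpace Q.left] (i : H ⟶ E) [IsMonHom i]
    (q : E ⟶ Q) [IsMonHom q] [Flat q.left] [Surjective q.left] [LocallyOfFinitePresentation q.left]
    (hK : AlgGrp.IsKernel i q) : Smooth E.hom ∧ ConnectedSpace E.left := by
  haveI := H19Grp.kernel_mono hK
  have hsq := H19Grp.isPullback_kernel q i hK
  have e : (E ◁ i) ≫ μ[E] = fst E H * (snd E H ≫ i) := by rw [Hom.mul_def]; congr 1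
  have hsq' : IsPullback ((E ◁ i) ≫ μ[E]) (fst E H) q q := by rw [e]; exact hsq.flip
  haveI : Smooth q.left := descend_proj (P := @Smooth) (hasFpqcSection_of_lfp q) hsq' inferInstance
  refine ⟨by rw [← Over.w q]; infer_instance, ?_⟩
  haveI := H19Grp.geometricallyIrreducible_of_connectedSpace_group H
  haveI := H19Grp.geometricallyIrreducible_of_connectedSpace_group Q
  haveI : IrreducibleSpace Q.left := GeometricallyIrreducible.irreducibleSpace_of_subsingleton Q.hom
  haveI : GeometricallyIrreducible (fst E H).left :=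
    inferInstanceAs (GeometricallyIrreducible (pullback.fst E.hom H.hom))
  haveI : Smooth (fst E H).left := inferInstanceAs (Smooth (pullback.fst E.hom H.hom))
  have hfib : ∀ y, IsPreirreducible (q.left ⁻¹' {y}) := by
    intro y
    obtain ⟨x, rfl⟩ := q.left.surjective y
    have h := ((fst E H).left.isIrreducible_preimage (fst E H).left.isOpenMap
      (isIrreducible_singleton (x := x))).image _ (fst E H * (snd E H ≫ i)).left.continuous.continuousOn
    convert h.isPreirreducible using 1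
    ext w
    have hs := hsq.map (Over.forget (Spec (CommRingCat.of k)))
    constructor
    · intro hw
      obtain ⟨z, hz₁, hz₂⟩ := Scheme.exists_preimage_of_isPullback hs x w (Eq.symm hw)
      exact ⟨z, hz₁, hz₂⟩
    · rintro ⟨z, hz, rfl⟩
      have hz' : (fst E H).left z = x := hz
      have := congrArg (fun m : (E ⊗ H).left ⟶ Q.left => m z) hs.w
      simp only [Over.forget_map, Scheme.Hom.comp_apply] at this
      exact ((congrArg q.left hz').symm.trans this).symm
  have hirr : IsIrreducible (q.left ⁻¹' Set.univ) := by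
    refine (IrreducibleSpace.isIrreducible_univ _).preimage_of_isPreirreducible_fiber _ q.left.isOpenMap hfib ?_
    rw [Set.range_eq_univ.mpr q.left.surjective, Set.inter_univ]
    exact Set.univ_nonempty
  haveI : IrreducibleSpace E.left := by
    rw [irreducibleSpace_def]
    simpa using hirr
  infer_instance

/-- The image of a smooth connected normal subgroup under a flat surjective homomorphism. -/
theorem exists_image_normal {H' G Q : Over (Spec (CommRingCat.of k))} [GrpObj H'] [GrpObj G] [GrpObj Q]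
    [LocallyOfFiniteType G.hom] [QuasiCompact G.hom] [LocallyOfFiniteType Q.hom] [QuasiCompact Q.hom]
    (q : G ⟶ Q) [IsMonHom q] [Flat q.left] [Surjective q.left] (j' : H' ⟶ G) [IsMonHom j']
    [IsClosedImmersion j'.left] [Smooth H'.hom] [ConnectedSpace H'.left] (hN : AlgGrp.IsNormalHom j') :
    ∃ (I : Over (Spec (CommRingCat.of k))) (_ : GrpObj I) (p : H' ⟶ I) (jI : I ⟶ Q), IsMonHom p ∧ IsMonHom jI ∧
      p ≫ jI = j' ≫ q ∧ Flat p.left ∧ Surjective p.left ∧ IsClosedImmersion jI.left ∧ Smooth I.hom ∧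
      ConnectedSpace I.left ∧ AlgGrp.IsNormalHom jI := by
  have hG : IsFT G := ⟨inferInstance, inferInstance⟩
  have hH : IsFT H' := AbelianCat.isFT_of_closed j' hG
  haveI := hH.lft; haveI := hH.qc
  obtain ⟨I, gI, p, jI, hp, hjI, hpj, hf, hs, hfp, hcl⟩ :=
    AbelianCat.exists_image (j' ≫ q) hH ⟨inferInstance, inferInstance⟩
  haveI : Mono jI := Over.mono_of_mono_left _
  have hI : IsFT I := AbelianCat.isFT_of_fppf p hH
  haveI := hI.lft; haveI := hI.qc
  refine ⟨I, gI, p, jI, hp, hjI, hpj, hf, hs, hcl,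
    H13Flat.smooth_of_fppf_covering I.hom fun y =>
      ⟨H'.left, p.left, hf, hfp, p.left.surjective y, by rw [Over.w]; infer_instance⟩,
    p.left.surjective.connectedSpace p.left.continuous, ?_⟩
  obtain ⟨-, hqc, hqfp⟩ := AbelianCat.props_hom q hG ⟨inferInstance, inferInstance⟩
  obtain ⟨-, hpc, -⟩ := AbelianCat.props_hom p hH hI
  intro T g n
  let π : G ⊗ H' ⟶ Q ⊗ I := q ⊗ₘ p
  haveI : Flat π.left := MorphismProperty.pullbackMap (P := @Flat) (inferInstanceAs (Flat q.left))
    (inferInstanceAs (Flat p.left)) (Over.w q).symm (Over.w p).symm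
  haveI : Surjective π.left := MorphismProperty.pullbackMap (P := @Surjective) (inferInstanceAs (Surjective q.left))
    (inferInstanceAs (Surjective p.left)) (Over.w q).symm (Over.w p).symm
  haveI : QuasiCompact π.left := MorphismProperty.pullbackMap (P := @QuasiCompact) (inferInstanceAs (QuasiCompact q.left))
    (inferInstanceAs (QuasiCompact p.left)) (Over.w q).symm (Over.w p).symm
  obtain ⟨m, hm⟩ := hN _ (fst G H') (snd G H')
  obtain ⟨c, hc⟩ := H19Grp.exists_lift_of_cover jI (fst Q I * (snd Q I ≫ jI) * (fst Q I)⁻¹) π (m ≫ p) (by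
    rw [Category.assoc, hpj, ← Category.assoc, ← hm]
    simp only [MonObj.comp_mul, GrpObj.comp_inv, MonObj.mul_comp, GrpObj.inv_comp, π, tensorHom_fst,
      tensorHom_snd_assoc, Category.assoc, hpj])
  refine ⟨lift g n ≫ c, ?_⟩
  rw [Category.assoc, hc, MonObj.comp_mul, MonObj.comp_mul, GrpObj.comp_inv, lift_fst, lift_snd_assoc]

end Groth.Agent.H19Quot
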