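import Groth.Agent.H19Quot.OrbitIso
import Groth.Agent.H19Grp.GoodQuot
import Groth.Agent.H19Grp.OrbitSmooth
import Groth.Agent.H8Props.FieldDimScheme
import Groth.Agent.H17.Reduced
import Groth.Agent.S7984
import Mathlib

/-!
# Dimensions of orbits over a field
-/

set_option autoImplicit false
set_option maxHeartbeats 1000000
set_option synthInstance.maxHeartbeats 100000
set_option linter.style.haveILetI false
set_option backward.isDefEq.respectTransparency false

universe u

open CategoryTheory CategoryTheory.Limits MonoidalCategory CartesianMonoidalCategory MonObj GrpObj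
  AlgebraicGeometry TopologicalSpace
open Groth.Agent.H8Props.FieldDim

namespace Groth.Agent.H19Quot

variable {k : Type u} [Field k]

/-- The dimension of the closure of a point does not change along an immersion. -/
theorem cdim_immersion {Z X : Scheme.{u}} (f : X ⟶ Spec (CommRingCat.of k)) [LocallyOfFiniteType f]
    (j : Z ⟶ X) [IsImmersion j] (z : Z) : cdim (j z) = cdim z := by
  let φ := Spec.preimage (Z.fromSpecResidueField z ≫ j ≫ f)
  letI := φ.hom.toAlgebra
  obtain ⟨s, hs, ht⟩ := exists_trdeg (j ≫ f) (L := Z.residueField z) (Z.fromSpecResidueField z)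
    (Spec.map_preimage _).symm (IsLocalRing.closedPoint _)
  obtain ⟨s', hs', ht'⟩ := exists_trdeg f (L := Z.residueField z) (Z.fromSpecResidueField z ≫ j)
    ((Category.assoc _ _ _).trans (Spec.map_preimage _).symm) (IsLocalRing.closedPoint _)
  erw [Scheme.fromSpecResidueField_apply] at hs
  erw [Scheme.Hom.comp_apply, Scheme.fromSpecResidueField_apply] at hs'
  obtain rfl : s = s' := by exact_mod_cast ht.symm.trans ht'
  rw [hs, hs']

/-- A point with dense-most closure computes the dimension. -/
theorem exists_cdim_eq_dim {Z : Scheme.{u}} (f : Z ⟶ Spec (CommRingCat.of k)) [LocallyOfFiniteType f]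
    [CompactSpace Z] [Nonempty Z] : ∃ z : Z, topologicalKrullDim Z = cdim z := by
  haveI : IsNoetherianRing (CommRingCat.of k) := inferInstanceAs (IsNoetherianRing k)
  haveI : IsLocallyNoetherian Z := LocallyOfFiniteType.isLocallyNoetherian f
  haveI : IsNoetherian Z := {}
  have hfin := NoetherianSpace.finite_irreducibleComponents (α := Z)
  haveI := hfin.to_subtype
  haveI : Nonempty (irreducibleComponents Z) :=
    ⟨⟨_, irreducibleComponent_mem_irreducibleComponents (Classical.arbitrary Z)⟩⟩
  obtain ⟨C, hC⟩ := Finite.exists_max (fun C : irreducibleComponents Z => topologicalKrullDim C.1)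
  refine ⟨C.2.1.genericPoint, le_antisymm ?_ (topologicalKrullDim_subspace_le _ _)⟩
  rw [dim_eq_iSup_cdim]
  refine iSup_le fun z => ?_
  have hd : cdim C.2.1.genericPoint = topologicalKrullDim C.1 := by
    show topologicalKrullDim (closure ({C.2.1.genericPoint} : Set Z)) = _
    rw [C.2.1.closure_genericPoint (isClosed_of_mem_irreducibleComponents _ C.2)]
  rw [hd]
  refine le_trans (dim_mono ?_) (hC ⟨_, irreducibleComponent_mem_irreducibleComponents z⟩)
  exact closure_minimal (Set.singleton_subset_iff.2 mem_irreducibleComponent) isClosed_irreducibleComponent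

/-- A subscheme inside the boundary of a subscheme has smaller dimension. -/
theorem dim_lt_of_boundary {Z Z' X : Scheme.{u}} (f : X ⟶ Spec (CommRingCat.of k)) [LocallyOfFiniteType f]
    (j : Z ⟶ X) [IsImmersion j] [CompactSpace Z] (j' : Z' ⟶ X) [IsImmersion j'] [CompactSpace Z']
    [Nonempty Z'] (h : Set.range j' ⊆ closure (Set.range j) \ Set.range j) :
    topologicalKrullDim Z' < topologicalKrullDim Z := by
  haveI : IsNoetherianRing (CommRingCat.of k) := inferInstanceAs (IsNoetherianRing k)
  haveI : LocallyOfFiniteType (j ≫ f) := inferInstance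
  haveI : IsLocallyNoetherian Z := LocallyOfFiniteType.isLocallyNoetherian (j ≫ f)
  haveI : IsNoetherian Z := {}
  obtain ⟨z', hz'⟩ := exists_cdim_eq_dim (j' ≫ f)
  obtain ⟨hcl, hne⟩ := h ⟨z', rfl⟩
  have hfin := NoetherianSpace.finite_irreducibleComponents (α := Z)
  rw [← Set.image_univ, ← sUnion_irreducibleComponents, Set.image_sUnion, Set.sUnion_image,
    hfin.closure_biUnion] at hcl
  obtain ⟨C, hC, hzC⟩ := Set.mem_iUnion₂.1 hcl
  rw [← hC.1.closure_genericPoint (isClosed_of_mem_irreducibleComponents _ hC)] at hzC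
  have hspec : j hC.1.genericPoint ⤳ j' z' := by
    rw [specializes_iff_mem_closure, ← Set.image_singleton]
    exact closure_minimal (image_closure_subset_closure_image j.continuous) isClosed_closure hzC
  rw [hz', ← cdim_immersion f j' z']
  calc cdim (j' z') < cdim (j hC.1.genericPoint) := cdim_lt f hspec (fun e => hne ⟨_, e⟩)
    _ = cdim hC.1.genericPoint := cdim_immersion f j _
    _ ≤ topologicalKrullDim Z := topologicalKrullDim_subspace_le _ _

/-- The reduced orbit. -/
theorem exists_orbit {G X : Over (Spec (CommRingCat.of k))} [GrpObj G] [LocallyOfFiniteType G.hom]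
    [QuasiCompact G.hom] [LocallyOfFiniteType X.hom] [QuasiCompact X.hom] (a : AlgGrp.Action G X)
    (x : 𝟙_ (Over (Spec (CommRingCat.of k))) ⟶ X) :
    ∃ (Z : Over (Spec (CommRingCat.of k))) (z : Z ⟶ X), IsImmersion z.left ∧ IsReduced Z.left ∧
      CompactSpace Z.left ∧ Nonempty Z.left ∧ Set.range z.left.base = Set.range (a.orbitMap x).left.base ∧
      topologicalKrullDim Z.left = topologicalKrullDim (Set.range (a.orbitMap x).left.base) := by
  obtain ⟨Zs, zs, hzs, hred, hrange⟩ := H17.exists_reduced_of_isLocallyClosed (S7984.result k G X a x)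
  haveI : IsImmersion zs := hzs
  haveI : CompactSpace G.left := QuasiCompact.compactSpace_of_compactSpace G.hom
  refine ⟨Over.mk (zs ≫ X.hom), Over.homMk zs, hzs, hred, ?_, ?_, hrange, ?_⟩
  · refine ⟨zs.isEmbedding.isCompact_iff.2 ?_⟩
    rw [Set.image_univ, hrange]
    exact isCompact_range (a.orbitMap x).left.continuous
  · obtain ⟨z, -⟩ := hrange.ge ⟨η[G].left (IsLocalRing.closedPoint k), rfl⟩
    exact ⟨z⟩
  · rw [← hrange]
    exact (dim_range zs.isEmbedding).symm

/-- An orbit which is not closed has an orbit of smaller dimension in its boundary. -/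
theorem exists_smaller_orbit [IsAlgClosed k] {G X : Over (Spec (CommRingCat.of k))} [GrpObj G]
    [LocallyOfFiniteType G.hom] [QuasiCompact G.hom] [UniversallyOpen G.hom] [LocallyOfFiniteType X.hom]
    [QuasiCompact X.hom] (a : AlgGrp.Action G X) (x : 𝟙_ (Over (Spec (CommRingCat.of k))) ⟶ X)
    (h : ¬ IsClosed (Set.range (a.orbitMap x).left.base)) :
    ∃ y : 𝟙_ (Over (Spec (CommRingCat.of k))) ⟶ X,
      topologicalKrullDim (Set.range (a.orbitMap y).left.base) <
        topologicalKrullDim (Set.range (a.orbitMap x).left.base) := by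
  set O := Set.range (a.orbitMap x).left.base with hO
  have hinv : NRQuot.IsInvariantSet a O := H19Grp.isInvariantSet_range_orbitMap x
  have hcinv := H19Grp.isInvariantSet_closure hinv
  haveI : CompactSpace X.left := QuasiCompact.compactSpace_of_compactSpace X.hom
  have hBc : IsClosed (closure O \ O) :=
    by simpa [coborder] using (S7984.result k G X a x).isOpen_coborder.isClosed_compl
  have hBne : (closure O \ O).Nonempty := by
    by_contra h0
    exact h (closure_subset_iff_isClosed.1 (Set.sdiff_eq_empty.1 (Set.not_nonempty_iff_eq_empty.1 h0)))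
  obtain ⟨p, hp, hpc⟩ := hBc.exists_closed_singleton hBne
  let y : 𝟙_ (Over (Spec (CommRingCat.of k))) ⟶ X :=
    Over.homMk (pointOfClosedPoint X.hom p hpc) (pointOfClosedPoint_comp _ _ _)
  refine ⟨y, ?_⟩
  have hsub : Set.range (a.orbitMap y).left.base ⊆ closure O \ O := by
    rintro _ ⟨g, rfl⟩
    let w : (G ⊗ X).left := (lift (𝟙 G) (toUnit G ≫ y)).left g
    have hw : (snd G X).left w = p := by
      rw [← Scheme.Hom.comp_apply, ← Over.comp_left, lift_snd, Over.comp_left, Scheme.Hom.comp_apply]
      exact pointOfClosedPoint_apply _ _ _ _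
    refine ⟨hcinv w (show (snd G X).left w ∈ closure O from hw ▸ hp.1), fun hmem => hp.2 ?_⟩
    let e : G ⊗ X ⟶ G ⊗ X := lift (fst G X)⁻¹ a.act
    have he : e ≫ a.act = snd G X := by
      show lift (fst G X)⁻¹ a.act ≫ a.act = _
      have h1 : a.act = lift (fst G X) (snd G X) ≫ a.act := by rw [lift_fst_snd, Category.id_comp]
      nth_rewrite 1 [h1]
      rw [← H19Grp.act_mul, inv_mul_cancel, H19Grp.act_one]
    have h2 := hinv (e.left w) (show (snd G X).left (e.left w) ∈ O by
      rw [← Scheme.Hom.comp_apply, ← Over.comp_left, lift_snd]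
      exact hmem)
    rw [← Scheme.Hom.comp_apply, ← Over.comp_left, he, hw] at h2
    exact h2
  obtain ⟨Z, z, hz, -, hZc, -, hzr, hzd⟩ := exists_orbit a x
  obtain ⟨Z', z', hz', -, hZc', hZn', hzr', hzd'⟩ := exists_orbit a y
  rw [← hzd, ← hzd']
  exact dim_lt_of_boundary X.hom z.left z'.left (by rw [hzr, hzr']; exact hsub)

end Groth.Agent.H19Quot
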