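import Groth.Agent.H19Quot.OrbitFlat
import Groth.Agent.H19Grp.QuotientDesc
import Groth.Agent.H21Desc.OrbitQuotient
import Groth.Agent.H17.Reduced
import Groth.Prelude.Def_AGF
import Mathlib

/-!
# The quotient by a stabiliser is the reduced orbit
-/

set_option autoImplicit false
set_option maxHeartbeats 1000000
set_option synthInstance.maxHeartbeats 100000
set_option linter.style.haveILetI false
set_option backward.isDefEq.respectTransparency false

universe u

open CategoryTheory CategoryTheory.Limits MonoidalCategory CartesianMonoidalCategory MonObj GrpObj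
  AlgebraicGeometry

namespace Groth.Agent.H19Quot

open Groth.Agent.H19Grp

/-- For a reduced group, the quotient by a stabiliser is the reduced orbit. -/
theorem exists_iso_quotient_orbit {k : Type u} [Field k]
    {G X Go Y Z : Over (Spec (CommRingCat.of k))} [GrpObj G] [GrpObj Go] [LocallyOfFiniteType G.hom]
    [QuasiCompact G.hom] [IsReduced G.left] [LocallyOfFiniteType X.hom] [IsSeparated X.hom]
    (a : AlgGrp.Action G X) (o : 𝟙_ _ ⟶ X) (i : Go ⟶ G) [IsMonHom i]
    (hGo : IsPullback i (toUnit Go) (a.orbitMap o) o)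
    (b : AlgGrp.Action G Y) (y : 𝟙_ _ ⟶ Y) (hY : AGF.IsQuotient i Y b y)
    (z : Z ⟶ X) [IsImmersion z.left] [IsReduced Z.left]
    (hz : Set.range z.left.base = Set.range (a.orbitMap o).left.base) :
    ∃ e : Y ≅ Z, b.orbitMap y ≫ e.hom ≫ z = a.orbitMap o := by
  obtain ⟨g, hg⟩ := H17.exists_lift_immersion_of_range_subset (a.orbitMap o).left z.left hz.ge
  let g₀ : G ⟶ Z := Over.homMk g (by rw [← Over.w z, ← Category.assoc, hg, Over.w])
  have hg₀ : g₀ ≫ z = a.orbitMap o := Over.OverMorphism.ext hg
  haveI : Surjective g₀.left := ⟨fun x => by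
    obtain ⟨w, hw⟩ := hz.le ⟨x, rfl⟩
    refine ⟨w, z.left.isEmbedding.injective ?_⟩
    rw [← hw, ← hg₀]
    rfl⟩
  haveI : LocallyOfFiniteType Z.hom := by rw [← Over.w z]; infer_instance
  haveI : IsSeparated Z.hom := by rw [← Over.w z]; infer_instance
  haveI : QuasiCompact g₀.left := by
    haveI : QuasiCompact (g₀.left ≫ Z.hom) := by rw [Over.w]; infer_instance
    exact QuasiCompact.of_comp g₀.left Z.hom
  haveI : Flat g₀.left := flat_orbit_reduced a o Z z g₀ hg₀
  haveI := hY.1
  haveI := hY.2.1
  haveI := hY.2.2.1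
  haveI := QuotientDesc.lfp_orbitMap b y
  haveI : LocallyOfFinitePresentation g₀.left := by
    haveI : IsLocallyNoetherian Z.left := LocallyOfFiniteType.isLocallyNoetherian Z.hom
    haveI : LocallyOfFiniteType (g₀.left ≫ Z.hom) := by rw [Over.w]; infer_instance
    haveI : LocallyOfFiniteType g₀.left := locallyOfFiniteType_of_comp _ Z.hom
    infer_instance
  haveI : Mono z := Over.mono_of_mono_left _
  haveI := Flat.epi_of_flat_of_surjective (b.orbitMap y).left
  haveI := Flat.epi_of_flat_of_surjective g₀.left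
  haveI : Epi (b.orbitMap y) := Over.epi_of_epi_left _
  haveI : Epi g₀ := Over.epi_of_epi_left _
  have sqo := H21Desc.isPullback_orbitMap a o i hGo
  have hrel : ∀ (T : Over (Spec (CommRingCat.of k))) (p q : T ⟶ G),
      p ≫ b.orbitMap y = q ≫ b.orbitMap y ↔ p ≫ a.orbitMap o = q ≫ a.orbitMap o := fun T p q => by
    constructor
    · intro h
      have h1 := congrArg (hY.2.2.2.lift p q h ≫ ·) sqo.w
      simp only [← Category.assoc] at h1
      rwa [IsPullback.lift_fst, Category.assoc _ (G ◁ i) μ[G], IsPullback.lift_snd] at h1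
    · intro h
      have h1 := congrArg (sqo.lift p q h ≫ ·) hY.2.2.2.w
      simp only [← Category.assoc] at h1
      rwa [IsPullback.lift_fst, Category.assoc _ (G ◁ i) μ[G], IsPullback.lift_snd] at h1
  obtain ⟨e₁, he₁, -⟩ := QuotientDesc.existsUnique_desc (b.orbitMap y) g₀ (fun T p q h => by
    rw [← cancel_mono z, Category.assoc, Category.assoc, hg₀]
    exact (hrel T p q).1 h)
  obtain ⟨e₂, he₂, -⟩ := QuotientDesc.existsUnique_desc g₀ (b.orbitMap y) (fun T p q h => by
    refine (hrel T p q).2 ?_
    rw [← hg₀, ← Category.assoc, h, Category.assoc])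
  refine ⟨⟨e₁, e₂, ?_, ?_⟩, ?_⟩
  · rw [← cancel_epi (b.orbitMap y), reassoc_of% he₁, he₂, Category.comp_id]
  · rw [← cancel_epi g₀, reassoc_of% he₂, he₁, Category.comp_id]
  · rw [← Category.assoc, he₁, hg₀]

end Groth.Agent.H19Quot
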