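import Groth.Agent.H19Quot.Linear
import Groth.Agent.H19Grp.AntiAffineGroup
import Mathlib

/-!
# Embedding an affine algebraic group in the general linear group
-/

set_option autoImplicit false
set_option maxHeartbeats 1000000
set_option synthInstance.maxHeartbeats 400000
set_option linter.style.haveILetI false
set_option backward.isDefEq.respectTransparency.types false

universe u

open CategoryTheory CategoryTheory.Limits MonoidalCategory CartesianMonoidalCategory MonObj GrpObj
  AlgebraicGeometry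

namespace Groth.Agent.H19Quot

attribute [local instance 2000] Hom.group Hom.monoid

theorem isAffineHom_GLn (n : ℕ) (S : Scheme.{u}) : IsAffineHom (FrB.GLn n S).hom := by
  have h : IsAffineHom (FrB.GLZ.{u} n).hom := inferInstanceAs (IsAffineHom (Spec.map _))
  exact MorphismProperty.pullback_snd _ _ h

/-- An affine algebraic group embeds in a general linear group. -/
theorem exists_hom_GLn {k : Type u} [Field k] (G : Over (Spec (CommRingCat.of k))) [GrpObj G] [IsAffine G.left]
    [LocallyOfFiniteType G.hom] :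
    ∃ (n : ℕ) (ρ : G ⟶ FrB.GLn n (Spec (CommRingCat.of k))), IsMonHom ρ ∧ Mono ρ := by
  obtain ⟨n, M, hmul, hinj⟩ := exists_matrix G
  obtain ⟨ρ, hρ⟩ := H14GL.exists_mat (S := Spec (CommRingCat.of k)) M
  have hmat : ∀ {Z : Over (Spec (CommRingCat.of k))} (x : Z ⟶ G),
      H14GL.mat (x ≫ ρ) = Matrix.GeneralLinearGroup.map x.left.appTop.hom M := fun x => by
    rw [H14GL.mat_comp, hρ]
  haveI : IsAffine (G ⊗ G).left := inferInstanceAs (IsAffine (pullback G.hom G.hom))
  have hμ : μ[G] ≫ ρ = (ρ ⊗ₘ ρ) ≫ μ[FrB.GLn n (Spec (CommRingCat.of k))] := by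
    have h1 : μ[G] = fst G G * snd G G := by rw [Hom.mul_def, lift_fst_snd, Category.id_comp]
    have h2 : (ρ ⊗ₘ ρ) ≫ μ[FrB.GLn n (Spec (CommRingCat.of k))] = (fst G G ≫ ρ) * (snd G G ≫ ρ) := by
      rw [Hom.mul_def, lift_fst_comp_snd_comp]
    rw [h1, h2]
    apply H14GL.mat_ext
    rw [H14GL.mat_mul, hmat, hmat, hmat, hmul]
  haveI : IsMonHom ρ := by
    refine ⟨?_, hμ⟩
    have e : (η[G] ≫ ρ) * (η[G] ≫ ρ) = η[G] ≫ ρ := by
      have h1 : (η[G] * η[G] : 𝟙_ (Over (Spec (CommRingCat.of k))) ⟶ G) = η[G] := by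
        rw [show η[G] = (1 : 𝟙_ (Over (Spec (CommRingCat.of k))) ⟶ G) by
          rw [Hom.one_def, toUnit_unique (toUnit _) (𝟙 _), Category.id_comp], _root_.mul_one]
      conv_rhs => rw [← h1, Hom.mul_def, Category.assoc, hμ, ← Category.assoc, lift_map, ← Hom.mul_def]
    have e' : η[G] ≫ ρ = 1 := by
      rw [← inv_mul_cancel_left (η[G] ≫ ρ) (η[G] ≫ ρ), e, inv_mul_cancel]
    rw [e', Hom.one_def, toUnit_unique (toUnit _) (𝟙 _), Category.id_comp]
  exact ⟨n, ρ, inferInstance, ⟨fun {Z} x y h => hinj Z x y (by rw [← hmat, ← hmat, h])⟩⟩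

/-- A group with only trivial linear representations has only constant functions. -/
theorem isIso_appTop_of_forall_hom_GLn {k : Type u} [Field k] (G : Over (Spec (CommRingCat.of k))) [GrpObj G]
    [LocallyOfFiniteType G.hom] [QuasiCompact G.hom]
    (h : ∀ (n : ℕ) (ρ : G ⟶ FrB.GLn n (Spec (CommRingCat.of k))), IsMonHom ρ → ρ = 1) : IsIso G.hom.appTop := by
  haveI : IsNoetherianRing (CommRingCat.of k) := inferInstanceAs (IsNoetherianRing k)
  haveI : IsLocallyNoetherian G.left := LocallyOfFiniteType.isLocallyNoetherian G.hom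
  haveI : QuasiSeparated G.hom := inferInstance
  obtain ⟨gA, hr⟩ := H19Grp.Affinization.exists_grpObj G
  letI := gA
  haveI := hr
  obtain ⟨-, -, hAl⟩ := H19Grp.Affinization.flat_surjective G
  haveI := hAl
  haveI : IsAffine (H19Grp.Affinization.aff G).left := by
    show IsAffine (Spec Γ(G.left, ⊤))
    infer_instance
  obtain ⟨n, ρ, hρm, hρmono⟩ := exists_hom_GLn (H19Grp.Affinization.aff G)
  haveI := hρm
  haveI := hρmono
  have e := h n (H19Grp.Affinization.rho G ≫ ρ) inferInstance
  refine H19Grp.AntiAffineGroup.isIso_appTop_of_rho_const G η[H19Grp.Affinization.aff G] ?_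
  rw [← Hom.one_def, ← cancel_mono ρ, e, MonObj.one_comp]

end Groth.Agent.H19Quot
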