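import Groth.Agent.H19Quot.Pieces
import Groth.Prelude.Def_AlgGrp

/-!
# The relation of translation by a subgroup
-/

set_option autoImplicit false
set_option maxHeartbeats 1000000
set_option synthInstance.maxHeartbeats 400000
set_option linter.style.haveILetI false
set_option backward.isDefEq.respectTransparency false

universe u

open CategoryTheory CategoryTheory.Limits MonoidalCategory CartesianMonoidalCategory MonObj AlgebraicGeometry

namespace Groth.Agent.H19Quot

variable {S : Scheme.{u}} {F G : Over S} [GrpObj G] (u : F ⟶ G)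

/-- The translate `(f, g) ↦ u f · g`. -/
noncomputable abbrev leftTranslate : F ⊗ G ⟶ G := (u ▷ G) ≫ μ[G]

theorem comp_leftTranslate {T : Over S} (r : T ⟶ F ⊗ G) :
    r ≫ leftTranslate u = (r ≫ fst F G ≫ u) * (r ≫ snd F G) := by
  rw [Hom.mul_def, leftTranslate, ← Category.assoc]
  congr 1
  apply CartesianMonoidalCategory.hom_ext <;> simp

theorem lift_leftTranslate {T : Over S} (f : T ⟶ F) (g : T ⟶ G) :
    CartesianMonoidalCategory.lift f g ≫ leftTranslate u = (f ≫ u) * g := by
  rw [comp_leftTranslate, ← Category.assoc, lift_fst, lift_snd]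

theorem isEqvRel [GrpObj F] [IsMonHom u] [Mono u] : AlgSp.IsEqvRel (snd F G) (leftTranslate u) := by
  refine ⟨fun T r r' h₁ h₂ => ?_, fun T => ⟨fun a => ?_, fun {a b} hab => ?_, fun {a b c} hab hbc => ?_⟩⟩
  · rw [comp_leftTranslate, comp_leftTranslate, h₂] at h₁
    exact CartesianMonoidalCategory.hom_ext _ _
      ((cancel_mono u).1 (by simpa only [Category.assoc] using mul_right_cancel h₁)) h₂
  · exact ⟨CartesianMonoidalCategory.lift 1 a, by rw [lift_leftTranslate, MonObj.one_comp, _root_.one_mul], lift_snd _ _⟩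
  · obtain ⟨r, hra, hrb⟩ := hab
    refine ⟨CartesianMonoidalCategory.lift (r ≫ fst F G)⁻¹ a, ?_, lift_snd _ _⟩
    rw [lift_leftTranslate, GrpObj.inv_comp, Category.assoc, ← hra, comp_leftTranslate, inv_mul_cancel_left, hrb]
  · obtain ⟨r, hra, hrb⟩ := hab
    obtain ⟨r₂, hr₂b, hr₂c⟩ := hbc
    refine ⟨CartesianMonoidalCategory.lift ((r ≫ fst F G) * (r₂ ≫ fst F G)) c, ?_, lift_snd _ _⟩
    rw [lift_leftTranslate, MonObj.mul_comp, Category.assoc, Category.assoc, _root_.mul_assoc, ← hr₂c,
      ← comp_leftTranslate, hr₂b, ← hrb, ← comp_leftTranslate, hra]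

theorem isClosedImmersion_prodLift [IsClosedImmersion u.left] :
    IsClosedImmersion (Limits.prod.lift (leftTranslate u) (snd F G)).left := by
  let sh : G ⊗ G ⟶ G ⊗ G := CartesianMonoidalCategory.lift μ[G] (snd G G)
  let sh' : G ⊗ G ⟶ G ⊗ G := CartesianMonoidalCategory.lift (fst G G * (snd G G)⁻¹) (snd G G)
  have hμ : μ[G] = fst G G * snd G G := by rw [Hom.mul_def, lift_fst_snd, Category.id_comp]
  haveI : IsIso sh := ⟨sh', by
    refine CartesianMonoidalCategory.hom_ext _ _ ?_ ?_
    · simp only [sh, sh', Category.assoc, lift_fst, Category.id_comp, MonObj.comp_mul, GrpObj.comp_inv, lift_snd]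
      rw [hμ, mul_inv_cancel_right]
    · simp [sh, sh'], by
    refine CartesianMonoidalCategory.hom_ext _ _ ?_ ?_
    · simp only [sh, sh', Category.assoc, lift_fst, Category.id_comp, lift_snd]
      rw [hμ, MonObj.comp_mul, lift_fst, lift_snd, inv_mul_cancel_right]
    · simp [sh, sh']⟩
  let c : G ⊗ G ⟶ G ⨯ G := Limits.prod.lift (fst G G) (snd G G)
  haveI : IsIso c := ⟨CartesianMonoidalCategory.lift Limits.prod.fst Limits.prod.snd,
    by refine CartesianMonoidalCategory.hom_ext _ _ ?_ ?_ <;> simp [c],
    by apply Limits.prod.hom_ext <;> simp [c]⟩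
  have e : Limits.prod.lift (leftTranslate u) (snd F G) = (u ▷ G) ≫ sh ≫ c := by
    apply Limits.prod.hom_ext <;> simp [sh, c, leftTranslate]
  haveI : IsClosedImmersion (u ▷ G).left :=
    MorphismProperty.pullbackMap (P := @IsClosedImmersion) (inferInstanceAs (IsClosedImmersion u.left))
      (inferInstanceAs (IsClosedImmersion (𝟙 G.left))) (Over.w u).symm (Category.id_comp _).symm
  haveI : IsIso sh.left := inferInstanceAs (IsIso ((Over.forget S).map sh))
  haveI : IsIso c.left := inferInstanceAs (IsIso ((Over.forget S).map c))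
  rw [e, Over.comp_left, Over.comp_left]
  infer_instance

instance [Flat F.hom] : Flat (snd F G).left := inferInstanceAs (Flat (pullback.snd F.hom G.hom))

instance [LocallyOfFinitePresentation F.hom] : LocallyOfFinitePresentation (snd F G).left :=
  inferInstanceAs (LocallyOfFinitePresentation (pullback.snd F.hom G.hom))

/-- Right translation by a point defined over an extension of the base. -/
noncomputable def translate {E : Over S} (g : E ⟶ G) : G ⊗ E ⟶ G ⊗ E :=
  CartesianMonoidalCategory.lift (fst G E * (snd G E ≫ g)) (snd G E)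

theorem comp_translate {E T : Over S} (g : E ⟶ G) (a : T ⟶ G ⊗ E) :
    a ≫ translate g = CartesianMonoidalCategory.lift ((a ≫ fst G E) * (a ≫ snd G E ≫ g)) (a ≫ snd G E) := by
  rw [translate, comp_lift, MonObj.comp_mul]

theorem comp_translate_fst {E T : Over S} (g : E ⟶ G) (a : T ⟶ G ⊗ E) :
    a ≫ translate g ≫ fst G E = (a ≫ fst G E) * (a ≫ snd G E ≫ g) := by
  rw [← Category.assoc, comp_translate, lift_fst]

/-- Right translations as automorphisms. -/
noncomputable def translateIso {E : Over S} (g : E ⟶ G) : G ⊗ E ≅ G ⊗ E where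
  hom := translate g
  inv := translate g⁻¹
  hom_inv_id := by
    apply CartesianMonoidalCategory.hom_ext <;>
      simp [translate, MonObj.comp_mul, GrpObj.comp_inv]
  inv_hom_id := by
    apply CartesianMonoidalCategory.hom_ext <;>
      simp [translate, MonObj.comp_mul, GrpObj.comp_inv]

/-- Right translations commute with left translations. -/
theorem translate_preserves {E : Over S} (g : E ⟶ G) {T : Over S} (r : T ⟶ (F ⊗ G) ⊗ E) :
    ∃ r' : T ⟶ (F ⊗ G) ⊗ E, r' ≫ snd F G ▷ E = r ≫ snd F G ▷ E ≫ translate g ∧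
      r' ≫ leftTranslate u ▷ E = r ≫ leftTranslate u ▷ E ≫ translate g := by
  refine ⟨CartesianMonoidalCategory.lift
    (CartesianMonoidalCategory.lift (r ≫ fst _ E ≫ fst F G) ((r ≫ fst _ E ≫ snd F G) * (r ≫ snd _ E ≫ g)))
    (r ≫ snd _ E), ?_, ?_⟩
  · apply CartesianMonoidalCategory.hom_ext <;> simp [translate, MonObj.comp_mul]
  · apply CartesianMonoidalCategory.hom_ext
    · simp only [Category.assoc, translate, lift_fst, MonObj.comp_mul, whiskerRight_fst, whiskerRight_snd_assoc,
        whiskerRight_fst_assoc, lift_fst_assoc, lift_leftTranslate, comp_leftTranslate]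
      rw [CartesianMonoidalCategory.lift_snd, _root_.mul_assoc]
    · simp [translate]

end Groth.Agent.H19Quot
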