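import Groth.Agent.H19Quot.Props
import Groth.Agent.H19Quot.Group
import Groth.Agent.H19Grp.GrpToGrpd
import Groth.Agent.H19Grp.Dimension
import Groth.Agent.H17.Topology
import Groth.Agent.H8Props.FieldDimFormula
import Groth.Agent.H8Props.FieldDimFibre
import Groth.Agent.H8Props.FieldDimEquidim
import Groth.Agent.H8Props.Devissage.LocalFibre

/-!
# Topology of homogeneous spaces over a field
-/

set_option autoImplicit false
set_option maxHeartbeats 1000000
set_option synthInstance.maxHeartbeats 400000
set_option linter.style.haveILetI false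
set_option backward.isDefEq.respectTransparency false

universe u

open CategoryTheory CategoryTheory.Limits MonoidalCategory CartesianMonoidalCategory MonObj AlgebraicGeometry
  TopologicalSpace
open AlgSp Groth.Agent.H12AlgSp

namespace Groth.Agent.H19Quot

variable {k : Type u} [Field k]

/-- Connected components of a group over a field are open, irreducible and quasi-compact. -/
theorem components_grp (G : Over (Spec (CommRingCat.of k))) [GrpObj G] [LocallyOfFiniteType G.hom] (g : G.left) :
    IsOpen (connectedComponent g) ∧ IsIrreducible (connectedComponent g) ∧ IsCompact (connectedComponent g) := by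
  let Γ := H19Grp.grpToGrpd G
  let eU : Γ.U ≅ Spec (CommRingCat.of k) := Iso.refl _
  haveI : LocallyOfFiniteType Γ.s := ‹_›
  haveI : LocallyOfFiniteType Γ.t := ‹_›
  haveI : IsLocallyNoetherian G.left := LocallyOfFiniteType.isLocallyNoetherian G.hom
  haveI : LocallyConnectedSpace G.left :=
    H17.locallyConnectedSpace_of_locallyNoetherian fun x => by
      obtain ⟨_, ⟨(V : G.left.Opens), (hV : IsAffineOpen V), rfl⟩, hxV, -⟩ :=
        G.left.isBasis_affineOpens.exists_subset_of_mem_open (Set.mem_univ x) isOpen_univ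
      haveI : IsNoetherianRing Γ(G.left, V) := IsLocallyNoetherian.component_noetherian ⟨V, hV⟩
      refine ⟨V, V.2.mem_nhds hxV, ?_⟩
      exact hV.isoSpec.hom.homeomorph.isEmbedding.noetherianSpace
  have hc := H19Grp.connectedComponent_eq_irreducibleComponent Γ eU g
  refine ⟨isOpen_connectedComponent, hc ▸ isIrreducible_irreducibleComponent, ?_⟩
  obtain ⟨_, ⟨(W : G.left.Opens), (hW : IsAffineOpen W), rfl⟩, hxW, -⟩ :=
    G.left.isBasis_affineOpens.exists_subset_of_mem_open (Set.mem_univ (H19Grp.zeta g)) isOpen_univ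
  refine (H19Grp.isCompact_sat Γ eU W hW.isCompact).of_isClosed_subset isClosed_connectedComponent ?_
  intro x hx
  rw [hc, H19Grp.mem_irreducibleComponent_iff_zeta (H19Grp.dirGen Γ eU)] at hx
  show H19Grp.zeta x ∈ W
  rw [hx]; exact hxW

/-- Components of a space covered by images of irreducible open subsets. -/
theorem components_of_cover {X Y : Type*} [TopologicalSpace X] [TopologicalSpace Y] {f : X → Y}
    (hf : Continuous f) (ho : IsOpenMap f) (hs : Function.Surjective f)
    (hC : ∀ x : X, IsOpen (connectedComponent x) ∧ IsIrreducible (connectedComponent x) ∧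
      IsCompact (connectedComponent x))
    (hA : ∀ y : Y, ∃ A : Set Y, IsOpen A ∧ y ∈ A ∧ IsCompact (f ⁻¹' A)) (y : Y) :
    IsOpen (connectedComponent y) ∧ IsIrreducible (connectedComponent y) ∧ IsCompact (connectedComponent y) := by
  let P : X → Set Y := fun x => f '' connectedComponent x
  have hPo : ∀ x, IsOpen (P x) := fun x => ho _ (hC x).1
  have hPi : ∀ x, IsIrreducible (P x) := fun x => (hC x).2.1.image f hf.continuousOn
  have hPm : ∀ x, f x ∈ P x := fun x => ⟨x, mem_connectedComponent, rfl⟩
  obtain ⟨x₀, rfl⟩ := hs y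
  let I : Set X := {x | (P x ∩ P x₀).Nonempty}
  let W : Set Y := ⋃ x ∈ I, P x
  have hx₀ : x₀ ∈ I := ⟨f x₀, hPm x₀, hPm x₀⟩
  have hsub : ∀ x ∈ I, P x ⊆ closure (P x₀) := fun x hx => by
    refine (subset_closure_inter_of_isPreirreducible_of_isOpen (hPi x).2 (hPo x₀) ?_).trans
      (closure_mono Set.inter_subset_right)
    exact hx
  have hWo : IsOpen W := isOpen_biUnion fun x _ => hPo x
  have hW₀ : P x₀ ⊆ W := Set.subset_biUnion_of_mem hx₀
  have hWs : W ⊆ closure (P x₀) := Set.iUnion₂_subset hsub
  have hWi : IsIrreducible W :=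
    isIrreducible_iff_closure.1 (by
      rw [Set.Subset.antisymm (closure_minimal hWs isClosed_closure) (closure_mono hW₀)]
      exact (hPi x₀).closure)
  have hWc : IsClosed W := by
    rw [← isOpen_compl_iff, isOpen_iff_forall_mem_open]
    intro z hz
    obtain ⟨x, rfl⟩ := hs z
    refine ⟨P x, fun w hw hwW => hz (Set.mem_biUnion ?_ (hPm x)), hPo x, hPm x⟩
    obtain ⟨x₁, hx₁, hw₁⟩ := Set.mem_iUnion₂.1 hwW
    exact mem_closure_iff.1 (hsub x₁ hx₁ hw₁) _ (hPo x) hw
  have hWe : connectedComponent (f x₀) = W :=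
    Set.Subset.antisymm ((show IsClopen W from ⟨hWc, hWo⟩).connectedComponent_subset (hW₀ (hPm x₀)))
      (hWi.isConnected.subset_connectedComponent (hW₀ (hPm x₀)))
  rw [hWe]
  refine ⟨hWo, hWi, ?_⟩
  obtain ⟨A, hAo, hyA, hAc⟩ := hA (f x₀)
  obtain ⟨t, ht⟩ := hAc.elim_finite_subcover (fun x => connectedComponent x) (fun x => (hC x).1)
    (fun x _ => Set.mem_iUnion.2 ⟨x, mem_connectedComponent⟩)
  have hpre : f ⁻¹' W ⊆ ⋃ x ∈ t, connectedComponent x := by
    intro z hz
    obtain ⟨w, hwA, hwz⟩ : (A ∩ P z).Nonempty := by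
      obtain ⟨v, hvA, hvz⟩ := hWi.2 A (P z) hAo (hPo z) ⟨f x₀, hW₀ (hPm x₀), hyA⟩ ⟨f z, hz, hPm z⟩
      exact ⟨v, hvz⟩
    obtain ⟨v, hv, rfl⟩ := hwz
    obtain ⟨x, hxt, hvx⟩ := Set.mem_iUnion₂.1 (ht hwA)
    refine Set.mem_iUnion₂.2 ⟨x, hxt, ?_⟩
    rw [connectedComponent_eq hvx, ← connectedComponent_eq hv]
    exact mem_connectedComponent
  rw [← Set.image_preimage_eq W hs]
  exact ((t.finite_toSet.isCompact_biUnion fun x _ => (hC x).2.2).of_isClosed_subset
    (hWc.preimage hf) hpre).image hf

/-- Components and dimensions of a homogeneous space over a field. -/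
theorem quotient_components {F G Y : Over (Spec (CommRingCat.of k))} [GrpObj G] [GrpObj F]
    [LocallyOfFiniteType G.hom] [QuasiCompact F.hom] (u : F ⟶ G) [IsMonHom u] [IsClosedImmersion u.left]
    {p : G ⟶ Y} (Q : IsQuotOn (snd F G) (leftTranslate u) (𝟙 G) p) (y : Y.left) :
    IsIrreducible (connectedComponent y) ∧ IsCompact (connectedComponent y) ∧
      topologicalKrullDim ↥(connectedComponent y) + topologicalKrullDim F.left = topologicalKrullDim G.left := by
  haveI : IsNoetherianRing (CommRingCat.of k) := inferInstanceAs (IsNoetherianRing k)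
  haveI : Mono u := Over.mono_of_mono_left _
  haveI : LocallyOfFiniteType F.hom := by rw [← Over.w u]; infer_instance
  haveI := Q.flat; haveI := Q.surjective; haveI := Q.lfp
  haveI := Q.locallyOfFiniteType
  have sq := Q.isPullback_left (isEqvRel u)
  haveI : QuasiCompact p.left :=
    MorphismProperty.of_isPullback_of_descendsAlong (P := @QuasiCompact) (Q := fppfMor.{u}) sq.flip
      ⟨⟨inferInstance, inferInstance⟩, inferInstance⟩
      (inferInstanceAs (QuasiCompact (pullback.snd F.hom G.hom)))
  obtain ⟨ho, hi, hc⟩ := components_of_cover p.left.continuous p.left.isOpenMap p.left.surjective (components_grp G)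
    (fun z => by
      obtain ⟨_, ⟨(V : Y.left.Opens), (hV : IsAffineOpen V), rfl⟩, hzV, -⟩ :=
        Y.left.isBasis_affineOpens.exists_subset_of_mem_open (Set.mem_univ z) isOpen_univ
      exact ⟨V, V.2, hzV, p.left.isCompact_preimage hV.isCompact⟩) y
  refine ⟨hi, hc, ?_⟩
  obtain ⟨g, rfl⟩ := p.left.surjective y
  let ΓG := H19Grp.grpToGrpd G
  let ΓF := H19Grp.grpToGrpd F
  haveI : LocallyOfFiniteType ΓG.s := ‹_›
  haveI : LocallyOfFiniteType ΓG.t := ‹_›
  haveI : LocallyOfFiniteType ΓF.s := ‹LocallyOfFiniteType F.hom›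
  haveI : LocallyOfFiniteType ΓF.t := ‹LocallyOfFiniteType F.hom›
  have hG : FlatMor.localDim G.left g = topologicalKrullDim G.left := H19Grp.localDim_eq ΓG (Iso.refl _) g
  let z : (F ⊗ G).left := (CartesianMonoidalCategory.lift (1 : G ⟶ F) (𝟙 G)).left g
  have hz₁ : (leftTranslate u).left z = g := by
    rw [← Scheme.Hom.comp_apply, ← Over.comp_left, lift_leftTranslate, MonObj.one_comp, _root_.one_mul]
    rfl
  have hF : FlatMor.localDim F.left ((fst F G).left z) = topologicalKrullDim F.left :=
    H19Grp.localDim_eq ΓF (Iso.refl _) _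
  have hfib : FlatMor.fibreDimAt p.left g = topologicalKrullDim F.left := by
    rw [← hz₁, ← H8Props.FieldDim.fibreDimAt_baseChange p.left sq z]
    have sq₂ : IsPullback (fst F G).left (snd F G).left F.hom G.hom := IsPullback.of_hasPullback F.hom G.hom
    rw [H8Props.FieldDim.fibreDimAt_baseChange F.hom sq₂ z, ← hF]
    have h := (H8Props.FieldDim.localDim_le_fibreDimAt_add F.hom (𝟙 _) F.hom (Category.comp_id _)
      ((fst F G).left z)).2 (Flat.stalkMap F.hom _)
    rw [H8Props.FieldDim.localDim_eq_dim_of_irreducible (𝟙 (Spec (CommRingCat.of k)))] at h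
    have h0 : topologicalKrullDim (Spec (CommRingCat.of k)) = 0 := by
      show topologicalKrullDim (PrimeSpectrum k) = 0
      rw [PrimeSpectrum.topologicalKrullDim_eq_ringKrullDim, ringKrullDim_eq_zero_of_field]
    rw [h0, add_zero] at h
    exact h.symm
  have hsum := (H8Props.FieldDim.localDim_le_fibreDimAt_add G.hom Y.hom p.left (Over.w p) g).2
    (Flat.stalkMap p.left g)
  rw [hG, hfib] at hsum
  rw [hsum, add_comm]
  congr 1
  let Wo : Y.left.Opens := ⟨connectedComponent (p.left g), ho⟩
  haveI : IrreducibleSpace Wo.toScheme := Subtype.irreducibleSpace hi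
  have h1 := H8Props.FieldDim.localDim_eq_dim_of_irreducible (Wo.ι ≫ Y.hom)
    (⟨p.left g, mem_connectedComponent⟩ : Wo.toScheme)
  rw [H8Props.Devissage.localDim_openEmbedding Wo.ι.isOpenEmbedding] at h1
  exact h1.symm

end Groth.Agent.H19Quot
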