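import Groth.Agent.H19Quot.Field
import Groth.Agent.H19Quot.FieldTop
import Groth.Agent.H19Grp.ArtinHom
import Groth.Agent.H13AlgSp.ThickAff.Base

/-!
# Homogeneous spaces over an Artinian local ring

The quotient of a group scheme locally of finite type over an Artinian local ring by a flat closed subgroup
is a scheme: it is a thickening of the quotient of the closed fibre.
-/

set_option autoImplicit false
set_option maxHeartbeats 1000000
set_option synthInstance.maxHeartbeats 400000
set_option linter.style.haveILetI false
set_option backward.isDefEq.respectTransparency false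

universe u

open CategoryTheory CategoryTheory.Limits MonoidalCategory CartesianMonoidalCategory MonObj AlgebraicGeometry
open AlgSp Groth.Agent.H12AlgSp

namespace Groth.Agent.H19Quot

section points

variable {S S' : Scheme.{u}} (f : S' ⟶ S) {T : Over S} (c : T.left ⟶ S') (hc : c ≫ f = T.hom)

/-- A point with values in a scheme over `S'` as a point of the base change. -/
noncomputable def baseChangePt {X : Over S} (x : T ⟶ X) : Over.mk c ⟶ (Over.pullback f).obj X :=
  Over.homMk (pullback.lift x.left c ((Over.w x).trans hc.symm)) (pullback.lift_snd _ _ _)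

theorem baseChangePt_left_fst {X : Over S} (x : T ⟶ X) :
    (baseChangePt f c hc x).left ≫ pullback.fst X.hom f = x.left := pullback.lift_fst _ _ _

theorem baseChangePt_surjective {X : Over S} (y : Over.mk c ⟶ (Over.pullback f).obj X) :
    ∃ x : T ⟶ X, baseChangePt f c hc x = y := by
  have hy : y.left ≫ pullback.snd X.hom f = c := Over.w y
  refine ⟨Over.homMk (y.left ≫ pullback.fst X.hom f) (by
    rw [Category.assoc, pullback.condition, reassoc_of% hy, hc]), Over.OverMorphism.ext ?_⟩
  exact pullback.hom_ext (pullback.lift_fst _ _ _) ((pullback.lift_snd _ _ _).trans hy.symm)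

theorem baseChangePt_comp {X X' : Over S} (x : T ⟶ X) (g : X ⟶ X') :
    baseChangePt f c hc (x ≫ g) = baseChangePt f c hc x ≫ (Over.pullback f).map g := by
  refine Over.OverMorphism.ext (pullback.hom_ext ?_ ?_) <;> simp [baseChangePt]

theorem baseChangePt_mul {X : Over S} [GrpObj X] (x y : T ⟶ X) :
    letI : GrpObj ((Over.pullback f).obj X) := Functor.grpObjObj
    baseChangePt f c hc (x * y) = baseChangePt f c hc x * baseChangePt f c hc y := by
  letI : GrpObj ((Over.pullback f).obj X) := Functor.grpObjObj
  rw [← Category.id_comp (x * y), baseChangePt_comp, ← Category.id_comp x, baseChangePt_comp,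
    ← Category.id_comp y, baseChangePt_comp, Category.id_comp, Category.id_comp, Functor.map_mul, MonObj.comp_mul]

theorem baseChangePt_injective {X : Over S} {x y : T ⟶ X}
    (h : baseChangePt f c hc x = baseChangePt f c hc y) : x = y := by
  apply Over.OverMorphism.ext
  rw [← baseChangePt_left_fst f c hc x, h, baseChangePt_left_fst]

end points

theorem descendsAlong_surjective_fppf :
    MorphismProperty.DescendsAlong (@Surjective : MorphismProperty Scheme.{u}) fppfMor.{u} := by
  constructor
  intro A' X' Y' Z' fst' snd' f' g' hsq hf' hfst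
  refine ⟨fun z => ?_⟩
  obtain ⟨y, rfl⟩ := hf'.1.1.surj z
  obtain ⟨p', rfl⟩ := hfst.surj y
  exact ⟨snd' p', by rw [← Scheme.Hom.comp_apply, ← hsq.w, Scheme.Hom.comp_apply]⟩

variable {A : Type u} [CommRing A] [IsArtinianRing A] [IsLocalRing A]

/-- A surjective closed immersion is a homeomorphism. -/
noncomputable def homeoOfThick {X Y : Scheme.{u}} (f : X ⟶ Y) [IsClosedImmersion f] [Surjective f] : X ≃ₜ Y :=
  f.isClosedEmbedding.isEmbedding.toHomeomorphOfSurjective f.surjective

/-- The quotient of a group locally of finite type over an Artinian local ring by a flat closed subgroup is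
a scheme, with the components of the quotient of the closed fibre. -/
theorem exists_artin_quotient_components {F G : Over (Spec (CommRingCat.of A))} [GrpObj G] [GrpObj F]
    [LocallyOfFiniteType G.hom] [Flat F.hom] (u : F ⟶ G) [IsMonHom u] [IsClosedImmersion u.left] :
    ∃ (X : Over (Spec (CommRingCat.of A))) (p : G ⟶ X), IsQuotOn (snd F G) (leftTranslate u) (𝟙 G) p ∧
      (QuasiCompact F.hom → ∀ x : X.left, IsIrreducible (connectedComponent x) ∧
        IsCompact (connectedComponent x) ∧
        topologicalKrullDim ↥(connectedComponent x) + topologicalKrullDim ↥F.left = topologicalKrullDim ↥G.left) := by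
  haveI : IsNoetherianRing (CommRingCat.of A) := inferInstanceAs (IsNoetherianRing A)
  haveI : Mono u := Over.mono_of_mono_left _
  haveI : LocallyOfFiniteType F.hom := by rw [← Over.w u]; infer_instance
  haveI : LocallyOfFinitePresentation F.hom := inferInstance
  haveI := isClosedImmersion_prodLift u
  have h := isEqvRel u
  let res := Spec.map (CommRingCat.ofHom (IsLocalRing.residue A))
  haveI : Surjective res := H19Grp.ArtinHom.surjective_residue
  haveI : IsClosedImmersion res := IsClosedImmersion.spec_of_surjective _ IsLocalRing.residue_surjective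
  let Fk := (Over.pullback res).obj F
  let Gk := (Over.pullback res).obj G
  letI : GrpObj Fk := Functor.grpObjObj
  letI : GrpObj Gk := Functor.grpObjObj
  let uk : Fk ⟶ Gk := (Over.pullback res).map u
  haveI : LocallyOfFiniteType Gk.hom := inferInstanceAs (LocallyOfFiniteType (pullback.snd G.hom res))
  haveI : IsClosedImmersion uk.left :=
    MorphismProperty.of_isPullback (H19Grp.ArtinHom.isPullback_residue u) ‹IsClosedImmersion u.left›
  obtain ⟨Y, p, Q⟩ := exists_quotient (k := IsLocalRing.ResidueField A) uk
  haveI := Q.flat; haveI := Q.surjective; haveI := Q.lfp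
  let P : Over (Spec (CommRingCat.of A)) := Over.mk res
  have hP : ∀ {T : Over (Spec (CommRingCat.of A))} (c c' : T ⟶ P), c = c' := fun c c' =>
    Over.OverMorphism.ext ((cancel_mono res).1 ((Over.w c).trans (Over.w c').symm))
  haveI : IsClosedImmersion (fst G P).left := inferInstanceAs (IsClosedImmersion (pullback.fst G.hom res))
  haveI : Surjective (fst G P).left := inferInstanceAs (Surjective (pullback.fst G.hom res))
  haveI : Mono (fst G P) := Over.mono_of_mono_left _
  let Z : Over (Spec (CommRingCat.of A)) := Over.mk (Y.hom ≫ res)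
  let q : G ⊗ P ⟶ Z := Over.homMk p.left (by
    show p.left ≫ Y.hom ≫ res = _
    rw [reassoc_of% Over.w p]
    exact Over.w (snd G P))
  haveI : Flat q.left := ‹Flat p.left›
  haveI : Surjective q.left := ‹Surjective p.left›
  haveI : LocallyOfFinitePresentation q.left := ‹LocallyOfFinitePresentation p.left›
  have hleft : ∀ {T : Over (Spec (CommRingCat.of A))} (a : T ⟶ G ⊗ P) (c : T ⟶ P),
      (baseChangePt res c.left (Over.w c) (a ≫ fst G P)).left = a.left := fun a c =>
    pullback.hom_ext (pullback.lift_fst _ _ _)
      ((pullback.lift_snd _ _ _).trans (congrArg (fun g => Over.Hom.left g) (hP c (a ≫ snd G P))))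
  obtain ⟨ψ, hψ, sqψ⟩ := exists_isPullback_of_quot h (fst G P) q (fun r a _ =>
      ⟨CartesianMonoidalCategory.lift (r ≫ leftTranslate u) (a ≫ snd G P), lift_fst _ _⟩) (fun {T} a b => by
    let c := (a ≫ snd G P).left
    have hc : c ≫ res = T.hom := Over.w (a ≫ snd G P)
    let a' := baseChangePt res c hc (a ≫ fst G P)
    let b' := baseChangePt res c hc (b ≫ fst G P)
    have ha : a'.left = a.left := hleft a (a ≫ snd G P)
    have hb : b'.left = b.left := hleft b (a ≫ snd G P)
    have key : a ≫ q = b ≫ q ↔ a' ≫ p = b' ≫ p := by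
      refine ⟨fun e => Over.OverMorphism.ext ?_, fun e => Over.OverMorphism.ext ?_⟩
      · rw [Over.comp_left, Over.comp_left, ha, hb]; exact congrArg (fun g => Over.Hom.left g) e
      · show a.left ≫ p.left = b.left ≫ p.left
        rw [← ha, ← hb]; exact congrArg (fun g => Over.Hom.left g) e
    rw [key, Q.rel a' b']
    constructor
    · rintro ⟨r, hr₁, hr₂⟩
      rw [Category.comp_id] at hr₁ hr₂
      obtain ⟨f, hf⟩ := baseChangePt_surjective res c hc (r ≫ fst Fk Gk)
      refine ⟨CartesianMonoidalCategory.lift f (a ≫ fst G P), lift_snd _ _, ?_⟩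
      apply baseChangePt_injective res c hc
      rw [lift_leftTranslate, baseChangePt_mul, baseChangePt_comp, hf]
      change (r ≫ fst Fk Gk) ≫ uk * a' = b'
      rw [← hr₁, ← hr₂, comp_leftTranslate, Category.assoc]
    · rintro ⟨r, hr₁, hr₂⟩
      refine ⟨CartesianMonoidalCategory.lift (baseChangePt res c hc (r ≫ fst F G)) a', by simp, ?_⟩
      rw [Category.comp_id, lift_leftTranslate]
      show baseChangePt res c hc (r ≫ fst F G) ≫ (Over.pullback res).map u * baseChangePt res c hc (a ≫ fst G P) =
        baseChangePt res c hc (b ≫ fst G P)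
      rw [← baseChangePt_comp, ← baseChangePt_mul, ← hr₂, comp_leftTranslate, hr₁, Category.assoc])
  haveI : MorphismProperty.DescendsAlong (@Surjective : MorphismProperty Scheme.{u}) fppfMor.{u} := descendsAlong_surjective_fppf
  have hπ := repWith_fppf_quotMap h
  have hthick : IsThickMor ψ := repWith_inf_iff.2
    ⟨repWith_of_fppf_base (Qc := fppfMor.{u}) hψ hπ sqψ ((repWith_yon_map_iff _ _).2 ‹IsClosedImmersion (fst G P).left›),
      repWith_of_fppf_base (Qc := fppfMor.{u}) hψ hπ sqψ ((repWith_yon_map_iff _ _).2 ‹Surjective (fst G P).left›)⟩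
  obtain ⟨M, ⟨e⟩⟩ := H13AlgSp.ThickAff.exists_iso_of_thickMor (isAlgSpace_quot_fppf h) hthick
  obtain ⟨p₀, hp₀⟩ := (yon (Spec (CommRingCat.of A))).map_surjective
    (quotMap (snd F G) (leftTranslate u) ≫ e.inv)
  obtain ⟨ι₀, hι₀⟩ := (yon (Spec (CommRingCat.of A))).map_surjective (ψ ≫ e.inv)
  have hι : thick ι₀.left := (repWith_yon_map_iff thick ι₀).1 (by
    rw [hι₀]
    exact MorphismProperty.RespectsIso.postcomp (RepWith thick) e.inv ψ hthick)
  refine ⟨M, p₀, isQuotOn_of_isPullback h (repWith_of_isIso e.hom) (IsPullback.of_vert_isIso ⟨by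
    rw [hp₀]; simp⟩), fun hqc x => ?_⟩
  haveI := hι.1; haveI := hι.2
  haveI : IsClosedImmersion (pullback.fst F.hom res) := inferInstance
  haveI : Surjective (pullback.fst F.hom res) := inferInstance
  haveI : QuasiCompact Fk.hom := inferInstanceAs (QuasiCompact (pullback.snd F.hom res))
  let hY : Y.left ≃ₜ M.left := homeoOfThick ι₀.left
  let hG : (pullback G.hom res : Scheme.{u}) ≃ₜ G.left := homeoOfThick (pullback.fst G.hom res)
  let hF : (pullback F.hom res : Scheme.{u}) ≃ₜ F.left := homeoOfThick (pullback.fst F.hom res)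
  obtain ⟨y, rfl⟩ := hY.surjective x
  obtain ⟨h₁, h₂, h₃⟩ := quotient_components uk Q y
  have hc : hY '' connectedComponent y = connectedComponent (hY y) := by
    rw [← connectedComponentIn_univ, ← connectedComponentIn_univ, hY.image_connectedComponentIn (Set.mem_univ y),
      Set.image_univ, hY.surjective.range_eq]
  rw [← hc]
  refine ⟨h₁.image hY hY.continuous.continuousOn, h₂.image hY.continuous, ?_⟩
  rw [← (hY.image _).isHomeomorph.topologicalKrullDim_eq, ← hF.isHomeomorph.topologicalKrullDim_eq,
    ← hG.isHomeomorph.topologicalKrullDim_eq]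
  exact h₃

/-- The quotient of a group locally of finite type over an Artinian local ring by a flat closed subgroup is
a scheme. -/
theorem exists_artin_quotient {F G : Over (Spec (CommRingCat.of A))} [GrpObj G] [GrpObj F]
    [LocallyOfFiniteType G.hom] [Flat F.hom] (u : F ⟶ G) [IsMonHom u] [IsClosedImmersion u.left] :
    ∃ (X : Over (Spec (CommRingCat.of A))) (p : G ⟶ X), IsQuotOn (snd F G) (leftTranslate u) (𝟙 G) p := by
  obtain ⟨X, p, h, -⟩ := exists_artin_quotient_components u
  exact ⟨X, p, h⟩

end Groth.Agent.H19Quot
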