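import Mathlib

/-!
# Single-morphism fpqc coverings
-/

set_option autoImplicit false
set_option linter.style.haveILetI false
set_option backward.isDefEq.respectTransparency false

universe u

open CategoryTheory CategoryTheory.Limits AlgebraicGeometry

namespace Groth.Agent.H19Quot

/-- `q` alone is a covering for the fpqc precoverage. -/
def FpqcCov {Z Y : Scheme.{u}} (q : Z ⟶ Y) : Prop := Presieve.singleton q ∈ Scheme.fpqcPrecoverage Y

/-- The explicit form of an fpqc covering by one morphism. -/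
theorem fpqcCov_of {Z Y : Scheme.{u}} (q : Z ⟶ Y) [Surjective q] [Flat q]
    (h : ∀ V : Y.Opens, IsAffineOpen V → ∃ W : Z.Opens, IsCompact (W : Set Z) ∧ q.base '' (W : Set Z) = (V : Set Y)) :
    FpqcCov q := by
  refine ⟨?_, (Scheme.singleton_mem_precoverage_iff @Flat q).2 ⟨q.surjective, ‹Flat q›⟩⟩
  rw [show Presieve.singleton q = (PreZeroHypercover.singleton.{u} q).presieve₀ from
      (PreZeroHypercover.presieve₀_singleton q).symm,
    Scheme.presieve₀_mem_qcPrecoverage_iff]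
  refine ⟨fun {V} hV => ?_⟩
  obtain ⟨W, hW, hWV⟩ := h V hV
  refine ⟨Set.univ, Set.finite_univ, fun _ _ => W, fun _ _ => hW, ?_⟩
  simp only [Set.mem_univ, Set.iUnion_true]
  exact (Set.iUnion_const _).trans hWV

variable {X Y Z : Scheme.{u}}

theorem FpqcCov.exists_isCompact {q : Z ⟶ Y} (hq : FpqcCov q) (V : Y.Opens) (hV : IsAffineOpen V) :
    ∃ W : Z.Opens, IsCompact (W : Set Z) ∧ q.base '' (W : Set Z) = (V : Set Y) := by
  have h := hq.1
  rw [show Presieve.singleton q = (PreZeroHypercover.singleton.{u} q).presieve₀ from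
      (PreZeroHypercover.presieve₀_singleton q).symm,
    Scheme.presieve₀_mem_qcPrecoverage_iff] at h
  obtain ⟨s, hs, W, hW, hWV⟩ := h.isCompactOpenCovered_of_isAffineOpen hV
  by_cases hu : (⟨⟩ : PUnit) ∈ s
  · refine ⟨W ⟨⟩ hu, hW _ _, ?_⟩
    rw [← hWV]
    ext y
    simp only [Set.mem_iUnion]
    exact ⟨fun hy => ⟨⟨⟩, hu, hy⟩, fun ⟨⟨⟩, _, hy⟩ => hy⟩
  · refine ⟨⊥, by simp, ?_⟩
    rw [← hWV]
    ext y
    simp only [Set.mem_iUnion]
    constructor
    · rintro ⟨z, hz, -⟩; exact hz.elim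
    · rintro ⟨⟨⟩, hi, -⟩; exact absurd hi hu

theorem FpqcCov.flat {q : Z ⟶ Y} (h : FpqcCov q) : Flat q := ((Scheme.singleton_mem_precoverage_iff @Flat q).1 h.2).2

theorem FpqcCov.surjective {q : Z ⟶ Y} (h : FpqcCov q) : Surjective q :=
  ⟨((Scheme.singleton_mem_precoverage_iff @Flat q).1 h.2).1⟩

theorem FpqcCov.of_isPullback {q : Z ⟶ Y} (h : FpqcCov q) {P : Scheme.{u}} {g : X ⟶ Y} {p₁ : P ⟶ X} {p₂ : P ⟶ Z}
    (sq : IsPullback p₁ p₂ g q) : FpqcCov p₁ := by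
  unfold FpqcCov at h ⊢
  rw [← Presieve.ofArrows_pUnit.{u + 1}] at h ⊢
  exact Precoverage.mem_coverings_of_isPullback (fun _ : PUnit.{u + 2} => q) h g (fun _ => p₁) (fun _ => p₂)
    fun _ => sq

theorem FpqcCov.comp {g : X ⟶ Z} {q : Z ⟶ Y} (hg : FpqcCov g) (hq : FpqcCov q) : FpqcCov (g ≫ q) := by
  unfold FpqcCov at hg hq ⊢
  rw [← Presieve.ofArrows_pUnit.{u + 1}] at hg hq ⊢
  have h := Precoverage.comp_mem_coverings (J := Scheme.fpqcPrecoverage) (fun _ : PUnit.{u + 2} => q) hq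
    (σ := fun _ => PUnit.{u + 2}) (Y := fun _ _ => X) (fun _ _ => g) (fun _ => hg)
  convert h using 1
  funext T
  ext f
  constructor
  · rintro ⟨⟨⟩⟩
    exact ⟨(⟨⟨⟩, ⟨⟩⟩ : Σ _ : PUnit.{u + 2}, PUnit.{u + 2})⟩
  · rintro ⟨⟨⟨⟩, ⟨⟩⟩⟩
    exact ⟨PUnit.unit⟩

theorem FpqcCov.effectiveEpi {q : Z ⟶ Y} (h : FpqcCov q) : EffectiveEpi q := by
  rw [← Sieve.effectiveEpimorphic_singleton,
    Presieve.EffectiveEpimorphic.iff_forall_isSheafFor_yoneda]
  intro W
  exact (GrothendieckTopology.Subcanonical.isSheaf_of_isRepresentable _).isSheafFor _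
    (Precoverage.generate_mem_toGrothendieck h)

/-- Properties local on the target that descend along quasi-compact faithfully flat maps descend along
fpqc coverings. -/
theorem FpqcCov.descend {P : MorphismProperty Scheme.{u}} [P.IsStableUnderBaseChange] [IsZariskiLocalAtTarget P]
    [P.DescendsAlong (@Surjective ⊓ @Flat ⊓ @QuasiCompact)] {q : Z ⟶ Y} (hq : FpqcCov q)
    {f : X ⟶ Y} {P₀ : Scheme.{u}} {fst : P₀ ⟶ X} {snd : P₀ ⟶ Z} (sq : IsPullback fst snd f q) (h : P snd) : P f := by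
  haveI := hq.flat
  rw [IsZariskiLocalAtTarget.iff_of_iSup_eq_top (P := P) _ (iSup_affineOpens_eq_top Y)]
  intro V
  obtain ⟨W, hW, hWV⟩ := hq.exists_isCompact V.1 V.2
  have le : W ≤ q ⁻¹ᵁ V.1 := fun z hz => hWV.subset ⟨z, hz, rfl⟩
  let qW := q.resLE V.1 W le
  have hqW : qW ≫ V.1.ι = W.ι ≫ q := Scheme.Hom.resLE_comp_ι _ _
  haveI : Surjective qW := by
    refine ⟨fun v => ?_⟩
    obtain ⟨z, hz, hzv⟩ := hWV.superset v.2
    refine ⟨(⟨z, hz⟩ : W.toScheme), V.1.ι.isOpenEmbedding.injective ?_⟩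
    exact (congrArg (fun g : W.toScheme ⟶ Y => g (⟨z, hz⟩ : W.toScheme)) hqW).trans hzv
  haveI : Flat qW := IsZariskiLocalAtSource.resLE (P := (@Flat : MorphismProperty Scheme.{u})) le ‹Flat q›
  haveI : IsAffine V.1.toScheme := V.2
  haveI : CompactSpace W.toScheme := isCompact_iff_compactSpace.mp hW
  haveI : QuasiCompact qW := inferInstance
  refine MorphismProperty.of_isPullback_of_descendsAlong (P := P) (Q := @Surjective ⊓ @Flat ⊓ @QuasiCompact)
    (IsPullback.of_hasPullback (f ∣_ V.1) qW).flip ⟨⟨‹_›, ‹_›⟩, ‹_›⟩ ?_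
  have big : IsPullback (pullback.fst (f ∣_ V.1) qW ≫ (f ⁻¹ᵁ V.1).ι) (pullback.snd (f ∣_ V.1) qW) f (W.ι ≫ q) := by
    rw [← hqW]
    exact (IsPullback.of_hasPullback (f ∣_ V.1) qW).paste_horiz (isPullback_morphismRestrict f V.1).flip
  let k := sq.lift (pullback.fst (f ∣_ V.1) qW ≫ (f ⁻¹ᵁ V.1).ι) (pullback.snd (f ∣_ V.1) qW ≫ W.ι)
    (by simpa using big.w)
  have sq₂ : IsPullback k (pullback.snd (f ∣_ V.1) qW) snd W.ι := by
    refine IsPullback.of_right ?_ (sq.lift_snd _ _ _) sq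
    rw [show k ≫ fst = pullback.fst (f ∣_ V.1) qW ≫ (f ⁻¹ᵁ V.1).ι from sq.lift_fst _ _ _]
    exact big
  exact MorphismProperty.of_isPullback sq₂ h

theorem fpqcCov_of_lfp (q : Z ⟶ Y) [Surjective q] [Flat q] [LocallyOfFinitePresentation q] : FpqcCov q :=
  Scheme.fppfPrecoverage_le_fpqcPrecoverage Y (Scheme.Hom.singleton_mem_fppfPrecoverage q)

end Groth.Agent.H19Quot
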