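import Groth.Agent.H19Quot.LinearHom
import Groth.Prelude.Def_VecGrp
import Mathlib

/-!
# Finite modules over a group and homomorphisms to the general linear group
-/

set_option autoImplicit false
set_option maxHeartbeats 1000000
set_option synthInstance.maxHeartbeats 400000
set_option linter.style.haveILetI false
set_option backward.isDefEq.respectTransparency.types false

universe u

open CategoryTheory CategoryTheory.Limits MonoidalCategory CartesianMonoidalCategory MonObj GrpObj
  AlgebraicGeometry TensorProduct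

namespace Groth.Agent.H19Quot

attribute [local instance 2000] Hom.group Hom.monoid

noncomputable section

variable {k : Type u} [Field k] {M : Type u} [AddCommGroup M] [Module k M] {n : ℕ}

/-- Invertible matrices and automorphisms of the base change of a based module. -/
def glW (b : Module.Basis (Fin n) k M) (B : Type u) [CommRing B] [Algebra k B] :
    (VecGrp.W k M B ≃ₗ[B] VecGrp.W k M B) ≃* GL (Fin n) B :=
  (LinearMap.GeneralLinearGroup.generalLinearEquiv B (VecGrp.W k M B)).symm.trans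
    (Units.mapEquiv (LinearMap.toMatrixAlgEquiv (Algebra.TensorProduct.basis B b)).toMulEquiv)

lemma glW_apply (b : Module.Basis (Fin n) k M) (B : Type u) [CommRing B] [Algebra k B]
    (f : VecGrp.W k M B ≃ₗ[B] VecGrp.W k M B) (i j : Fin n) :
    (glW b B f).val i j =
      (Algebra.TensorProduct.basis B b).repr (f ((Algebra.TensorProduct.basis B b) j)) i :=
  LinearMap.toMatrixAlgEquiv_apply _ _ _ _

lemma repr_Wmap (b : Module.Basis (Fin n) k M) {B B' : Type u} [CommRing B] [Algebra k B] [CommRing B']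
    [Algebra k B'] (φ : B →ₐ[k] B') (x : VecGrp.W k M B) (i : Fin n) :
    (Algebra.TensorProduct.basis B' b).repr (VecGrp.Wmap φ x) i =
      φ ((Algebra.TensorProduct.basis B b).repr x i) := by
  induction x using TensorProduct.induction_on with
  | zero => simp
  | tmul c v => simp [Algebra.TensorProduct.basis_repr_tmul, Algebra.smul_def]
  | add x y hx hy => simp only [map_add, Finsupp.add_apply, hx, hy]

lemma Wmap_basis (b : Module.Basis (Fin n) k M) {B B' : Type u} [CommRing B] [Algebra k B] [CommRing B']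
    [Algebra k B'] (φ : B →ₐ[k] B') (j : Fin n) :
    VecGrp.Wmap φ ((Algebra.TensorProduct.basis B b) j) = (Algebra.TensorProduct.basis B' b) j := by
  simp [Algebra.TensorProduct.basis_apply]

variable {G : Over (Spec (CommRingCat.of k))} [GrpObj G]

lemma glW_natural (b : Module.Basis (Fin n) k M) (m : VecGrp.GMod G M) {B B' : Type u} [CommRing B] [Algebra k B]
    [CommRing B'] [Algebra k B'] (φ : B →ₐ[k] B') (g : VecGrp.pt k B ⟶ G) :
    glW b B' (m.ρ B' (VecGrp.ptMap φ ≫ g)) = Matrix.GeneralLinearGroup.map φ.toRingHom (glW b B (m.ρ B g)) := by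
  apply Units.ext
  ext i j
  rw [glW_apply, ← Wmap_basis b φ j, ← m.naturality, repr_Wmap, ← glW_apply]
  rfl

lemma mat_one' (n : ℕ) (Z : Over (Spec (CommRingCat.of k))) :
    H14GL.mat (1 : Z ⟶ FrB.GLn n (Spec (CommRingCat.of k))) = 1 :=
  (H14GL.glnPts n (Spec (CommRingCat.of k))).one Z

/-- The point of the general linear group given by an invertible matrix. -/
def glPt {B : Type u} [CommRing B] [Algebra k B] (A : GL (Fin n) B) :
    VecGrp.pt k B ⟶ FrB.GLn n (Spec (CommRingCat.of k)) :=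
  (H14GL.glnPts n (Spec (CommRingCat.of k))).point
    (Matrix.GeneralLinearGroup.map (Scheme.ΓSpecIso (CommRingCat.of B)).inv.hom A)

lemma mat_glPt {B : Type u} [CommRing B] [Algebra k B] (A : GL (Fin n) B) :
    H14GL.mat (glPt (k := k) A) = Matrix.GeneralLinearGroup.map (Scheme.ΓSpecIso (CommRingCat.of B)).inv.hom A :=
  (H14GL.glnPts n (Spec (CommRingCat.of k))).mat_point _

lemma ptMap_glPt {B B' : Type u} [CommRing B] [Algebra k B] [CommRing B'] [Algebra k B'] (φ : B →ₐ[k] B')
    (A : GL (Fin n) B) : VecGrp.ptMap φ ≫ glPt A = glPt (Matrix.GeneralLinearGroup.map φ.toRingHom A) := by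
  apply H14GL.mat_ext
  rw [H14GL.mat_comp, mat_glPt, mat_glPt]
  apply Units.ext
  ext i j
  show (Spec.map (CommRingCat.ofHom φ.toRingHom)).appTop ((Scheme.ΓSpecIso (CommRingCat.of B)).inv (A.val i j)) =
    (Scheme.ΓSpecIso (CommRingCat.of B')).inv (φ.toRingHom (A.val i j))
  exact (congrArg (fun f => f (A.val i j)) (Scheme.ΓSpecIso_inv_naturality (CommRingCat.ofHom φ.toRingHom))).symm

lemma exists_ptMap {B B' : Type u} [CommRing B] [Algebra k B] [CommRing B'] [Algebra k B']
    (v : VecGrp.pt k B' ⟶ VecGrp.pt k B) : ∃ φ : B →ₐ[k] B', VecGrp.ptMap φ = v := by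
  obtain ⟨ψ, hψ⟩ := Spec.map_surjective v.left
  have hc : CommRingCat.ofHom (algebraMap k B) ≫ ψ = CommRingCat.ofHom (algebraMap k B') := by
    apply Spec.map_injective
    rw [Spec.map_comp, hψ]
    exact Over.w v
  refine ⟨{ ψ.hom with commutes' := fun r => congr($(hc).hom r) }, Over.OverMorphism.ext ?_⟩
  rw [VecGrp.ptMap_left]
  exact hψ

/-- A finite module over a group is given by a morphism to the general linear group. -/
theorem exists_hom_of_gmod (b : Module.Basis (Fin n) k M) (m : VecGrp.GMod G M) :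
    ∃ σ : G ⟶ FrB.GLn n (Spec (CommRingCat.of k)), ∀ (B : Type u) [CommRing B] [Algebra k B]
      (g : VecGrp.pt k B ⟶ G), g ≫ σ = glPt (glW b B (m.ρ B g)) := by
  let Cv := G.left.affineCover
  let B : Cv.I₀ → Type u := fun i => Γ(Cv.X i, ⊤)
  let e : ∀ i, Spec Γ(Cv.X i, ⊤) ⟶ G.left := fun i => (Cv.X i).isoSpec.inv ≫ Cv.f i
  letI halg : ∀ i, Algebra k (B i) := fun i => (Spec.preimage (e i ≫ G.hom)).hom.toAlgebra
  have he : ∀ i, e i ≫ G.hom = Spec.map (CommRingCat.ofHom (algebraMap k (B i))) := fun i =>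
    (Spec.map_preimage (e i ≫ G.hom)).symm
  have hX : ∀ i, (Cv.X i).isoSpec.hom ≫ Spec.map (CommRingCat.ofHom (algebraMap k (B i))) = Cv.f i ≫ G.hom := fun i =>
    (congrArg ((Cv.X i).isoSpec.hom ≫ ·) (he i)).symm.trans (by simp [e])
  let u : ∀ i, VecGrp.pt k (B i) ⟶ G := fun i => Over.homMk (e i) (he i)
  let p : ∀ (B : Type u) [CommRing B] [Algebra k B], (VecGrp.pt k B ⟶ G) →
      (VecGrp.pt k B ⟶ FrB.GLn n (Spec (CommRingCat.of k))) := fun B _ _ g => glPt (glW b B (m.ρ B g))
  have hp : ∀ {B B' : Type u} [CommRing B] [Algebra k B] [CommRing B'] [Algebra k B']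
      (v : VecGrp.pt k B' ⟶ VecGrp.pt k B) (g : VecGrp.pt k B ⟶ G), p B' (v ≫ g) = v ≫ p B g := by
    intro B B' _ _ _ _ v g
    obtain ⟨φ, rfl⟩ := exists_ptMap v
    show glPt _ = VecGrp.ptMap φ ≫ glPt _
    rw [ptMap_glPt, glW_natural]
  let f : ∀ i, Cv.X i ⟶ (FrB.GLn n (Spec (CommRingCat.of k))).left := fun i =>
    (Cv.X i).isoSpec.hom ≫ (p (B i) (u i)).left
  have hpt : ∀ (i : Cv.I₀) {T : Scheme.{u}} [IsAffine T] (a : T ⟶ Cv.X i),
      ∃ (A : Type u) (_ : CommRing A) (_ : Algebra k A) (g : VecGrp.pt k A ⟶ G) (j : Spec (CommRingCat.of A) ⟶ T),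
        IsIso j ∧ g.left = j ≫ a ≫ Cv.f i ∧ (p A g).left = j ≫ a ≫ f i := by
    intro i T _ a
    let A : Type u := Γ(T, ⊤)
    letI : Algebra k A := (Spec.preimage (T.isoSpec.inv ≫ a ≫ Cv.f i ≫ G.hom)).hom.toAlgebra
    have hA : (T.isoSpec.inv ≫ a ≫ Cv.f i) ≫ G.hom = Spec.map (CommRingCat.ofHom (algebraMap k A)) := by
      rw [Category.assoc, Category.assoc]
      exact (Spec.map_preimage _).symm
    let v : VecGrp.pt k A ⟶ VecGrp.pt k (B i) := Over.homMk (T.isoSpec.inv ≫ a ≫ (Cv.X i).isoSpec.hom) (by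
      show (T.isoSpec.inv ≫ a ≫ (Cv.X i).isoSpec.hom) ≫ Spec.map (CommRingCat.ofHom (algebraMap k (B i))) = _
      simp only [Category.assoc]
      erw [hX i]
      exact (Spec.map_preimage _).symm)
    refine ⟨A, inferInstance, inferInstance, v ≫ u i, T.isoSpec.inv, inferInstance, ?_, ?_⟩
    · show (T.isoSpec.inv ≫ a ≫ (Cv.X i).isoSpec.hom) ≫ (Cv.X i).isoSpec.inv ≫ Cv.f i = _
      simp only [Category.assoc, Iso.hom_inv_id_assoc]
    · rw [hp, Over.comp_left]
      show (T.isoSpec.inv ≫ a ≫ (Cv.X i).isoSpec.hom) ≫ (p (B i) (u i)).left = _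
      simp only [f, Category.assoc]
  have hcompat : ∀ x y : Cv.I₀, pullback.fst (Cv.f x) (Cv.f y) ≫ f x = pullback.snd (Cv.f x) (Cv.f y) ≫ f y := by
    intro x y
    refine Scheme.Cover.hom_ext (pullback (Cv.f x) (Cv.f y)).affineCover _ _ fun l => ?_
    let c := (pullback (Cv.f x) (Cv.f y)).affineCover.f l
    let T := (pullback (Cv.f x) (Cv.f y)).affineCover.X l
    let A : Type u := Γ(T, ⊤)
    letI : Algebra k A := (Spec.preimage (T.isoSpec.inv ≫ c ≫ pullback.fst _ _ ≫ Cv.f x ≫ G.hom)).hom.toAlgebra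
    have hv : ∀ (i : Cv.I₀) (a : T ⟶ Cv.X i), a ≫ Cv.f i = c ≫ pullback.fst _ _ ≫ Cv.f x →
        ∃ v : VecGrp.pt k A ⟶ VecGrp.pt k (B i), v.left = T.isoSpec.inv ≫ a ≫ (Cv.X i).isoSpec.hom := by
      intro i a ha
      refine ⟨Over.homMk (T.isoSpec.inv ≫ a ≫ (Cv.X i).isoSpec.hom) ?_, rfl⟩
      show (T.isoSpec.inv ≫ a ≫ (Cv.X i).isoSpec.hom) ≫ Spec.map (CommRingCat.ofHom (algebraMap k (B i))) = _
      simp only [Category.assoc]
      erw [hX i]
      rw [reassoc_of% ha]
      exact (Spec.map_preimage _).symm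
    obtain ⟨v₁, hv₁⟩ := hv x (c ≫ pullback.fst _ _) (Category.assoc _ _ _)
    obtain ⟨v₂, hv₂⟩ := hv y (c ≫ pullback.snd _ _) (by rw [Category.assoc, ← pullback.condition])
    have hg : v₁ ≫ u x = v₂ ≫ u y := Over.OverMorphism.ext (by
      rw [Over.comp_left, Over.comp_left, hv₁, hv₂]
      show (_ ≫ _ ≫ (Cv.X x).isoSpec.hom) ≫ (Cv.X x).isoSpec.inv ≫ Cv.f x =
        (_ ≫ _ ≫ (Cv.X y).isoSpec.hom) ≫ (Cv.X y).isoSpec.inv ≫ Cv.f y
      simp only [Category.assoc, Iso.hom_inv_id_assoc]
      rw [pullback.condition])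
    have h := congrArg (fun g => (p A g).left) hg
    simp only [hp, Over.comp_left, hv₁, hv₂, Category.assoc] at h
    exact (cancel_epi T.isoSpec.inv).mp h
  let F := Cv.glueMorphisms f hcompat
  have hF : ∀ i, Cv.f i ≫ F = f i := fun i => Cv.ι_glueMorphisms f hcompat i
  let σ : G ⟶ FrB.GLn n (Spec (CommRingCat.of k)) := Over.homMk F (by
    refine Scheme.Cover.hom_ext Cv _ _ fun i => ?_
    rw [reassoc_of% (hF i)]
    simp only [f, Category.assoc]
    rw [Over.w]
    exact hX i)
  refine ⟨σ, fun C _ _ g => ?_⟩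
  show g ≫ σ = p C g
  apply Over.OverMorphism.ext
  suffices key : ∀ i : Cv.I₀, pullback.fst g.left (Cv.f i) ≫ g.left ≫ F = pullback.fst g.left (Cv.f i) ≫ (p C g).left by
    exact Scheme.Cover.hom_ext (Cv.pullback₁ g.left) _ _ fun i => key i
  intro i
  refine Scheme.Cover.hom_ext (pullback g.left (Cv.f i)).affineCover _ _ fun l => ?_
  let c := (pullback g.left (Cv.f i)).affineCover.f l
  obtain ⟨A, _, _, g', j, hj, hg', hp'⟩ := hpt i (c ≫ pullback.snd g.left (Cv.f i))
  let v : VecGrp.pt k A ⟶ VecGrp.pt k C := Over.homMk (j ≫ c ≫ pullback.fst g.left (Cv.f i)) (by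
    refine Eq.trans ?_ (Over.w g')
    show (j ≫ c ≫ pullback.fst g.left (Cv.f i)) ≫ (VecGrp.pt k C).hom = _
    rw [hg', ← Over.w g]
    simp only [Category.assoc]
    rw [reassoc_of% (pullback.condition (f := g.left) (g := Cv.f i))])
  have hvg : v ≫ g = g' := Over.OverMorphism.ext (by
    rw [hg', Over.comp_left]
    show (j ≫ c ≫ pullback.fst g.left (Cv.f i)) ≫ g.left = _
    simp only [Category.assoc, pullback.condition])
  have h := congrArg (·.left) (hp v g)
  rw [hvg] at h
  simp only [hp', Over.comp_left] at h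
  rw [← cancel_epi j]
  show j ≫ c ≫ pullback.fst g.left (Cv.f i) ≫ g.left ≫ F = j ≫ c ≫ pullback.fst g.left (Cv.f i) ≫ (p C g).left
  rw [reassoc_of% (pullback.condition (f := g.left) (g := Cv.f i)), hF]
  simp only [Category.assoc, v, Over.homMk_left] at h
  exact h

/-- Finite modules over an anti-affine group are trivial. -/
theorem gmod_eq_one [LocallyOfFiniteType G.hom] [QuasiCompact G.hom] [IsIso G.hom.appTop] [Module.Finite k M]
    (m : VecGrp.GMod G M) (B : Type u) [CommRing B] [Algebra k B] (g : VecGrp.pt k B ⟶ G) : m.ρ B g = 1 := by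
  let b := Module.finBasis k M
  obtain ⟨σ, hσ⟩ := exists_hom_of_gmod b m
  haveI : IsAffineHom (FrB.GLn (Module.finrank k M) (Spec (CommRingCat.of k))).hom := isAffineHom_GLn _ _
  haveI : IsAffine (FrB.GLn (Module.finrank k M) (Spec (CommRingCat.of k))).left :=
    isAffine_of_isAffineHom (FrB.GLn (Module.finrank k M) (Spec (CommRingCat.of k))).hom
  let e₀ : 𝟙_ (Over (Spec (CommRingCat.of k))) ⟶ VecGrp.pt k k := Over.homMk (𝟙 _) (by simp)
  have h1 : η[G] ≫ σ = η[FrB.GLn (Module.finrank k M) (Spec (CommRingCat.of k))] := by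
    have e : η[G] = e₀ ≫ (1 : VecGrp.pt k k ⟶ G) := by
      rw [MonObj.comp_one, Hom.one_def, toUnit_unique (toUnit _) (𝟙 _), Category.id_comp]
    have hone : glPt (k := k) (1 : GL (Fin (Module.finrank k M)) k) = 1 := by
      apply H14GL.mat_ext
      rw [mat_glPt, map_one]
      exact ((H14GL.glnPts (Module.finrank k M) (Spec (CommRingCat.of k))).one (VecGrp.pt k k)).symm
    rw [e, Category.assoc, hσ, map_one, map_one, hone, MonObj.comp_one, Hom.one_def,
      toUnit_unique (toUnit _) (𝟙 _), Category.id_comp]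
  have hσ1 := H19Grp.AntiAffineGroup.eq_one_of_isAffine σ h1
  have h := hσ B g
  rw [hσ1, MonObj.comp_one] at h
  apply (glW b B).injective
  rw [map_one]
  have h' := congrArg H14GL.mat h
  rw [mat_glPt] at h'
  have h'' : Matrix.GeneralLinearGroup.map (Scheme.ΓSpecIso (CommRingCat.of B)).inv.hom (glW b B (m.ρ B g)) = 1 :=
    h'.symm.trans ((H14GL.glnPts (Module.finrank k M) (Spec (CommRingCat.of k))).one (VecGrp.pt k B))
  apply Units.ext
  ext i j
  apply (ConcreteCategory.bijective_of_isIso (Scheme.ΓSpecIso (CommRingCat.of B)).inv).1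
  have e := congrArg (fun x : GL (Fin (Module.finrank k M)) Γ(Spec (CommRingCat.of B), ⊤) => x.val i j) h''
  refine e.trans ?_
  simp only [Units.val_one, Matrix.one_apply]
  split <;> simp

/-- The module structure given by a homomorphism to the general linear group. -/
def gmodOfHom (ρ : G ⟶ FrB.GLn n (Spec (CommRingCat.of k))) [IsMonHom ρ] : VecGrp.GMod G (Fin n → k) where
  ρ B _ _ :=
    { toFun := fun g => (glW (Pi.basisFun k (Fin n)) B).symm
        (Matrix.GeneralLinearGroup.map (Scheme.ΓSpecIso (CommRingCat.of B)).hom.hom (H14GL.mat (g ≫ ρ)))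
      map_one' := by
        rw [MonObj.one_comp]
        rw [mat_one']
        rw [map_one, map_one]
      map_mul' := fun g h => by
        rw [MonObj.mul_comp, H14GL.mat_mul, map_mul, map_mul] }
  naturality {B B'} _ _ _ _ φ g x := by
    let f := (glW (Pi.basisFun k (Fin n)) B).symm
      (Matrix.GeneralLinearGroup.map (Scheme.ΓSpecIso (CommRingCat.of B)).hom.hom (H14GL.mat (g ≫ ρ)))
    let f' := (glW (Pi.basisFun k (Fin n)) B').symm
      (Matrix.GeneralLinearGroup.map (Scheme.ΓSpecIso (CommRingCat.of B')).hom.hom (H14GL.mat ((VecGrp.ptMap φ ≫ g) ≫ ρ)))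
    show VecGrp.Wmap φ (f x) = f' (VecGrp.Wmap φ x)
    have hb : ∀ j, VecGrp.Wmap φ (f (Algebra.TensorProduct.basis B (Pi.basisFun k (Fin n)) j)) =
        f' (Algebra.TensorProduct.basis B' (Pi.basisFun k (Fin n)) j) := by
      intro j
      apply (Algebra.TensorProduct.basis B' (Pi.basisFun k (Fin n))).repr.injective
      ext i
      rw [repr_Wmap, ← glW_apply, ← glW_apply, MulEquiv.apply_symm_apply, MulEquiv.apply_symm_apply, Category.assoc,
        H14GL.mat_comp]
      show φ ((Scheme.ΓSpecIso (CommRingCat.of B)).hom ((H14GL.mat (g ≫ ρ)).val i j)) =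
        (Scheme.ΓSpecIso (CommRingCat.of B')).hom
          ((Spec.map (CommRingCat.ofHom φ.toRingHom)).appTop ((H14GL.mat (g ≫ ρ)).val i j))
      exact (congrArg (fun f => f ((H14GL.mat (g ≫ ρ)).val i j))
        (Scheme.ΓSpecIso_naturality (CommRingCat.ofHom φ.toRingHom))).symm
    conv_lhs => rw [← (Algebra.TensorProduct.basis B (Pi.basisFun k (Fin n))).sum_repr x]
    conv_rhs => rw [← (Algebra.TensorProduct.basis B (Pi.basisFun k (Fin n))).sum_repr x]
    simp only [map_sum, map_smul, VecGrp.Wmap_smul, hb, Wmap_basis]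

/-- A representation whose module is trivial is trivial. -/
theorem eq_one_of_gmodOfHom (ρ : G ⟶ FrB.GLn n (Spec (CommRingCat.of k))) [IsMonHom ρ]
    (h : ∀ (B : Type u) [CommRing B] [Algebra k B] (g : VecGrp.pt k B ⟶ G), (gmodOfHom ρ).ρ B g = 1) : ρ = 1 := by
  apply Over.OverMorphism.ext
  refine Scheme.Cover.hom_ext G.left.affineCover _ _ fun i => ?_
  let B : Type u := Γ(G.left.affineCover.X i, ⊤)
  let e := (G.left.affineCover.X i).isoSpec.inv ≫ G.left.affineCover.f i
  letI : Algebra k B := (Spec.preimage (e ≫ G.hom)).hom.toAlgebra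
  let g : VecGrp.pt k B ⟶ G := Over.homMk e (Spec.map_preimage (e ≫ G.hom)).symm
  have h1 : g ≫ ρ = 1 := by
    apply H14GL.mat_ext
    rw [mat_one']
    have h2 := h B g
    have h3 : (glW (Pi.basisFun k (Fin n)) B).symm
        (Matrix.GeneralLinearGroup.map (Scheme.ΓSpecIso (CommRingCat.of B)).hom.hom (H14GL.mat (g ≫ ρ))) = 1 := h2
    rw [MulEquiv.symm_apply_eq, map_one] at h3
    apply Units.ext
    ext a b
    apply (ConcreteCategory.bijective_of_isIso (Scheme.ΓSpecIso (CommRingCat.of B)).hom).1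
    have e' := congrArg (fun x : GL (Fin n) B => x.val a b) h3
    refine e'.trans ?_
    simp only [Units.val_one, Matrix.one_apply]
    split <;> simp
  have h4 := congrArg (·.left) (h1.trans (MonObj.comp_one g).symm)
  simp only [Over.comp_left, g, Over.homMk_left, e, Category.assoc] at h4
  exact (cancel_epi (G.left.affineCover.X i).isoSpec.inv).mp h4


end

end Groth.Agent.H19Quot
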