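import Groth.Agent.H12AlgSp.FppfQuot
import Groth.Agent.H12AlgSp.Sep
import Groth.Agent.H12AlgSp.QSPullback
import Groth.Agent.H12AlgSp.OpenSub
import Groth.Agent.H12AlgSp.Univ
import Groth.Agent.H18Descent.Basic
import Groth.Agent.S10337
import Groth.Agent.S10197

/-!
# Open pieces of quotients by flat equivalence relations

An fppf quotient of a flat, locally finitely presented equivalence relation is a scheme over a non-empty
stable open set, as soon as the relation is quasi-compact over the square.
-/

set_option autoImplicit false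
set_option maxHeartbeats 1000000
set_option synthInstance.maxHeartbeats 400000
set_option linter.style.haveILetI false
set_option backward.isDefEq.respectTransparency false

universe u

open CategoryTheory CategoryTheory.Limits AlgebraicGeometry
open AlgSp Groth.Agent.H12AlgSp Groth.Agent.H13AlgSp

namespace Groth.Agent.H19Quot

variable {S : Scheme.{u}} {R U : Over S}

/-- `p : W ⟶ Y` is a quotient of the stable open `j : W ⟶ U` by the relation `(s, t)`, stated on points. -/
structure IsQuotOn (s t : R ⟶ U) {W Y : Over S} (j : W ⟶ U) (p : W ⟶ Y) : Prop where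
  isOpenImmersion : IsOpenImmersion j.left
  flat : Flat p.left
  surjective : Surjective p.left
  lfp : LocallyOfFinitePresentation p.left
  stable : ∀ {T : Over S} (r : T ⟶ R) (a : T ⟶ W), a ≫ j = r ≫ s → ∃ b : T ⟶ W, b ≫ j = r ≫ t
  rel : ∀ {T : Over S} (a b : T ⟶ W), a ≫ p = b ≫ p ↔ ∃ r : T ⟶ R, r ≫ s = a ≫ j ∧ r ≫ t = b ≫ j

variable {s t : R ⟶ U}

/-- Fppf quotients of quasi-compact flat equivalence relations are quasi-separated. -/
theorem isQuasiSeparatedSp_quot (h : IsEqvRel s t) [Flat s.left] [LocallyOfFinitePresentation s.left]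
    [QuasiCompact (prod.lift t s).left] :
    IsQuasiSeparatedSp (QuotSh.quot Scheme.fppfPrecoverage s t) := by
  obtain ⟨sq, -⟩ := isPullback_quotMap h
  have hπ := repWith_fppf_quotMap h
  haveI : MorphismProperty.DescendsAlong (@QuasiCompact : MorphismProperty Scheme.{u}) fppfMor.{u} := inferInstance
  exact repWith_of_fppf_base (Qc := fppfMor.{u}) (isAlgSpace_quot_fppf h).diag
    (MorphismProperty.RespectsIso.precomp _ _ _ (repWith_prodMap hπ hπ))
    (isPullback_diag_prodHom sq) ((repWith_yon_map_iff @QuasiCompact _).2 ‹_›)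

/-- A quotient of a stable subscheme gives a subspace of the quotient sheaf. -/
theorem exists_isPullback_of_quot (h : IsEqvRel s t) [Flat s.left] [LocallyOfFinitePresentation s.left]
    {W Y : Over S} (j : W ⟶ U) (p : W ⟶ Y) [Mono j] [Flat p.left] [Surjective p.left]
    [LocallyOfFinitePresentation p.left]
    (stable : ∀ {T : Over S} (r : T ⟶ R) (a : T ⟶ W), a ≫ j = r ≫ s → ∃ b : T ⟶ W, b ≫ j = r ≫ t)
    (rel : ∀ {T : Over S} (a b : T ⟶ W), a ≫ p = b ≫ p ↔ ∃ r : T ⟶ R, r ≫ s = a ≫ j ∧ r ≫ t = b ≫ j) :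
    ∃ ψ : (yon S).obj Y ⟶ QuotSh.quot Scheme.fppfPrecoverage s t, Representable ψ ∧
      IsPullback ((yon S).map p) ((yon S).map j) ψ (quotMap s t) := by
  obtain ⟨sq, -⟩ := isPullback_quotMap h
  have hA := isAlgSpace_quot_fppf h
  have hyp : RepWith fppfMor ((yon S).map p) :=
    (repWith_yon_map_iff _ p).2 ⟨⟨inferInstance, inferInstance⟩, inferInstance⟩
  haveI : Epi ((yon S).map p) := epi_of_repWith_fppf hyp
  haveI : IsRegularEpi ((yon S).map p) := IsRegularEpiCategory.regularEpiOfEpi _
  let K := pullback p.left p.left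
  let KO : Over S := Over.mk (pullback.fst p.left p.left ≫ W.hom)
  let a₀ : KO ⟶ W := Over.homMk (pullback.fst p.left p.left) rfl
  let b₀ : KO ⟶ W := Over.homMk (pullback.snd p.left p.left) (by
    show pullback.snd p.left p.left ≫ W.hom = pullback.fst p.left p.left ≫ W.hom
    rw [← Over.w p, pullback.condition_assoc])
  have hK : IsPullback a₀ b₀ p p := IsPullback.of_map (Over.forget S)
    (Over.OverMorphism.ext pullback.condition) (IsPullback.of_hasPullback p.left p.left)
  obtain ⟨r, hr₁, hr₂⟩ := (rel a₀ b₀).1 hK.w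
  have w : (yon S).map a₀ ≫ (yon S).map j ≫ quotMap s t = (yon S).map b₀ ≫ (yon S).map j ≫ quotMap s t := by
    rw [← Functor.map_comp_assoc, ← Functor.map_comp_assoc, ← hr₁, ← hr₂, Functor.map_comp, Functor.map_comp,
      Category.assoc, Category.assoc, sq.w]
  have hKy : IsPullback ((yon S).map a₀) ((yon S).map b₀) ((yon S).map p) ((yon S).map p) := hK.map (yon S)
  let hcol := IsKernelPair.toCoequalizer' hKy
  let ψ : (yon S).obj Y ⟶ QuotSh.quot Scheme.fppfPrecoverage s t :=
    Cofork.IsColimit.desc hcol ((yon S).map j ≫ quotMap s t) w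
  have hψ : (yon S).map p ≫ ψ = (yon S).map j ≫ quotMap s t := Cofork.IsColimit.π_desc' hcol _ _
  haveI : Mono ψ := by
    refine mono_of_yon fun T y y' e => ?_
    obtain ⟨y, rfl⟩ := (yon S).map_surjective y
    obtain ⟨y', rfl⟩ := (yon S).map_surjective y'
    obtain ⟨P₁, a, c, ha, hc₁, hc₂, hc₃⟩ : ∃ (P₁ : Over S) (a : P₁ ⟶ W) (c : P₁ ⟶ T), a ≫ p = c ≫ y ∧
        Flat c.left ∧ LocallyOfFinitePresentation c.left ∧ Surjective c.left :=
      ⟨Over.mk (pullback.snd p.left y.left ≫ T.hom), Over.homMk (pullback.fst p.left y.left) (by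
          show pullback.fst p.left y.left ≫ W.hom = pullback.snd p.left y.left ≫ T.hom
          rw [← Over.w p, ← Over.w y, pullback.condition_assoc]), Over.homMk (pullback.snd p.left y.left) rfl,
        Over.OverMorphism.ext pullback.condition, inferInstanceAs (Flat (pullback.snd p.left y.left)),
        inferInstanceAs (LocallyOfFinitePresentation (pullback.snd p.left y.left)),
        inferInstanceAs (Surjective (pullback.snd p.left y.left))⟩
    obtain ⟨P₂, b, d, hb, hd₁, hd₂, hd₃⟩ : ∃ (P₂ : Over S) (b : P₂ ⟶ W) (d : P₂ ⟶ P₁), b ≫ p = d ≫ c ≫ y' ∧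
        Flat d.left ∧ LocallyOfFinitePresentation d.left ∧ Surjective d.left :=
      ⟨Over.mk (pullback.snd p.left (c ≫ y').left ≫ P₁.hom), Over.homMk (pullback.fst p.left (c ≫ y').left) (by
          show pullback.fst p.left (c ≫ y').left ≫ W.hom = pullback.snd p.left (c ≫ y').left ≫ P₁.hom
          rw [← Over.w p, ← Over.w (c ≫ y'), pullback.condition_assoc]),
        Over.homMk (pullback.snd p.left (c ≫ y').left) rfl, Over.OverMorphism.ext pullback.condition,
        inferInstanceAs (Flat (pullback.snd p.left (c ≫ y').left)),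
        inferInstanceAs (LocallyOfFinitePresentation (pullback.snd p.left (c ≫ y').left)),
        inferInstanceAs (Surjective (pullback.snd p.left (c ≫ y').left))⟩
    haveI := hc₁; haveI := hc₂; haveI := hc₃; haveI := hd₁; haveI := hd₂; haveI := hd₃
    haveI : Epi ((yon S).map (d ≫ c)) := epi_of_repWith_fppf ((repWith_yon_map_iff _ (d ≫ c)).2
      ⟨⟨by rw [Over.comp_left]; infer_instance, by rw [Over.comp_left]; infer_instance⟩,
        by rw [Over.comp_left]; infer_instance⟩)
    have e' : (yon S).map ((d ≫ a) ≫ j) ≫ quotMap s t = (yon S).map (b ≫ j) ≫ quotMap s t := by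
      simp only [Functor.map_comp, Category.assoc]
      rw [← hψ, ← Functor.map_comp_assoc (yon S) a p, ha, ← Functor.map_comp_assoc (yon S) b p, hb]
      simp only [Functor.map_comp, Category.assoc, e]
    obtain ⟨l, hl₁, hl₂⟩ := sq.exists_lift _ _ e'
    obtain ⟨r', rfl⟩ := (yon S).map_surjective l
    have hab : (d ≫ a) ≫ p = b ≫ p := ((rel b (d ≫ a)).2 ⟨r', (yon S).map_injective (by
      rw [Functor.map_comp, hl₂]), (yon S).map_injective (by rw [Functor.map_comp, hl₁])⟩).symm
    rw [← cancel_epi ((yon S).map (d ≫ c)), ← Functor.map_comp, ← Functor.map_comp]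
    refine congrArg _ ?_
    rw [Category.assoc, Category.assoc, ← ha, ← hb, ← hab, Category.assoc]
  have hsqp : IsPullback ((yon S).map p) ((yon S).map j) ψ (quotMap s t) := by
    haveI : Mono (pullback.lift ((yon S).map p) ((yon S).map j) hψ) := mono_of_mono_fac (pullback.lift_snd _ _ _)
    haveI : IsIso (pullback.lift ((yon S).map p) ((yon S).map j) hψ) :=
      isIso_of_mono_of_local_lifts _ fun T y => by
        obtain ⟨u, hu⟩ := (yon S).map_surjective (y ≫ pullback.snd _ _)
        obtain ⟨y₀, hy₀⟩ := (yon S).map_surjective (y ≫ pullback.fst _ _)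
        let P₁ : Over S := Over.mk (pullback.snd p.left y₀.left ≫ T.hom)
        let a : P₁ ⟶ W := Over.homMk (pullback.fst p.left y₀.left) (by
          show pullback.fst p.left y₀.left ≫ W.hom = pullback.snd p.left y₀.left ≫ T.hom
          rw [← Over.w p, ← Over.w y₀, pullback.condition_assoc])
        let c : P₁ ⟶ T := Over.homMk (pullback.snd p.left y₀.left) rfl
        have ha : a ≫ p = c ≫ y₀ := Over.OverMorphism.ext pullback.condition
        have e' : (yon S).map (a ≫ j) ≫ quotMap s t = (yon S).map (c ≫ u) ≫ quotMap s t := by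
          rw [Functor.map_comp, Functor.map_comp, Category.assoc, Category.assoc, ← hψ, hu, ← Functor.map_comp_assoc,
            ha, Functor.map_comp, Category.assoc, hy₀, Category.assoc, Category.assoc, pullback.condition]
        obtain ⟨l, hl₁, hl₂⟩ := sq.exists_lift _ _ e'.symm
        obtain ⟨r', rfl⟩ := (yon S).map_surjective l
        obtain ⟨b, hb⟩ := stable r' a ((yon S).map_injective (by rw [Functor.map_comp, Functor.map_comp, hl₂]; simp))
        refine ⟨PUnit.{u + 1}, fun _ => P₁, fun _ => c, ofArrows_mem_J _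
          (fun _ => inferInstanceAs (Flat (pullback.snd p.left y₀.left)))
          (fun _ => inferInstanceAs (LocallyOfFinitePresentation (pullback.snd p.left y₀.left)))
          (fun x => ⟨⟨⟩, (inferInstance : Surjective (pullback.snd p.left y₀.left)).surj x⟩),
          fun _ => ⟨(yon S).map b, ?_⟩⟩
        apply pullback.hom_ext
        · rw [Category.assoc, pullback.lift_fst, Category.assoc, ← hy₀, ← Functor.map_comp, ← Functor.map_comp]
          refine congrArg _ ?_
          rw [← ha]
          refine ((rel a b).2 ⟨r', (yon S).map_injective ?_, hb.symm⟩).symm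
          rw [Functor.map_comp, hl₂]
        · rw [Category.assoc, pullback.lift_snd, Category.assoc, ← hu, ← Functor.map_comp, ← Functor.map_comp]
          refine congrArg _ ?_
          rw [hb]
          exact (yon S).map_injective (by rw [Functor.map_comp, hl₁])
    exact IsPullback.of_iso_pullback ⟨hψ⟩ (asIso (pullback.lift ((yon S).map p) ((yon S).map j) hψ))
      (pullback.lift_fst _ _ hψ) (pullback.lift_snd _ _ hψ)
  exact ⟨ψ, Functor.relativelyRepresentable.of_diag hA.diag _, hsqp⟩

/-- The open subspace of the quotient sheaf given by a quotient of a stable open. -/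
theorem exists_repWith_of_isQuotOn (h : IsEqvRel s t) [Flat s.left] [LocallyOfFinitePresentation s.left]
    {W Y : Over S} {j : W ⟶ U} {p : W ⟶ Y} (hQ : IsQuotOn s t j p) :
    ∃ ψ : (yon S).obj Y ⟶ QuotSh.quot Scheme.fppfPrecoverage s t, RepWith @IsOpenImmersion ψ ∧
      IsPullback ((yon S).map p) ((yon S).map j) ψ (quotMap s t) := by
  haveI := hQ.isOpenImmersion; haveI := hQ.flat; haveI := hQ.surjective; haveI := hQ.lfp
  haveI : Mono j.left := inferInstance
  haveI : Mono j := (Over.forget S).mono_of_mono_map ‹Mono j.left›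
  obtain ⟨ψ, hψ, hsqp⟩ := exists_isPullback_of_quot h j p hQ.stable hQ.rel
  exact ⟨ψ, repWith_of_fppf_base (Qc := fppfMor.{u}) hψ (repWith_fppf_quotMap h)
    hsqp ((repWith_yon_map_iff @IsOpenImmersion j).2 inferInstance), hsqp⟩

/-- An open subscheme of the quotient sheaf gives a quotient of its preimage. -/
theorem isQuotOn_of_isPullback (h : IsEqvRel s t) [Flat s.left] [LocallyOfFinitePresentation s.left]
    {W Y : Over S} {j : W ⟶ U} {p : W ⟶ Y} {q : (yon S).obj Y ⟶ QuotSh.quot Scheme.fppfPrecoverage s t}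
    (hq : RepWith @IsOpenImmersion q) (sqW : IsPullback ((yon S).map p) ((yon S).map j) q (quotMap s t)) :
    IsQuotOn s t j p := by
  obtain ⟨sq, -⟩ := isPullback_quotMap h
  have hπ := repWith_fppf_quotMap h
  haveI : Mono q := mono_of_openImmersion hq
  haveI hjo : IsOpenImmersion j.left := hq.property _ _ j sqW
  obtain ⟨⟨hs, hfl⟩, hfp⟩ : fppfMor p.left := hπ.property q ((yon S).map j) p sqW.flip
  refine ⟨hjo, hfl, hs, hfp, ?_, ?_⟩
  · intro T r a ha
    have e₁ : ((yon S).map (a ≫ p)) ≫ q = (yon S).map (r ≫ t) ≫ quotMap s t := by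
      rw [Functor.map_comp, Functor.map_comp, Category.assoc, Category.assoc, sqW.w, sq.w, ← Functor.map_comp_assoc,
        ← Functor.map_comp_assoc, ha]
    obtain ⟨l, -, hl⟩ := sqW.exists_lift ((yon S).map (a ≫ p)) ((yon S).map (r ≫ t)) e₁
    obtain ⟨b, rfl⟩ := (yon S).map_surjective l
    exact ⟨b, (yon S).map_injective (by rw [Functor.map_comp, hl])⟩
  · intro T a b
    constructor
    · intro hab
      have e₁ : (yon S).map (b ≫ j) ≫ quotMap s t = (yon S).map (a ≫ j) ≫ quotMap s t := by
        rw [Functor.map_comp, Functor.map_comp, Category.assoc, Category.assoc, ← sqW.w, ← Functor.map_comp_assoc,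
          ← Functor.map_comp_assoc, hab]
      obtain ⟨l, hl₁, hl₂⟩ := sq.exists_lift _ _ e₁
      obtain ⟨r, rfl⟩ := (yon S).map_surjective l
      exact ⟨r, (yon S).map_injective (by rw [Functor.map_comp, hl₂]),
        (yon S).map_injective (by rw [Functor.map_comp, hl₁])⟩
    · rintro ⟨r, hr₁, hr₂⟩
      apply (yon S).map_injective
      rw [← cancel_mono q, Functor.map_comp, Functor.map_comp, Category.assoc, Category.assoc, sqW.w,
        ← Functor.map_comp_assoc, ← Functor.map_comp_assoc, ← hr₁, ← hr₂, Functor.map_comp, Functor.map_comp,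
        Category.assoc, Category.assoc, sq.w]

/-- The quotient map is open on points. -/
theorem isOpenMap_points_quotMap (h : IsEqvRel s t) [Flat s.left] [LocallyOfFinitePresentation s.left] :
    IsOpenMap (Points.map (quotMap s t)) := by
  have hπ := repWith_fppf_quotMap h
  refine isOpenMap_local _ (isAlgSpace_quot_fppf h) fun T _ a => ?_
  obtain ⟨V, c, b, sqV⟩ := hπ.rep a
  obtain ⟨⟨-, hfl⟩, hfp⟩ : fppfMor c.left := hπ.property a b c sqV
  haveI := hfl; haveI := hfp
  rw [show pullback.snd (quotMap s t) a = sqV.isoPullback.inv ≫ (yon S).map c from sqV.isoPullback_inv_snd.symm]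
  exact isOpenMap_iso_comp sqV.isoPullback.symm _ ((isOpenMap_yon_iff c).2 c.left.isOpenMap)

/-- The fppf quotient is a scheme over a largest stable open, and this open is dense. -/
theorem exists_maxQuotOn (h : IsEqvRel s t) [Flat s.left] [LocallyOfFinitePresentation s.left]
    [QuasiCompact (prod.lift t s).left] :
    ∃ (W Y : Over S) (j : W ⟶ U) (p : W ⟶ Y), DenseRange j.left ∧ IsQuotOn s t j p ∧
      ∀ {W' Y' : Over S} (j' : W' ⟶ U) (p' : W' ⟶ Y'), IsQuotOn s t j' p' → ∃ l : W' ⟶ W, l ≫ j = j' := by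
  have hπ := repWith_fppf_quotMap h
  have hA := isAlgSpace_quot_fppf h
  let X : Space S := ⟨QuotSh.quot Scheme.fppfPrecoverage s t, hA⟩
  obtain ⟨X'', j₁, hj₁, hrep₁, hdense⟩ :=
    S10337.result X (isDecent_of_isQuasiSeparatedSp hA (isQuasiSeparatedSp_quot h))
  obtain ⟨X', j₀, hj₀, hrep, hmax⟩ := S10197.result X
  obtain ⟨k₁, hk₁⟩ := hmax X'' j₁ hj₁ hrep₁
  haveI := hrep
  let e : (yon S).obj X'.obj.obj.reprX ≅ X'.obj := isoOfRepresentableBy X'.obj.obj.representableBy
  let q : (yon S).obj X'.obj.obj.reprX ⟶ QuotSh.quot Scheme.fppfPrecoverage s t := e.hom ≫ j₀.hom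
  have hq : RepWith @IsOpenImmersion q := repWith_comp (repWith_of_isIso e.hom) hj₀
  obtain ⟨W, j, p', sqW⟩ := hq.rep (quotMap s t)
  obtain ⟨p, rfl⟩ := (yon S).map_surjective p'
  refine ⟨W, X'.obj.obj.reprX, j, p, ?_, isQuotOn_of_isPullback h hq sqW, fun {W' Y'} j' p' hQ' => ?_⟩
  · show Dense (Set.range j.left)
    rw [← preimage_ofPt_range sqW]
    have hd : Dense (Set.range (Points.map q)) := hdense.mono (by
      rintro _ ⟨y, rfl⟩
      refine ⟨Points.map e.inv (Points.map k₁.hom y), ?_⟩
      simp only [q, ← Points.map_comp, Category.assoc, Iso.inv_hom_id_assoc]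
      rw [show k₁.hom ≫ j₀.hom = j₁.hom from congrArg (·.hom) hk₁])
    have e' : Points.ofPt (quotMap s t) = Points.map (quotMap s t) ∘ Points.schemeHomeo U := by
      funext x
      exact Points.ofPt_eq_map_ofScheme (quotMap s t) x
    rw [e', Set.preimage_comp]
    exact (hd.preimage (isOpenMap_points_quotMap h)).preimage (Points.schemeHomeo U).isOpenMap
  · haveI : Mono q := mono_of_openImmersion hq
    obtain ⟨ψ, hψ, hsqp⟩ := exists_repWith_of_isQuotOn h hQ'
    let X₂ : Space S := ⟨(yon S).obj Y', IsAlgSpace.yon_obj Y'⟩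
    obtain ⟨k₂, hk₂⟩ := hmax X₂ (ObjectProperty.homMk ψ : X₂ ⟶ X) hψ
      ((AlgSp.representableByOfIso (Iso.refl ((yon S).obj Y'))).isRepresentable)
    have hk₂' : k₂.hom ≫ j₀.hom = ψ := congrArg (·.hom) hk₂
    obtain ⟨l, -, hl⟩ := sqW.exists_lift ((yon S).map p' ≫ k₂.hom ≫ e.inv) ((yon S).map j') (by
      simp only [q, Category.assoc, Iso.inv_hom_id_assoc, hk₂']
      exact hsqp.w)
    obtain ⟨l, rfl⟩ := (yon S).map_surjective l
    exact ⟨l, (yon S).map_injective (by rw [Functor.map_comp, hl])⟩

end Groth.Agent.H19Quot
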