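import Groth.Agent.H19Quot.Field
import Groth.Agent.H19Quot.FpqcCover

/-!
# Group structures on quotients
-/

set_option autoImplicit false
set_option maxHeartbeats 1000000
set_option synthInstance.maxHeartbeats 400000
set_option linter.style.haveILetI false
set_option backward.isDefEq.respectTransparency false

universe u

open CategoryTheory CategoryTheory.Limits MonoidalCategory CartesianMonoidalCategory MonObj AlgebraicGeometry

namespace Groth.Agent.H19Quot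

variable {S : Scheme.{u}} {G Q H R : Over S}

/-- `p` has sections along a single fpqc covering. -/
def HasFpqcSection (p : G ⟶ Q) : Prop :=
  ∃ (Z : Over S) (q : Z ⟶ Q) (r : Z ⟶ G), r ≫ p = q ∧ FpqcCov q.left

theorem hasFpqcSection_of_lfp (p : G ⟶ Q) [Flat p.left] [Surjective p.left] [LocallyOfFinitePresentation p.left] :
    HasFpqcSection p :=
  ⟨G, p, 𝟙 G, Category.id_comp p, fpqcCov_of_lfp p.left⟩

theorem HasFpqcSection.epi {p : G ⟶ Q} (hp : HasFpqcSection p) : Epi p := by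
  obtain ⟨Z, q, r, rfl, hq⟩ := hp
  haveI := hq.effectiveEpi
  haveI : Epi (r ≫ p) := Over.epi_of_epi_left _
  exact epi_of_epi r p

/-- Morphisms descend along a map with fpqc local sections. -/
theorem HasFpqcSection.desc {p : G ⟶ Q} (hp : HasFpqcSection p) (φ : G ⟶ H)
    (h : ∀ (T : Over S) (a b : T ⟶ G), a ≫ p = b ≫ p → a ≫ φ = b ≫ φ) :
    ∃ ψ : Q ⟶ H, p ≫ ψ = φ := by
  obtain ⟨Z, q, r, rfl, hq⟩ := hp
  haveI := hq.effectiveEpi
  have hcond : ∀ {W : Scheme.{u}} (g₁ g₂ : W ⟶ Z.left), g₁ ≫ (r ≫ p).left = g₂ ≫ (r ≫ p).left →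
      g₁ ≫ (r ≫ φ).left = g₂ ≫ (r ≫ φ).left := by
    intro W g₁ g₂ hg
    have hb : g₂ ≫ Z.hom = g₁ ≫ Z.hom := by
      rw [← Over.w (r ≫ p), ← Category.assoc, ← hg, Category.assoc]
    have := congrArg (fun f => Over.Hom.left f) (h (Over.mk (g₁ ≫ Z.hom)) (Over.homMk g₁ rfl ≫ r)
      (Over.homMk g₂ hb ≫ r) (Over.OverMorphism.ext (by simpa using hg)))
    simpa using this
  let d := EffectiveEpi.desc (r ≫ p).left (r ≫ φ).left hcond
  have hd : (r ≫ p).left ≫ d = (r ≫ φ).left := EffectiveEpi.fac (r ≫ p).left (r ≫ φ).left hcond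
  let ψ : Q ⟶ H := Over.homMk d (by
    rw [← cancel_epi (r ≫ p).left, ← Category.assoc, hd, Over.w, Over.w])
  refine ⟨ψ, ?_⟩
  let P : Over S := Over.mk (pullback.fst p.left (r ≫ p).left ≫ G.hom)
  let π₁ : P ⟶ G := Over.homMk (pullback.fst p.left (r ≫ p).left) rfl
  let π₂ : P ⟶ Z := Over.homMk (pullback.snd p.left (r ≫ p).left) (by
    show pullback.snd _ _ ≫ Z.hom = pullback.fst _ _ ≫ G.hom
    rw [← Over.w (r ≫ p), ← Category.assoc, ← pullback.condition, Category.assoc, Over.w p])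
  have hπ : π₁ ≫ p = π₂ ≫ r ≫ p := Over.OverMorphism.ext pullback.condition
  haveI := (hq.of_isPullback (IsPullback.of_hasPullback p.left (r ≫ p).left)).effectiveEpi
  haveI : Epi π₁.left := inferInstanceAs (Epi (pullback.fst p.left (r ≫ p).left))
  haveI : Epi π₁ := Over.epi_of_epi_left π₁
  rw [← cancel_epi π₁, ← Category.assoc, hπ]
  have hψ : (r ≫ p) ≫ ψ = r ≫ φ := Over.OverMorphism.ext hd
  rw [Category.assoc, hψ, ← Category.assoc]
  exact (h P π₁ (π₂ ≫ r) (hπ.trans (Category.assoc _ _ _).symm)).symm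

theorem fpqcCov_whiskerRight {Z : Over S} {q : Z ⟶ Q} (hq : FpqcCov q.left) (E : Over S) :
    FpqcCov (q ▷ E).left := hq.of_isPullback (isPullback_whiskerRight q E)

theorem fpqcCov_whiskerLeft {Z : Over S} {q : Z ⟶ Q} (hq : FpqcCov q.left) (E : Over S) :
    FpqcCov (E ◁ q).left := by
  rw [show E ◁ q = (β_ E Z).hom ≫ q ▷ E ≫ (β_ Q E).hom by
    rw [BraidedCategory.braiding_naturality_left]; simp, Over.comp_left, Over.comp_left]
  haveI : IsIso (β_ E Z).hom.left := inferInstanceAs (IsIso ((Over.forget S).map (β_ E Z).hom))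
  haveI : IsIso (β_ Q E).hom.left := inferInstanceAs (IsIso ((Over.forget S).map (β_ Q E).hom))
  exact (fpqcCov_of_lfp _).comp ((fpqcCov_whiskerRight hq E).comp (fpqcCov_of_lfp _))

theorem HasFpqcSection.tensor {p : G ⟶ Q} {p' : H ⟶ R} (hp : HasFpqcSection p) (hp' : HasFpqcSection p') :
    HasFpqcSection (p ⊗ₘ p') := by
  obtain ⟨Z, q, r, rfl, hq⟩ := hp
  obtain ⟨Z', q', r', rfl, hq'⟩ := hp'
  refine ⟨Z ⊗ Z', (r ≫ p) ⊗ₘ (r' ≫ p'), r ⊗ₘ r', tensorHom_comp_tensorHom _ _ _ _, ?_⟩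
  rw [MonoidalCategory.tensorHom_def, Over.comp_left]
  exact (fpqcCov_whiskerRight hq Z').comp (fpqcCov_whiskerLeft hq' _)

theorem HasFpqcSection.id (G : Over S) : HasFpqcSection (𝟙 G) := by
  haveI : IsIso (Over.Hom.left (𝟙 G)) := inferInstanceAs (IsIso ((Over.forget S).map (𝟙 G)))
  exact hasFpqcSection_of_lfp _

/-- A quotient compatible with the multiplication is a group. -/
theorem exists_grpObj_of_congr [GrpObj G] {p : G ⟶ Q} (hp : HasFpqcSection p)
    (hμ : ∀ (T : Over S) (a a' b b' : T ⟶ G), a ≫ p = a' ≫ p → b ≫ p = b' ≫ p → (a * b) ≫ p = (a' * b') ≫ p) :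
    ∃ _ : GrpObj Q, IsMonHom p ∧ ∀ m : Q ⊗ Q ⟶ Q, (p ⊗ₘ p) ≫ m = μ[G] ≫ p → m = μ[Q] := by
  have hμ' : μ[G] = fst G G * snd G G := by rw [Hom.mul_def, lift_fst_snd, Category.id_comp]
  obtain ⟨m, hm⟩ := (hp.tensor hp).desc (μ[G] ≫ p) (fun T a b hab => by
    have h₁ := congrArg (· ≫ fst Q Q) hab
    have h₂ := congrArg (· ≫ snd Q Q) hab
    simp only [Category.assoc, tensorHom_fst, tensorHom_snd] at h₁ h₂
    rw [hμ', ← Category.assoc, ← Category.assoc, MonObj.comp_mul, MonObj.comp_mul]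
    exact hμ T _ _ _ _ (by rwa [Category.assoc, Category.assoc]) (by rwa [Category.assoc, Category.assoc]))
  obtain ⟨i, hi⟩ := hp.desc (ι[G] ≫ p) (fun T a b hab => by
    rw [← Category.assoc, ← Category.assoc, ← Hom.inv_def, ← Hom.inv_def]
    have h := hμ T _ _ _ _ (hμ T a⁻¹ a⁻¹ a b rfl hab) (rfl : b⁻¹ ≫ p = b⁻¹ ≫ p)
    rw [inv_mul_cancel, _root_.one_mul, _root_.mul_assoc, mul_inv_cancel, _root_.mul_one] at h
    exact h.symm)
  haveI := hp.epi
  haveI := (hp.tensor hp).epi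
  haveI := ((hp.tensor hp).tensor hp).epi
  haveI := ((HasFpqcSection.id (𝟙_ (Over S))).tensor hp).epi
  haveI := (hp.tensor (HasFpqcSection.id (𝟙_ (Over S)))).epi
  letI inst : GrpObj Q :=
    { one := η[G] ≫ p
      mul := m
      inv := i
      one_mul := by
        rw [← cancel_epi (𝟙 (𝟙_ (Over S)) ⊗ₘ p)]
        have e : (𝟙 (𝟙_ (Over S)) ⊗ₘ p) ≫ (η[G] ≫ p) ▷ Q = η[G] ▷ G ≫ (p ⊗ₘ p) := by
          apply CartesianMonoidalCategory.hom_ext <;>
            simp [leftUnitor_hom, toUnit_unique (fst (𝟙_ (Over S)) G) (toUnit _)]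
        rw [← Category.assoc, e, Category.assoc, hm, MonObj.one_mul_assoc]
        simp
      mul_one := by
        rw [← cancel_epi (p ⊗ₘ 𝟙 (𝟙_ (Over S)))]
        have e : (p ⊗ₘ 𝟙 (𝟙_ (Over S))) ≫ Q ◁ (η[G] ≫ p) = G ◁ η[G] ≫ (p ⊗ₘ p) := by
          apply CartesianMonoidalCategory.hom_ext <;>
            simp [rightUnitor_hom, toUnit_unique (snd G (𝟙_ (Over S))) (toUnit _)]
        rw [← Category.assoc, e, Category.assoc, hm, MonObj.mul_one_assoc]
        simp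
      mul_assoc := by
        rw [← cancel_epi ((p ⊗ₘ p) ⊗ₘ p)]
        have e₁ : ((p ⊗ₘ p) ⊗ₘ p) ≫ m ▷ Q = μ[G] ▷ G ≫ (p ⊗ₘ p) := by
          rw [← tensorHom_id, tensorHom_comp_tensorHom, hm, Category.comp_id, ← tensorHom_id,
            tensorHom_comp_tensorHom, Category.id_comp]
        have e₂ : ((p ⊗ₘ p) ⊗ₘ p) ≫ (α_ Q Q Q).hom ≫ Q ◁ m = (α_ G G G).hom ≫ G ◁ μ[G] ≫ (p ⊗ₘ p) := by
          rw [associator_naturality_assoc, ← id_tensorHom, tensorHom_comp_tensorHom, hm, Category.comp_id,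
            ← id_tensorHom, tensorHom_comp_tensorHom, Category.id_comp]
        rw [← Category.assoc, e₁, Category.assoc, hm, MonObj.mul_assoc_assoc]
        simp only [← Category.assoc] at e₂ ⊢
        rw [e₂]
        simp only [Category.assoc, hm]
      left_inv := by
        rw [← cancel_epi p]
        have e : p ≫ lift i (𝟙 Q) = lift ι[G] (𝟙 G) ≫ (p ⊗ₘ p) := by
          apply CartesianMonoidalCategory.hom_ext <;> simp [hi]
        rw [← Category.assoc, e, Category.assoc, hm, GrpObj.left_inv_assoc, comp_toUnit_assoc]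
      right_inv := by
        rw [← cancel_epi p]
        have e : p ≫ lift (𝟙 Q) i = lift (𝟙 G) ι[G] ≫ (p ⊗ₘ p) := by
          apply CartesianMonoidalCategory.hom_ext <;> simp [hi]
        rw [← Category.assoc, e, Category.assoc, hm, GrpObj.right_inv_assoc, comp_toUnit_assoc] }
  refine ⟨inst, ⟨rfl, hm.symm⟩, fun m' hm' => ?_⟩
  rw [← cancel_epi (p ⊗ₘ p), hm']
  exact hm.symm

theorem one_eq (T : Over S) [GrpObj G] : (1 : T ⟶ G) = toUnit T ≫ η[G] := Hom.one_def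

/-- The fibre over the unit is the subgroup. -/
theorem isPullback_unit_of_rel [GrpObj G] {F : Over S} (u : F ⟶ G) [Mono u] (p : G ⟶ Q)
    (hrel : ∀ (T : Over S) (a : T ⟶ G), a ≫ p = (1 : T ⟶ G) ≫ p ↔ ∃ n : T ⟶ F, n ≫ u = a) :
    IsPullback u (toUnit F) p (η[G] ≫ p) := by
  have w : u ≫ p = toUnit F ≫ η[G] ≫ p := by
    rw [← Category.assoc, ← one_eq]
    exact (hrel F u).2 ⟨𝟙 F, Category.id_comp u⟩
  have hc : ∀ c : PullbackCone p (η[G] ≫ p), c.fst ≫ p = (1 : c.pt ⟶ G) ≫ p := fun c => by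
    rw [c.condition, toUnit_unique c.snd (toUnit _), one_eq, Category.assoc]
  refine IsPullback.of_isLimit' ⟨w⟩ (PullbackCone.IsLimit.mk _
    (fun c => ((hrel _ c.fst).1 (hc c)).choose) (fun c => ((hrel _ c.fst).1 (hc c)).choose_spec)
    (fun c => toUnit_unique _ _) (fun c m hm _ => ?_))
  rw [← cancel_mono u, hm, ((hrel _ c.fst).1 (hc c)).choose_spec]

/-- Congruence for the left translation relation of a normal subgroup. -/
theorem congr_of_isNormalHom_left {F : Over S} [GrpObj F] [GrpObj G] {u : F ⟶ G} [IsMonHom u]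
    (hN : AlgGrp.IsNormalHom u) {p : G ⟶ Q}
    (hrel : ∀ (T : Over S) (a b : T ⟶ G), a ≫ p = b ≫ p ↔ ∃ n : T ⟶ F, b = (n ≫ u) * a)
    (T : Over S) (a a' b b' : T ⟶ G) (ha : a ≫ p = a' ≫ p) (hb : b ≫ p = b' ≫ p) :
    (a * b) ≫ p = (a' * b') ≫ p := by
  obtain ⟨n, rfl⟩ := (hrel T a a').1 ha
  obtain ⟨m, rfl⟩ := (hrel T b b').1 hb
  obtain ⟨m', hm'⟩ := hN T a m
  refine (hrel T _ _).2 ⟨n * m', ?_⟩
  rw [MonObj.mul_comp, ← hm']
  group

/-- Congruence for the right translation relation of a normal subgroup. -/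
theorem congr_of_isNormalHom_right {F : Over S} [GrpObj F] [GrpObj G] {u : F ⟶ G} [IsMonHom u]
    (hN : AlgGrp.IsNormalHom u) {p : G ⟶ Q}
    (hrel : ∀ (T : Over S) (a b : T ⟶ G), a ≫ p = b ≫ p ↔ ∃ n : T ⟶ F, b = a * (n ≫ u))
    (T : Over S) (a a' b b' : T ⟶ G) (ha : a ≫ p = a' ≫ p) (hb : b ≫ p = b' ≫ p) :
    (a * b) ≫ p = (a' * b') ≫ p := by
  obtain ⟨n, rfl⟩ := (hrel T a a').1 ha
  obtain ⟨m, rfl⟩ := (hrel T b b').1 hb
  obtain ⟨n', hn'⟩ := hN T b⁻¹ n
  refine (hrel T _ _).2 ⟨n' * m, ?_⟩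
  rw [MonObj.mul_comp, ← hn']
  group

/-- The relation of a quotient by left translations. -/
theorem IsQuotOn.rel_iff {F : Over S} [GrpObj F] [GrpObj G] {u : F ⟶ G} {p : G ⟶ Q}
    (Q' : IsQuotOn (snd F G) (leftTranslate u) (𝟙 G) p) (T : Over S) (a b : T ⟶ G) :
    a ≫ p = b ≫ p ↔ ∃ n : T ⟶ F, b = (n ≫ u) * a := by
  rw [Q'.rel a b]
  constructor
  · rintro ⟨r, h₁, h₂⟩
    rw [Category.comp_id] at h₁ h₂
    exact ⟨r ≫ fst F G, by rw [← h₂, comp_leftTranslate, h₁, Category.assoc]⟩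
  · rintro ⟨n, rfl⟩
    exact ⟨CartesianMonoidalCategory.lift n a, by simp, by rw [lift_leftTranslate, Category.comp_id]⟩

/-- The relation given by a cartesian square of right translations. -/
theorem rel_iff_of_isPullback {F : Over S} [GrpObj F] [GrpObj G] {u : F ⟶ G} [IsMonHom u] {p : G ⟶ Q}
    (hsq : IsPullback ((G ◁ u) ≫ μ[G]) (fst G F) p p) (T : Over S) (a b : T ⟶ G) :
    a ≫ p = b ≫ p ↔ ∃ n : T ⟶ F, b = a * (n ≫ u) := by
  have e : (G ◁ u) ≫ μ[G] = fst G F * (snd G F ≫ u) := by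
    rw [Hom.mul_def]; congr 1
  constructor
  · intro h
    refine ⟨hsq.lift b a h.symm ≫ snd G F, ?_⟩
    have h₁ := hsq.lift_fst b a h.symm
    simp only [e, MonObj.comp_mul, hsq.lift_snd] at h₁
    rw [Category.assoc]
    exact h₁.symm
  · rintro ⟨n, rfl⟩
    have h := congrArg (CartesianMonoidalCategory.lift a n ≫ ·) hsq.w
    simp only [e, ← Category.assoc, MonObj.comp_mul, lift_fst, lift_snd] at h
    exact h.symm

end Groth.Agent.H19Quot
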