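import Groth.Agent.H19Grp.AffinePoints
import Groth.Agent.H14GL.Points
import Groth.Agent.S16480
import Mathlib

/-!
# Affine algebraic groups over a field are linear
-/

set_option autoImplicit false
set_option maxHeartbeats 1000000
set_option synthInstance.maxHeartbeats 400000
set_option linter.style.haveILetI false
set_option backward.isDefEq.respectTransparency false

universe u

open CategoryTheory CategoryTheory.Limits MonoidalCategory CartesianMonoidalCategory MonObj GrpObj
  AlgebraicGeometry TensorProduct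

namespace Groth.Agent.H19Quot

/-- The functions of an affine group carry an invertible matrix of generators with matrix comultiplication. -/
theorem exists_matrix {k : Type u} [Field k] (G : Over (Spec (CommRingCat.of k))) [GrpObj G] [IsAffine G.left]
    [LocallyOfFiniteType G.hom] :
    ∃ (n : ℕ) (M : GL (Fin n) Γ(G.left, ⊤)),
      (∀ (Z : Over (Spec (CommRingCat.of k))) [IsAffine Z.left] (x y : Z ⟶ G),
        Matrix.GeneralLinearGroup.map (x * y).left.appTop.hom M =
          Matrix.GeneralLinearGroup.map x.left.appTop.hom M * Matrix.GeneralLinearGroup.map y.left.appTop.hom M) ∧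
      (∀ (Z : Over (Spec (CommRingCat.of k))) (x y : Z ⟶ G),
        Matrix.GeneralLinearGroup.map x.left.appTop.hom M = Matrix.GeneralLinearGroup.map y.left.appTop.hom M →
          x = y) := by
  let R := CommRingCat.of k
  letI iG : G.left.Over (Spec R) := ⟨G.hom⟩
  letI gG : GrpObj (G.left.asOver (Spec R)) := ‹GrpObj G›
  letI hA : HopfAlgebra k Γ(G.left, ⊤) := H19Grp.AffinePoints.hopfOf R G.left
  have hmap : Spec.map (CommRingCat.ofHom (algebraMap k Γ(G.left, ⊤))) = G.left.isoSpec.inv ≫ G.hom := by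
    rw [show algebraMap k Γ(G.left, ⊤) = algebraMap R Γ(G.left, ⊤) from rfl, algebraMap_presheafObj]
    exact Spec.fullyFaithful.map_preimage _
  have halg : CommRingCat.ofHom (algebraMap k Γ(G.left, ⊤)) = (Scheme.ΓSpecIso R).inv ≫ G.hom.appTop := by
    apply Spec.map_injective
    rw [hmap, Spec.map_comp]
    refine (Scheme.isoSpec_inv_naturality G.hom).symm.trans ?_
    rw [← cancel_mono (Spec R).isoSpec.hom, Category.assoc, Category.assoc, Iso.inv_hom_id, Category.comp_id]
    simp only [Scheme.isoSpec_Spec_hom, ← Spec.map_comp, Iso.hom_inv_id, Spec.map_id, Category.comp_id]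
  haveI : Algebra.FiniteType k Γ(G.left, ⊤) := by
    rw [← RingHom.finiteType_algebraMap]
    have h : G.hom.appTop.hom.FiniteType :=
      (HasRingHomProperty.iff_of_isAffine (P := @LocallyOfFiniteType)).mp inferInstance
    have h' := h.comp (RingHom.FiniteType.of_surjective _
      ((ConcreteCategory.bijective_of_isIso (Scheme.ΓSpecIso R).inv).2))
    rw [show algebraMap k Γ(G.left, ⊤) = ((Scheme.ΓSpecIso R).inv ≫ G.hom.appTop).hom from
      congrArg (fun f => f.hom) halg]
    exact h'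
  obtain ⟨n, π, hπ⟩ := S16480.result k Γ(G.left, ⊤)
  have hinv : IsUnit (Matrix.of fun i j => π (CoordGrp.GLn.X i j)).det := by
    refine IsUnit.of_mul_eq_one (π CoordGrp.GLn.Dinv) ?_
    rw [show (Matrix.of fun i j => π (CoordGrp.GLn.X i j)).det = π CoordGrp.GLn.det by
      rw [CoordGrp.GLn.det_eq, show (π : CoordGrp.GLn n k → Γ(G.left, ⊤)) = ((π : CoordGrp.GLn n k →ₐ[k] Γ(G.left, ⊤)) : _) from rfl,
        AlgHom.map_det]
      rfl, ← map_mul, CoordGrp.GLn.det_mul_Dinv, map_one]
  let M : GL (Fin n) Γ(G.left, ⊤) := ((Matrix.isUnit_iff_isUnit_det _).2 hinv).unit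
  have hM : ∀ i j, (M : Matrix (Fin n) (Fin n) Γ(G.left, ⊤)) i j = π (CoordGrp.GLn.X i j) := fun i j => rfl
  refine ⟨n, M, fun Z instZ x y => ?_, fun Z x y h => ?_⟩
  · haveI : IsAffine Z.left := instZ
    letI hZ : Algebra k Γ(Z.left, ⊤) := ((Scheme.ΓSpecIso R).inv ≫ Z.hom.appTop).hom.toAlgebra
    have hZmap : Z.left.isoSpec.inv ≫ Z.hom = Spec.map (CommRingCat.ofHom (algebraMap k Γ(Z.left, ⊤))) := by
      show _ = Spec.map ((Scheme.ΓSpecIso R).inv ≫ Z.hom.appTop)
      rw [Spec.map_comp]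
      refine (Scheme.isoSpec_inv_naturality Z.hom).symm.trans ?_
      rw [← cancel_mono (Spec R).isoSpec.hom, Category.assoc, Category.assoc, Iso.inv_hom_id, Category.comp_id]
      simp only [Scheme.isoSpec_Spec_hom, ← Spec.map_comp, Iso.hom_inv_id, Spec.map_id, Category.comp_id]
    let z : (Spec Γ(Z.left, ⊤)).asOver (Spec R) ⟶ Z := Over.homMk Z.left.isoSpec.inv hZmap
    let iso : G ⟶ (Spec Γ(G.left, ⊤)).asOver (Spec R) := G.left.isoSpec.hom.asOver (Spec R)
    haveI : IsMonHom iso := H19Grp.AffinePoints.isMonHom_isoSpec R G.left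
    let φ : (Z ⟶ G) → WithConv (Γ(G.left, ⊤) →ₐ[k] Γ(Z.left, ⊤)) := fun w =>
      (Spec.mapMulEquiv (R := k) (S := Γ(G.left, ⊤)) (T := Γ(Z.left, ⊤))).symm (z ≫ w ≫ iso)
    have hφ : ∀ w, CommRingCat.ofHom (φ w).ofConv.toRingHom = w.left.appTop := fun w => by
      apply Spec.map_injective
      have e := congrArg (·.left)
        ((Spec.mapMulEquiv (R := k) (S := Γ(G.left, ⊤)) (T := Γ(Z.left, ⊤))).apply_symm_apply (z ≫ w ≫ iso))
      refine e.trans ?_
      show Z.left.isoSpec.inv ≫ w.left ≫ G.left.isoSpec.hom = _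
      rw [← Scheme.isoSpec_hom_naturality, Iso.inv_hom_id_assoc]
    have hmul : φ (x * y) = φ x * φ y := by
      simp only [φ, MonObj.mul_comp, MonObj.comp_mul, map_mul]
    have hcm : ∀ i j, CoalgebraStruct.comul (R := k) (π (CoordGrp.GLn.X i j)) =
        ∑ l, π (CoordGrp.GLn.X i l) ⊗ₜ[k] π (CoordGrp.GLn.X l j) := fun i j => by
      rw [← CoalgHomClass.map_comp_comul_apply, CoordGrp.GLn.comul_X, map_sum]
      rfl
    apply Units.ext
    ext i j
    rw [Units.val_mul, Matrix.mul_apply]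
    show (x * y).left.appTop (π (CoordGrp.GLn.X i j)) = ∑ l, x.left.appTop (π (CoordGrp.GLn.X i l)) * y.left.appTop (π (CoordGrp.GLn.X l j))
    rw [← hφ, hmul, ← hφ, ← hφ]
    show (φ x * φ y).ofConv (π (CoordGrp.GLn.X i j)) = _
    simp only [AlgHom.convMul_def, WithConv.ofConv_toConv, AlgHom.comp_apply]
    erw [hcm]
    simp only [map_sum, Algebra.TensorProduct.map_tmul, Algebra.TensorProduct.lmul'_apply_tmul]
    rfl
  · have hxy : ∀ i j, x.left.appTop (π (CoordGrp.GLn.X i j)) = y.left.appTop (π (CoordGrp.GLn.X i j)) := fun i j =>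
      congrArg (fun g : GL (Fin n) Γ(Z.left, ⊤) => (g : Matrix (Fin n) (Fin n) Γ(Z.left, ⊤)) i j) h
    let fx : CoordGrp.GLn n k →+* Γ(Z.left, ⊤) := x.left.appTop.hom.comp (π : CoordGrp.GLn n k →ₐ[k] Γ(G.left, ⊤)).toRingHom
    let fy : CoordGrp.GLn n k →+* Γ(Z.left, ⊤) := y.left.appTop.hom.comp (π : CoordGrp.GLn n k →ₐ[k] Γ(G.left, ⊤)).toRingHom
    letI : Algebra k Γ(Z.left, ⊤) := (fx.comp (algebraMap k _)).toAlgebra
    have hc : ∀ r : k, fy (algebraMap k _ r) = fx (algebraMap k _ r) := fun r => by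
      have hg : ∀ w : Z ⟶ G, w.left.appTop ((π : CoordGrp.GLn n k →ₐ[k] Γ(G.left, ⊤)) (algebraMap k _ r)) =
          Z.hom.appTop ((Scheme.ΓSpecIso R).inv r) := fun w => by
        rw [AlgHom.commutes]
        show w.left.appTop ((CommRingCat.ofHom (algebraMap k Γ(G.left, ⊤))) r) = _
        rw [halg, CommRingCat.comp_apply, ← CommRingCat.comp_apply, ← Scheme.Hom.comp_appTop, Over.w w]
      exact (hg y).trans (hg x).symm
    let ax : CoordGrp.GLn n k →ₐ[k] Γ(Z.left, ⊤) := { fx with commutes' := fun r => rfl }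
    let ay : CoordGrp.GLn n k →ₐ[k] Γ(Z.left, ⊤) := { fy with commutes' := hc }
    have e : ax = ay := S16480.gln_algHom_ext_X hxy
    refine Over.OverMorphism.ext (ext_of_isAffine ?_)
    ext a
    obtain ⟨c, rfl⟩ := hπ a
    exact congrArg (fun f : CoordGrp.GLn n k →ₐ[k] Γ(Z.left, ⊤) => f c) e

end Groth.Agent.H19Quot
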