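import Groth.Agent.H19Quot.Generic

/-!
# Operations on quotients of stable opens

Restriction, transport along automorphisms of the relation, base change.
-/

set_option autoImplicit false
set_option maxHeartbeats 1000000
set_option synthInstance.maxHeartbeats 400000
set_option linter.style.haveILetI false
set_option backward.isDefEq.respectTransparency false

universe u

open CategoryTheory CategoryTheory.Limits MonoidalCategory CartesianMonoidalCategory AlgebraicGeometry
open AlgSp Groth.Agent.H12AlgSp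

namespace Groth.Agent.H19Quot

variable {S : Scheme.{u}} {R U W Y : Over S} {s t : R ⟶ U} {j : W ⟶ U} {p : W ⟶ Y}

/-- A point lifts along an open immersion when its image does. -/
theorem exists_lift_openImmersion {A B T : Over S} (i : A ⟶ B) [IsOpenImmersion i.left] (g : T ⟶ B)
    (h : Set.range g.left ⊆ Set.range i.left) : ∃ g' : T ⟶ A, g' ≫ i = g :=
  ⟨Over.homMk (IsOpenImmersion.lift i.left g.left h) (by
      rw [← Over.w i, IsOpenImmersion.lift_fac_assoc, Over.w g]),
    Over.OverMorphism.ext (IsOpenImmersion.lift_fac _ _ _)⟩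

/-- A stable open of a quotient piece has a quotient, which is an open of the quotient. -/
theorem exists_sub (Q : IsQuotOn s t j p) {N : Over S} (l : N ⟶ W) [IsOpenImmersion l.left]
    (hN : ∀ {T : Over S} (r : T ⟶ R) (a : T ⟶ N), a ≫ l ≫ j = r ≫ s → ∃ b : T ⟶ N, b ≫ l ≫ j = r ≫ t) :
    ∃ (Y' : Over S) (q : Y' ⟶ Y) (p' : N ⟶ Y'), IsOpenImmersion q.left ∧ p' ≫ q = l ≫ p ∧
      IsQuotOn s t (l ≫ j) p' := by
  haveI := Q.isOpenImmersion; haveI := Q.flat; haveI := Q.surjective; haveI := Q.lfp
  haveI : Flat (l ≫ p).left := by rw [Over.comp_left]; infer_instance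
  haveI : LocallyOfFinitePresentation (l ≫ p).left := by rw [Over.comp_left]; infer_instance
  let O : Y.left.Opens := ⟨Set.range (l ≫ p).left, (l ≫ p).left.isOpenMap.isOpen_range⟩
  let Y' : Over S := Over.mk (O.ι ≫ Y.hom)
  let q : Y' ⟶ Y := Over.homMk O.ι rfl
  haveI : IsOpenImmersion q.left := inferInstanceAs (IsOpenImmersion O.ι)
  obtain ⟨p', hp'⟩ := exists_lift_openImmersion q (l ≫ p) (by
    show Set.range (l ≫ p).left ⊆ Set.range O.ι
    rw [Scheme.Opens.range_ι]; rfl)
  haveI : Mono q.left := inferInstance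
  have hsq : IsPullback (𝟙 N.left) p'.left (l ≫ p).left q.left := by
    have hw : 𝟙 N.left ≫ (l ≫ p).left = p'.left ≫ q.left := by rw [Category.id_comp, ← Over.comp_left, hp']
    exact ⟨⟨hw⟩, ⟨PullbackCone.isLimitAux' _ fun c => ⟨c.fst, Category.comp_id _, (cancel_mono q.left).1 (by
      rw [Category.assoc]
      change c.fst ≫ p'.left ≫ q.left = c.snd ≫ q.left
      rw [← hw, Category.id_comp]; exact c.condition),
      fun {m} h₁ _ => (Category.comp_id m).symm.trans h₁⟩⟩⟩
  refine ⟨Y', q, p', inferInstance, hp', ⟨by rw [Over.comp_left]; infer_instance,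
    MorphismProperty.of_isPullback hsq inferInstance, ⟨fun y => ?_⟩,
    MorphismProperty.of_isPullback hsq inferInstance, fun r a ha => hN r a ha, fun {T} a b => ?_⟩⟩
  · obtain ⟨n, hn⟩ : q.left y ∈ Set.range (l ≫ p).left := y.2
    exact ⟨n, q.left.isOpenEmbedding.injective (by rw [← Scheme.Hom.comp_apply, ← Over.comp_left, hp']; exact hn)⟩
  · haveI : Mono q := (Over.forget S).mono_of_mono_map (inferInstance : Mono q.left)
    rw [← cancel_mono q, Category.assoc, Category.assoc, hp', ← Category.assoc, ← Category.assoc b, Q.rel]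
    simp only [Category.assoc]

/-- The preimage of an open of the quotient. -/
theorem exists_restrict (Q : IsQuotOn s t j p) (O : Y.left.Opens) :
    ∃ (N Y' : Over S) (l : N ⟶ W) (q : Y' ⟶ Y) (p' : N ⟶ Y'), IsOpenImmersion l.left ∧ IsOpenImmersion q.left ∧
      Set.range q.left = (O : Set Y.left) ∧ Set.range l.left = p.left ⁻¹' O ∧ p' ≫ q = l ≫ p ∧
      IsQuotOn s t (l ≫ j) p' := by
  let N : Over S := Over.mk ((p.left ⁻¹ᵁ O).ι ≫ W.hom)
  let l : N ⟶ W := Over.homMk (p.left ⁻¹ᵁ O).ι rfl
  haveI : IsOpenImmersion l.left := inferInstanceAs (IsOpenImmersion (p.left ⁻¹ᵁ O).ι)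
  obtain ⟨Y', q, p', hq, hp', Q'⟩ := exists_sub Q l (fun {T} r a ha => by
    obtain ⟨b, hb⟩ := Q.stable r (a ≫ l) (by rw [Category.assoc]; exact ha)
    have hab : (a ≫ l) ≫ p = b ≫ p := (Q.rel _ _).2 ⟨r, by rw [Category.assoc]; exact ha.symm, hb.symm⟩
    obtain ⟨b', hb'⟩ := exists_lift_openImmersion l b (by
      show Set.range b.left ⊆ Set.range (p.left ⁻¹ᵁ O).ι
      rw [Scheme.Opens.range_ι]
      rintro _ ⟨x, rfl⟩
      show p.left (b.left x) ∈ O
      rw [show p.left (b.left x) = p.left (l.left (a.left x)) from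
        (congrArg (fun f : T ⟶ Y => f.left x) hab).symm]
      exact (a.left x).2)
    exact ⟨b', by rw [← Category.assoc, hb', hb]⟩)
  haveI := Q.surjective; haveI := Q'.surjective
  have hr : Set.range l.left = p.left ⁻¹' O := Scheme.Opens.range_ι _
  refine ⟨N, Y', l, q, p', inferInstance, hq, ?_, hr, hp', Q'⟩
  have e : q.left '' Set.range p'.left = p.left '' Set.range l.left := by
    rw [← Set.range_comp, ← Set.range_comp, ← TopCat.coe_comp, ← TopCat.coe_comp, ← Scheme.Hom.comp_base,
      ← Scheme.Hom.comp_base, ← Over.comp_left, ← Over.comp_left, hp']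
  rw [p'.left.surjective.range_eq, Set.image_univ, hr, Set.image_preimage_eq _ p.left.surjective] at e
  exact e

/-- Transport along an automorphism preserving the relation. -/
theorem IsQuotOn.transport (Q : IsQuotOn s t j p) (φ : U ≅ U)
    (h₁ : ∀ {T : Over S} (r : T ⟶ R), ∃ r' : T ⟶ R, r' ≫ s = r ≫ s ≫ φ.hom ∧ r' ≫ t = r ≫ t ≫ φ.hom)
    (h₂ : ∀ {T : Over S} (r : T ⟶ R), ∃ r' : T ⟶ R, r' ≫ s = r ≫ s ≫ φ.inv ∧ r' ≫ t = r ≫ t ≫ φ.inv) :
    IsQuotOn s t (j ≫ φ.hom) p := by
  haveI := Q.isOpenImmersion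
  haveI : IsIso φ.hom.left := inferInstanceAs (IsIso ((Over.forget S).map φ.hom))
  refine ⟨by rw [Over.comp_left]; infer_instance, Q.flat, Q.surjective, Q.lfp, fun r a ha => ?_, fun a b => ?_⟩
  · obtain ⟨r', hs', ht'⟩ := h₂ r
    obtain ⟨b, hb⟩ := Q.stable r' a (by
      rw [hs', ← Category.assoc r, ← ha, Category.assoc, Category.assoc, Iso.hom_inv_id, Category.comp_id])
    exact ⟨b, by rw [← Category.assoc, hb, ht', Category.assoc, Category.assoc, Iso.inv_hom_id, Category.comp_id]⟩
  · rw [Q.rel]
    constructor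
    · rintro ⟨r, hs, ht⟩
      obtain ⟨r', hs', ht'⟩ := h₁ r
      exact ⟨r', by rw [hs', reassoc_of% hs], by rw [ht', reassoc_of% ht]⟩
    · rintro ⟨r, hs, ht⟩
      obtain ⟨r', hs', ht'⟩ := h₂ r
      exact ⟨r', by rw [hs', reassoc_of% hs, Iso.hom_inv_id, Category.comp_id],
        by rw [ht', reassoc_of% ht, Iso.hom_inv_id, Category.comp_id]⟩

/-- Base change of a quotient piece. -/
theorem IsQuotOn.whiskerRight (Q : IsQuotOn s t j p) (E : Over S) :
    IsQuotOn (s ▷ E) (t ▷ E) (j ▷ E) (p ▷ E) := by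
  haveI := Q.isOpenImmersion; haveI := Q.flat; haveI := Q.surjective; haveI := Q.lfp
  have h0 : ∀ (P : MorphismProperty Scheme.{u}) [P.IsStableUnderBaseChange] [P.IsMultiplicative] {A B : Over S}
      (f : A ⟶ B), P f.left → P (f ▷ E).left := fun P _ _ {A B} f hf =>
    MorphismProperty.pullbackMap (P := P) hf (P.id_mem E.left) (Over.w f).symm (Category.id_comp _).symm
  refine ⟨h0 @IsOpenImmersion j inferInstance, h0 @Flat p inferInstance, h0 @Surjective p inferInstance,
    h0 @LocallyOfFinitePresentation p inferInstance, fun {T} r a ha => ?_, fun {T} a b => ?_⟩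
  · obtain ⟨b, hb⟩ := Q.stable (r ≫ fst R E) (a ≫ fst W E) (by
      rw [Category.assoc, ← whiskerRight_fst, ← Category.assoc, ha, Category.assoc, whiskerRight_fst,
        ← Category.assoc])
    refine ⟨CartesianMonoidalCategory.lift b (r ≫ snd R E), CartesianMonoidalCategory.hom_ext _ _ ?_ ?_⟩
    · rw [Category.assoc, whiskerRight_fst, ← Category.assoc, lift_fst, hb, Category.assoc, Category.assoc,
        whiskerRight_fst]
    · rw [Category.assoc, whiskerRight_snd, lift_snd, Category.assoc, whiskerRight_snd]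
  · constructor
    · intro hab
      have e₁ := hab =≫ fst Y E
      have e₂ := hab =≫ snd Y E
      simp only [Category.assoc, whiskerRight_fst, whiskerRight_snd] at e₁ e₂
      obtain ⟨r, hs, ht⟩ := (Q.rel (a ≫ fst W E) (b ≫ fst W E)).1 (by simpa only [Category.assoc] using e₁)
      refine ⟨CartesianMonoidalCategory.lift r (a ≫ snd W E), CartesianMonoidalCategory.hom_ext _ _ ?_ ?_,
        CartesianMonoidalCategory.hom_ext _ _ ?_ ?_⟩
      · rw [Category.assoc, whiskerRight_fst, ← Category.assoc, lift_fst, hs, Category.assoc, Category.assoc,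
          whiskerRight_fst]
      · rw [Category.assoc, whiskerRight_snd, lift_snd, Category.assoc, whiskerRight_snd]
      · rw [Category.assoc, whiskerRight_fst, ← Category.assoc, lift_fst, ht, Category.assoc, Category.assoc,
          whiskerRight_fst]
      · rw [Category.assoc, whiskerRight_snd, lift_snd, Category.assoc, whiskerRight_snd, e₂]
    · rintro ⟨r, hs, ht⟩
      have s₁ := hs =≫ fst U E
      have t₁ := ht =≫ fst U E
      have s₂ := hs =≫ snd U E
      have t₂ := ht =≫ snd U E
      simp only [Category.assoc, whiskerRight_fst, whiskerRight_snd] at s₁ t₁ s₂ t₂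
      apply CartesianMonoidalCategory.hom_ext
      · simp only [Category.assoc, whiskerRight_fst]
        have := (Q.rel (a ≫ fst W E) (b ≫ fst W E)).2 ⟨r ≫ fst R E, by simpa only [Category.assoc] using s₁,
          by simpa only [Category.assoc] using t₁⟩
        simpa only [Category.assoc] using this
      · simp only [Category.assoc, whiskerRight_snd]
        rw [← s₂, ← t₂]

end Groth.Agent.H19Quot
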