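import Groth.Agent.H19Quot.LinearHom
import Groth.Prelude.Def_AlgGrp
import Mathlib

/-!
# The linear action of the general linear group on affine space
-/

set_option autoImplicit false
set_option maxHeartbeats 1000000
set_option synthInstance.maxHeartbeats 400000
set_option linter.style.haveILetI false
set_option backward.isDefEq.respectTransparency.types false

universe u

open CategoryTheory CategoryTheory.Limits MonoidalCategory CartesianMonoidalCategory MonObj GrpObj
  AlgebraicGeometry Matrix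

namespace Groth.Agent.H19Quot

attribute [local instance 2000] Hom.group Hom.monoid

noncomputable section

variable {k : Type u} [Field k] {n : ℕ}

/-- Affine space as a scheme over the field. -/
abbrev vecSpace (k : Type u) [Field k] (n : ℕ) : Over (Spec (CommRingCat.of k)) :=
  Over.mk (𝔸(ULift.{u} (Fin n); Spec (CommRingCat.of k)) ↘ Spec (CommRingCat.of k))

/-- The vector of functions of a point of affine space. -/
def vec {Z : Over (Spec (CommRingCat.of k))} (x : Z ⟶ vecSpace k n) : Fin n → Γ(Z.left, ⊤) :=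
  fun i => x.left.appTop (AffineSpace.coord (Spec (CommRingCat.of k)) (ULift.up i))

lemma vec_comp {Z' Z : Over (Spec (CommRingCat.of k))} (f : Z' ⟶ Z) (x : Z ⟶ vecSpace k n) :
    vec (f ≫ x) = f.left.appTop.hom ∘ vec x := by
  funext i
  show (f.left ≫ x.left).appTop _ = _
  rw [Scheme.Hom.comp_appTop]
  rfl

lemma vec_ext {Z : Over (Spec (CommRingCat.of k))} {x y : Z ⟶ vecSpace k n} (h : vec x = vec y) : x = y :=
  Over.OverMorphism.ext (AffineSpace.hom_ext ((Over.w x).trans (Over.w y).symm) fun i => congrFun h i.down)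

/-- The point with a given vector of functions. -/
def vecPoint {Z : Over (Spec (CommRingCat.of k))} (v : Fin n → Γ(Z.left, ⊤)) : Z ⟶ vecSpace k n :=
  Over.homMk (AffineSpace.homOfVector Z.hom (v ∘ ULift.down)) (AffineSpace.homOfVector_over _ _)

lemma vec_vecPoint {Z : Over (Spec (CommRingCat.of k))} (v : Fin n → Γ(Z.left, ⊤)) : vec (vecPoint v) = v :=
  funext fun i => AffineSpace.homOfVector_appTop_coord _ _ (ULift.up i)

lemma mat_one (Z : Over (Spec (CommRingCat.of k))) :
    H14GL.mat (1 : Z ⟶ FrB.GLn n (Spec (CommRingCat.of k))) = 1 :=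
  (H14GL.glnPts n (Spec (CommRingCat.of k))).one Z

/-- The morphism giving matrix times vector. -/
def glActHom (k : Type u) [Field k] (n : ℕ) :
    FrB.GLn n (Spec (CommRingCat.of k)) ⊗ vecSpace k n ⟶ vecSpace k n :=
  vecPoint ((H14GL.mat (fst (FrB.GLn n (Spec (CommRingCat.of k))) (vecSpace k n))).val *ᵥ vec (snd _ _))

lemma vec_lift_glActHom {Z : Over (Spec (CommRingCat.of k))} (g : Z ⟶ FrB.GLn n (Spec (CommRingCat.of k)))
    (x : Z ⟶ vecSpace k n) : vec (lift g x ≫ glActHom k n) = (H14GL.mat g).val *ᵥ vec x := by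
  rw [glActHom, vec_comp, vec_vecPoint]
  conv_rhs => rw [← lift_fst g x, H14GL.mat_comp]
  conv_rhs => arg 2; rw [← lift_snd g x, vec_comp]
  funext i
  show (lift g x).left.appTop.hom ((_ *ᵥ _) i) = _
  rw [RingHom.map_mulVec]
  rfl

/-- A representation acting on affine space. -/
def repAction {G : Over (Spec (CommRingCat.of k))} [GrpObj G] (ρ : G ⟶ FrB.GLn n (Spec (CommRingCat.of k)))
    [IsMonHom ρ] : AlgGrp.Action G (vecSpace k n) where
  act := (ρ ▷ vecSpace k n) ≫ glActHom k n
  one_act := by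
    apply vec_ext
    have e : η[G] ▷ vecSpace k n ≫ ρ ▷ vecSpace k n =
        lift (1 : 𝟙_ (Over (Spec (CommRingCat.of k))) ⊗ vecSpace k n ⟶ FrB.GLn n (Spec (CommRingCat.of k))) (snd _ _) := by
      rw [← comp_whiskerRight, IsMonHom.one_hom]
      apply CartesianMonoidalCategory.hom_ext
      · rw [whiskerRight_fst, lift_fst, Hom.one_def]
        congr 1
      · simp
    rw [← Category.assoc, e, vec_lift_glActHom, mat_one]
    simp [leftUnitor_hom]
  mul_act := by
    apply vec_ext
    set A := (G ⊗ G) ⊗ vecSpace k n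
    have e₁ : μ[G] ▷ vecSpace k n ≫ ρ ▷ vecSpace k n =
        lift ((fst (G ⊗ G) (vecSpace k n) ≫ fst G G ≫ ρ) * (fst (G ⊗ G) (vecSpace k n) ≫ snd G G ≫ ρ))
          (snd (G ⊗ G) (vecSpace k n)) := by
      apply CartesianMonoidalCategory.hom_ext
      · rw [Category.assoc, whiskerRight_fst, whiskerRight_fst_assoc, lift_fst, IsMonHom.mul_hom, Hom.mul_def,
          ← Category.assoc]
        congr 1
        apply CartesianMonoidalCategory.hom_ext <;> simp
      · simp
    have e₂ : G ◁ (ρ ▷ vecSpace k n ≫ glActHom k n) ≫ ρ ▷ vecSpace k n =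
        lift (fst _ _ ≫ ρ) (snd G (G ⊗ vecSpace k n) ≫ ρ ▷ vecSpace k n ≫ glActHom k n) := by
      apply CartesianMonoidalCategory.hom_ext <;> simp
    have e₃ : ρ ▷ vecSpace k n = lift (fst G (vecSpace k n) ≫ ρ) (snd G (vecSpace k n)) := by
      apply CartesianMonoidalCategory.hom_ext <;> simp
    rw [← Category.assoc, e₁, vec_lift_glActHom, H14GL.mat_mul]
    rw [show (α_ G G (vecSpace k n)).hom ≫ G ◁ (ρ ▷ vecSpace k n ≫ glActHom k n) ≫ ρ ▷ vecSpace k n ≫ glActHom k n =
      ((α_ G G (vecSpace k n)).hom ≫ lift (fst _ _ ≫ ρ) (snd G (G ⊗ vecSpace k n) ≫ ρ ▷ vecSpace k n ≫ glActHom k n)) ≫ glActHom k n by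
        rw [← e₂]; simp only [Category.assoc]]
    rw [comp_lift, vec_lift_glActHom, e₃]
    conv_rhs => rw [comp_lift_assoc, comp_lift_assoc, vec_lift_glActHom]
    rw [Units.val_mul, ← Matrix.mulVec_mulVec]
    simp

lemma vec_lift_repAction {G : Over (Spec (CommRingCat.of k))} [GrpObj G] (ρ : G ⟶ FrB.GLn n (Spec (CommRingCat.of k)))
    [IsMonHom ρ] {Z : Over (Spec (CommRingCat.of k))} (g : Z ⟶ G) (x : Z ⟶ vecSpace k n) :
    vec (lift g x ≫ (repAction ρ).act) = (H14GL.mat (g ≫ ρ)).val *ᵥ vec x := by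
  show vec (lift g x ≫ (ρ ▷ vecSpace k n) ≫ glActHom k n) = _
  rw [← Category.assoc, lift_whiskerRight, vec_lift_glActHom]

/-- The origin. -/
def vecOrigin (k : Type u) [Field k] (n : ℕ) : 𝟙_ (Over (Spec (CommRingCat.of k))) ⟶ vecSpace k n :=
  vecPoint 0

theorem isFixedPt_vecOrigin {G : Over (Spec (CommRingCat.of k))} [GrpObj G] (ρ : G ⟶ FrB.GLn n (Spec (CommRingCat.of k)))
    [IsMonHom ρ] : (repAction ρ).IsFixedPt (vecOrigin k n) := by
  intro T g
  apply vec_ext
  have h0 : vec (toUnit T ≫ vecOrigin k n) = 0 := by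
    rw [vec_comp, vecOrigin, vec_vecPoint]
    funext i
    simp
  rw [vec_lift_repAction, h0, Matrix.mulVec_zero]

/-- A representation with trivial action is trivial. -/
theorem eq_one_of_repAction_trivial {G : Over (Spec (CommRingCat.of k))} [GrpObj G] (ρ : G ⟶ FrB.GLn n (Spec (CommRingCat.of k)))
    [IsMonHom ρ] (h : (repAction ρ).act = snd G (vecSpace k n)) : ρ = 1 := by
  apply H14GL.mat_ext
  rw [mat_one]
  apply Units.ext
  ext i j
  have e := congrFun (vec_lift_repAction ρ (𝟙 G) (vecPoint (Pi.single j 1))) i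
  rw [h, lift_snd, vec_vecPoint, Category.id_comp] at e
  rw [Matrix.mulVec_single_one] at e
  simp only [Matrix.col_apply] at e
  rw [← e, Units.val_one, Matrix.one_apply, Pi.single_apply]

end

end Groth.Agent.H19Quot
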